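import Cfsg.Agent.H7Class.Decomp

/-!
# The polynomials of keys are atoms
-/

set_option autoImplicit false

namespace Cfsg.Agent.H7Class

open Polynomial

variable {F : Type*} [Field F] {ε : F}

/-- Monic, reciprocal and of even degree. -/
def Pal (p : F[X]) : Prop := p.Monic ∧ p.reverse = p ∧ Even p.natDegree

theorem pal_one : Pal (1 : F[X]) := ⟨monic_one, by rw [← C_1, reverse_C], by simp⟩

theorem Pal.mul {p r : F[X]} (hp : Pal p) (hr : Pal r) : Pal (p * r) :=
  ⟨hp.1.mul hr.1, by rw [reverse_mul_of_domain, hp.2.1, hr.2.1], by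
    rw [hp.1.natDegree_mul hr.1]; exact hp.2.2.add hr.2.2⟩

theorem Pal.pow {p : F[X]} (hp : Pal p) : ∀ k : ℕ, Pal (p ^ k)
  | 0 => by rw [pow_zero]; exact pal_one
  | k + 1 => by rw [pow_succ]; exact (hp.pow k).mul hp

theorem pal_multiset_prod (A : Multiset F[X]) (h : ∀ a ∈ A, Pal a) : Pal A.prod :=
  Multiset.prod_induction Pal A (fun _ _ => Pal.mul) pal_one h

theorem Pal.coeff_zero {p : F[X]} (hp : Pal p) : p.coeff 0 = 1 := by
  have h := coeff_zero_reverse p
  rw [hp.2.1, hp.1.leadingCoeff] at h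
  exact h

theorem Pal.coeff_sub {p : F[X]} (hp : Pal p) {j : ℕ} (hj : j ≤ p.natDegree) :
    p.coeff (p.natDegree - j) = p.coeff j := by
  conv_rhs => rw [← hp.2.1, coeff_reverse, revAt_le hj]

theorem Pal.ext {p r : F[X]} {k : ℕ} (hp : Pal p) (hr : Pal r) (hdp : p.natDegree = 2 * k)
    (hdr : r.natDegree = 2 * k) (h : ∀ j : Fin k, p.coeff ((j : ℕ) + 1) = r.coeff ((j : ℕ) + 1)) : p = r := by
  have low : ∀ j ≤ k, p.coeff j = r.coeff j := by
    intro j hj
    cases j with
    | zero => rw [hp.coeff_zero, hr.coeff_zero]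
    | succ j => exact h ⟨j, hj⟩
  ext j
  rcases le_or_gt j k with hj | hj
  · exact low j hj
  rcases le_or_gt j (2 * k) with hj' | hj'
  · rw [← hp.coeff_sub (hdp ▸ hj'), ← hr.coeff_sub (hdr ▸ hj'), hdp, hdr]
    exact low _ (by omega)
  · rw [coeff_eq_zero_of_natDegree_lt (hdp ▸ hj'), coeff_eq_zero_of_natDegree_lt (hdr ▸ hj')]

theorem reverse_of_star' {p : F[X]} (hs : star' p = p) (h0 : p.coeff 0 = 1) : p.reverse = p := by
  rwa [star', h0, inv_one, C_1, one_mul] at hs

theorem pal_sq {c : F} (hc : c * c = 1) : Pal ((X - C c) ^ 2) := by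
  have hc0 : c ≠ 0 := left_ne_zero_of_mul_eq_one hc
  refine ⟨(monic_X_sub_C c).pow 2, reverse_of_star' ?_ ?_, ?_⟩
  · rw [star'_pow, star'_X_sub_C hc0, inv_eq_of_mul_eq_one_left hc]
  · rw [coeff_zero_eq_eval_zero, eval_pow, eval_sub, eval_X, eval_C, zero_sub, neg_sq, pow_two, hc]
  · rw [natDegree_pow, natDegree_X_sub_C]; exact ⟨1, rfl⟩

theorem pal_pair {f : F[X]} (hm : f.Monic) (h0 : f.coeff 0 ≠ 0) : Pal (f * star' f) := by
  refine ⟨hm.mul (star'_monic h0), reverse_of_star' ?_ ?_, ?_⟩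
  · rw [star'_mul, star'_star' hm h0, mul_comm]
  · rw [mul_coeff_zero, coeff_zero_star', hm.leadingCoeff, mul_one, mul_inv_cancel₀ h0]
  · rw [hm.natDegree_mul (star'_monic h0), natDegree_star' h0]; exact ⟨_, rfl⟩

theorem eval_reverse_one (p : F[X]) : p.reverse.eval 1 = p.eval 1 := by
  letI := invertibleOne (α := F)
  have h := eval₂_reverse_mul_pow (RingHom.id F) (1 : F) p
  rw [invOf_one, one_pow, mul_one] at h
  exact h

theorem eval_reverse_neg_one (p : F[X]) : p.reverse.eval (-1) * (-1) ^ p.natDegree = p.eval (-1) := by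
  letI := invertibleOne (α := F)
  letI := invertibleNeg (1 : F)
  have h := eval₂_reverse_mul_pow (RingHom.id F) (-1 : F) p
  rw [invOf_neg, invOf_one] at h
  exact h

theorem pal_self (h2 : (2 : F) ≠ 0) {p : F[X]} (hi : Irreducible p) (hm : p.Monic) (h0 : p.coeff 0 ≠ 0)
    (hd : 2 ≤ p.natDegree) (hs : star' p = p) : Pal p := by
  have hnr : ∀ c : F, p.eval c ≠ 0 := fun c hc => by
    have h := eq_of_monic_of_associated (monic_X_sub_C c) hm
      ((irreducible_X_sub_C c).associated_of_dvd hi (dvd_iff_isRoot.2 hc))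
    rw [← h, natDegree_X_sub_C] at hd
    omega
  have hrev : p.reverse = C (p.coeff 0) * p := by
    conv_rhs => arg 2; rw [← hs, star']
    rw [← mul_assoc, ← C_mul, mul_inv_cancel₀ h0, C_1, one_mul]
  have h1 : p.coeff 0 = 1 := by
    have h := eval_reverse_one p
    rw [hrev, eval_mul, eval_C] at h
    exact mul_right_cancel₀ (hnr 1) (h.trans (one_mul _).symm)
  refine ⟨hm, reverse_of_star' hs h1, ?_⟩
  by_contra hev
  rw [Nat.not_even_iff_odd] at hev
  have h := eval_reverse_neg_one p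
  rw [reverse_of_star' hs h1, hev.neg_one_pow] at h
  have : (2 : F) * p.eval (-1) = 0 := by linear_combination -h
  exact hnr _ ((mul_eq_zero.1 this).resolve_left h2)

open scoped Classical in
/-- The atom containing a prime. -/
noncomputable def atomOf (ε : F) (e : ℕ) (p : F[X]) : F[X] :=
  if ∃ c : F, c * c = 1 ∧ p = X - C c then (if ε * (-1) ^ (e - 1) = -1 then p ^ 2 else p)
  else (if star' p = p then p else p * star' p)

theorem Key.Valid.monic {k : Key F} (h : k.Valid ε) : k.g.Monic := by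
  rcases h.2 with ⟨-, f, hg, -, hm, h0, -⟩ | ⟨-, -, hm, -⟩ | ⟨-, c, hg, -⟩ | ⟨c, hg, -⟩
  · rw [hg]; exact hm.mul (star'_monic h0)
  · exact hm
  · rw [hg]; exact (monic_X_sub_C c).pow 2
  · rw [hg]; exact monic_X_sub_C c

theorem Key.Valid.natDegree_pos {k : Key F} (h : k.Valid ε) : 0 < k.g.natDegree := by
  rcases h.2 with ⟨-, f, hg, hi, hm, h0, -⟩ | ⟨-, hi, -⟩ | ⟨-, c, hg, -⟩ | ⟨c, hg, -⟩
  · rw [hg, hm.natDegree_mul (star'_monic h0)]; have := hi.natDegree_pos; omega
  · exact hi.natDegree_pos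
  · rw [hg, natDegree_pow, natDegree_X_sub_C]; omega
  · rw [hg, natDegree_X_sub_C]; omega

/-- A key of degree one is a slot. -/
theorem Key.Valid.slot {k : Key F} (h : k.Valid ε) (hd : k.g.natDegree = 1) : k.IsSlot ε := by
  refine ⟨h.1, ?_⟩
  rcases h.2 with ⟨-, f, hg, hi, hm, h0, -⟩ | ⟨-, -, -, -, hd', -⟩ | ⟨-, c, hg, -⟩ | hs
  · rw [hg, hm.natDegree_mul (star'_monic h0), natDegree_star' h0] at hd; omega
  · omega
  · rw [hg, natDegree_pow, natDegree_X_sub_C] at hd; omega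
  · exact hs

theorem Key.Valid.slot_of_flag {k : Key F} (h : k.Valid ε) (hf : k.flag = true) : k.IsSlot ε := by
  refine ⟨h.1, ?_⟩
  rcases h.2 with ⟨h', -⟩ | ⟨h', -⟩ | ⟨h', -⟩ | hs
  · rw [hf] at h'; exact absurd h' (by simp)
  · rw [hf] at h'; exact absurd h' (by simp)
  · rw [hf] at h'; exact absurd h' (by simp)
  · exact hs

theorem Key.Valid.pal (h2 : (2 : F) ≠ 0) {k : Key F} (h : k.Valid ε) (hd : k.g.natDegree ≠ 1) : Pal k.g := by
  rcases h.2 with ⟨-, f, hg, -, hm, h0, -⟩ | ⟨-, hi, hm, h0, hd', hs⟩ | ⟨-, c, hg, hc, -⟩ | ⟨c, hg, -⟩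
  · rw [hg]; exact pal_pair hm h0
  · exact pal_self h2 hi hm h0 hd' hs
  · rw [hg]; exact pal_sq hc
  · exact absurd (by rw [hg, natDegree_X_sub_C]) hd

theorem atom_eq (h2 : (2 : F) ≠ 0) {k : Key F} (h : k.Valid ε) {p : F[X]} (hi : Irreducible p) (hm : p.Monic)
    (hp : p ∣ k.g) : k.g = atomOf ε k.e p := by
  classical
  have hneg : (1 : F) ≠ -1 := fun h => h2 (by linear_combination h)
  have hfix : ∀ c : F, c * c = 1 → star' (X - C c) = X - C c := fun c hc => by
    rw [star'_X_sub_C (left_ne_zero_of_mul_eq_one hc), inv_eq_of_mul_eq_one_left hc]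
  rcases h.2 with ⟨-, f, hg, hif, hmf, h0, hne⟩ | ⟨-, hig, hmg, h0, hd, hs⟩ | ⟨-, c, hg, hc, hsg⟩ |
      ⟨c, hg, hc, hsg⟩
  · rw [hg] at hp
    have key : ∀ r : F[X], star' r ≠ r → atomOf ε k.e r = r * star' r := fun r hr => by
      rw [atomOf, if_neg, if_neg hr]
      rintro ⟨c, hc, rfl⟩
      exact hr (hfix c hc)
    rcases hi.prime.dvd_or_dvd hp with hp | hp
    · obtain rfl := eq_of_monic_of_associated hm hmf (hi.associated_of_dvd hif hp)
      rw [key _ hne, hg]
    · obtain rfl := eq_of_monic_of_associated hm (star'_monic h0)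
        (hi.associated_of_dvd (irreducible_star' hif hmf h0) hp)
      rw [key _ (by rw [star'_star' hmf h0]; exact hne.symm), hg, star'_star' hmf h0, mul_comm]
  · obtain rfl := eq_of_monic_of_associated hm hmg (hi.associated_of_dvd hig hp)
    rw [atomOf, if_neg, if_pos hs]
    rintro ⟨c, -, hc⟩
    rw [hc, natDegree_X_sub_C] at hd
    omega
  · rw [hg] at hp
    obtain rfl := eq_of_monic_of_associated hm (monic_X_sub_C c)
      (hi.associated_of_dvd (irreducible_X_sub_C c) (hi.prime.dvd_of_dvd_pow hp))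
    rw [atomOf, if_pos ⟨c, hc, rfl⟩, if_pos hsg, hg]
  · rw [hg] at hp
    obtain rfl := eq_of_monic_of_associated hm (monic_X_sub_C c)
      (hi.associated_of_dvd (irreducible_X_sub_C c) hp)
    rw [atomOf, if_pos ⟨c, hc, rfl⟩, if_neg (by rw [hsg]; exact hneg), hg]

/-- Atoms at one exponent are determined by their product. -/
theorem atoms_unique (h2 : (2 : F) ≠ 0) (e : ℕ) :
    ∀ A B : Multiset F[X], (∀ a ∈ A, ∃ k : Key F, k.Valid ε ∧ k.e = e ∧ k.g = a) →
      (∀ a ∈ B, ∃ k : Key F, k.Valid ε ∧ k.e = e ∧ k.g = a) → A.prod = B.prod → A = B := by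
  classical
  intro A
  induction A using Multiset.induction with
  | empty =>
    intro B _ hB h
    by_contra hne
    obtain ⟨b, hb⟩ := Multiset.exists_mem_of_ne_zero (Ne.symm hne)
    obtain ⟨k, hk, -, rfl⟩ := hB b hb
    have hu : IsUnit k.g := isUnit_of_dvd_one (by rw [← Multiset.prod_zero, h]; exact Multiset.dvd_prod hb)
    have := natDegree_eq_zero_of_isUnit hu
    have := hk.natDegree_pos
    omega
  | cons a A ih =>
    intro B hA hB h
    obtain ⟨k, hk, hke, rfl⟩ := hA a (Multiset.mem_cons_self _ _)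
    obtain ⟨p, hpm, hpi, hpd⟩ := exists_monic_irreducible_factor k.g fun hu => by
      have := natDegree_eq_zero_of_isUnit hu
      have := hk.natDegree_pos
      omega
    have hpB : p ∣ B.prod := by rw [← h, Multiset.prod_cons]; exact dvd_mul_of_dvd_left hpd _
    obtain ⟨b, hb, hpb⟩ := hpi.prime.exists_mem_multiset_dvd hpB
    obtain ⟨k', hk', hke', rfl⟩ := hB b hb
    have hg : k'.g = k.g := by rw [atom_eq h2 hk' hpi hpm hpb, atom_eq h2 hk hpi hpm hpd, hke, hke']
    rw [hg] at hb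
    rw [← Multiset.cons_erase hb] at h ⊢
    rw [Multiset.prod_cons, Multiset.prod_cons] at h
    rw [ih (B.erase k.g) (fun a ha => hA a (Multiset.mem_cons_of_mem ha))
      (fun a ha => hB a (Multiset.mem_of_mem_erase ha)) (mul_left_cancel₀ hk.monic.ne_zero h)]

end Cfsg.Agent.H7Class
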