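import Mathlib

/-!
# Spaces with a form and an isometry

A structure is a space with a non-degenerate bilinear form which is symmetric up to the sign `ε` and an
isometry `T` of it.  Isomorphism classes of structures are classes of isometry groups.
-/

set_option autoImplicit false

namespace Cfsg.Agent.H7Class

open Polynomial

variable {F : Type*} [Field F] {ε : F}
  {V W U : Type*} [AddCommGroup V] [Module F V] [AddCommGroup W] [Module F W] [AddCommGroup U] [Module F U]

/-- The normalised reversal. -/
noncomputable def star' (f : F[X]) : F[X] := C (f.coeff 0)⁻¹ * f.reverse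

variable (F) in
/-- A space with a form and an isometry. -/
structure Str (ε : F) (V : Type*) [AddCommGroup V] [Module F V] where
  T : V ≃ₗ[F] V
  B : LinearMap.BilinForm F V
  sym : ∀ u v, B u v = ε * B v u
  inv : ∀ u v, B (T u) (T v) = B u v
  nd : ∀ u, (∀ v, B u v = 0) → u = 0

namespace Str

variable (X : Str F ε V)

/-- A polynomial in `T`. -/
noncomputable def ev (h : F[X]) : Module.End F V := aeval (X.T : Module.End F V) h

/-- A polynomial in `T⁻¹`. -/
noncomputable def evi (h : F[X]) : Module.End F V := aeval (X.T.symm : Module.End F V) h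

theorem ev_mul (h k : F[X]) (v : V) : X.ev (h * k) v = X.ev h (X.ev k v) := by
  simp [ev, Module.End.mul_apply]

theorem ev_add (h k : F[X]) (v : V) : X.ev (h + k) v = X.ev h v + X.ev k v := by simp [ev]

theorem ev_sub (h k : F[X]) (v : V) : X.ev (h - k) v = X.ev h v - X.ev k v := by simp [ev]

theorem ev_one (v : V) : X.ev 1 v = v := by simp [ev]

theorem ev_zero (v : V) : X.ev 0 v = 0 := by simp [ev]

theorem ev_C (c : F) (v : V) : X.ev (C c) v = c • v := by simp [ev, Module.algebraMap_end_apply]

theorem ev_X (v : V) : X.ev Polynomial.X v = X.T v := by simp [ev]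

theorem ev_comm (h k : F[X]) (v : V) : X.ev h (X.ev k v) = X.ev k (X.ev h v) := by
  rw [← X.ev_mul, mul_comm, X.ev_mul]

theorem ev_eq_zero_of_dvd {h k : F[X]} {v : V} (hk : h ∣ k) (hv : X.ev h v = 0) : X.ev k v = 0 := by
  obtain ⟨c, rfl⟩ := hk
  rw [mul_comm, X.ev_mul, hv, map_zero]

theorem adj (h : F[X]) (u v : V) : X.B (X.ev h u) v = X.B u (X.evi h v) := by
  induction h using Polynomial.induction_on' generalizing u v with
  | add p q hp hq => simp [ev, evi, map_add] at *; rw [hp, hq]
  | monomial i a =>
    simp only [ev, evi, aeval_monomial, Module.End.mul_apply, Module.algebraMap_end_apply, map_smul,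
      LinearMap.smul_apply]
    congr 1
    induction i generalizing u v with
    | zero => simp
    | succ i ih =>
      rw [pow_succ', pow_succ, Module.End.mul_apply, Module.End.mul_apply, ← ih]
      conv_lhs => rw [show v = X.T (X.T.symm v) from (X.T.apply_symm_apply v).symm]
      exact X.inv _ _

theorem sym_zero {u v : V} (h : X.B u v = 0) : X.B v u = 0 := by rw [X.sym, h, mul_zero]

theorem nd' (v : V) (h : ∀ u, X.B u v = 0) : v = 0 := X.nd v fun u => X.sym_zero (h u)

theorem ext_left {u u' : V} (h : ∀ v, X.B u v = X.B u' v) : u = u' :=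
  sub_eq_zero.1 (X.nd _ fun v => by rw [map_sub, LinearMap.sub_apply, h, sub_self])

/-! ### The inverse as a polynomial -/

section Finite

variable [Finite V]

theorem exists_order : ∃ m : ℕ, ∀ v, X.ev (Polynomial.X ^ (m + 1)) v = v := by
  have : Finite (V ≃ₗ[F] V) := Finite.of_injective (fun e => (e : V → V)) DFunLike.coe_injective
  obtain ⟨m, hm⟩ : ∃ m, orderOf X.T = m + 1 := ⟨orderOf X.T - 1, by have := orderOf_pos X.T; omega⟩
  have key : ∀ k v, X.ev (Polynomial.X ^ k) v = (X.T ^ k) v := by
    intro k
    induction k with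
    | zero => intro v; simp [ev]
    | succ k ih =>
      intro v
      rw [pow_succ', X.ev_mul, X.ev_X, ih, pow_succ']
      rfl
  exact ⟨m, fun v => by rw [key, ← hm, pow_orderOf_eq_one]; rfl⟩

/-- An exponent representing the inverse. -/
noncomputable def invExp : ℕ := X.exists_order.choose

theorem ev_order (v : V) : X.ev (Polynomial.X ^ (X.invExp + 1)) v = v := X.exists_order.choose_spec v

/-- The adjoint of a polynomial. -/
noncomputable def adjPoly (h : F[X]) : F[X] := h.comp (Polynomial.X ^ X.invExp)

theorem ev_adjPoly (h : F[X]) : X.ev (X.adjPoly h) = X.evi h := by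
  have e : (X.T.symm : Module.End F V) = X.ev (Polynomial.X ^ X.invExp) := by
    refine LinearMap.ext fun v => X.T.injective ?_
    rw [LinearEquiv.coe_coe, LinearEquiv.apply_symm_apply, ← X.ev_X, ← X.ev_mul, ← pow_succ', X.ev_order]
  rw [adjPoly, ev, aeval_comp, evi, e, ev]

theorem adj' (h : F[X]) (u v : V) : X.B (X.ev h u) v = X.B u (X.ev (X.adjPoly h) v) := by
  rw [X.adj, X.ev_adjPoly]

end Finite

/-! ### Reversal -/

theorem ev_reverse (f : F[X]) (v : V) :
    X.ev f.reverse v = X.ev (Polynomial.X ^ f.natDegree) (X.evi f v) := by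
  have key : ∀ i v, (((X.T : Module.End F V) ^ i)) (((X.T.symm : Module.End F V) ^ i) v) = v := by
    intro i
    induction i with
    | zero => intro v; simp
    | succ i ih =>
      intro v
      rw [pow_succ', pow_succ, Module.End.mul_apply, Module.End.mul_apply, ih, LinearEquiv.coe_coe,
        LinearEquiv.coe_coe, LinearEquiv.apply_symm_apply]
  simp only [ev, evi, map_pow, aeval_X]
  rw [aeval_eq_sum_range' (n := f.natDegree + 1) (Nat.lt_succ_of_le f.reverse_natDegree_le),
    aeval_eq_sum_range' (n := f.natDegree + 1) (Nat.lt_succ_self _) (X.T.symm : Module.End F V),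
    LinearMap.sum_apply, LinearMap.sum_apply, map_sum,
    ← Finset.sum_range_reflect (fun i => (f.reverse.coeff i • (X.T : Module.End F V) ^ i) v)]
  refine Finset.sum_congr rfl fun i hi => ?_
  rw [Finset.mem_range] at hi
  rw [show f.natDegree + 1 - 1 - i = f.natDegree - i by omega, coeff_reverse, revAt_le (by omega),
    LinearMap.smul_apply, LinearMap.smul_apply, map_smul, show f.natDegree - (f.natDegree - i) = i by omega]
  congr 1
  conv_rhs => rw [show f.natDegree = (f.natDegree - i) + i by omega, pow_add, Module.End.mul_apply, key]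

theorem pow_injective (k : ℕ) : Function.Injective (X.ev (Polynomial.X ^ k)) := by
  induction k with
  | zero => intro u v h; simpa [ev] using h
  | succ k ih =>
    intro u v h
    rw [pow_succ', X.ev_mul, X.ev_mul, X.ev_X, X.ev_X] at h
    exact ih (X.T.injective h)

theorem evi_eq_zero_iff {f : F[X]} (h0 : f.coeff 0 ≠ 0) {v : V} :
    X.evi f v = 0 ↔ X.ev (star' f) v = 0 := by
  rw [star', X.ev_mul, X.ev_C, smul_eq_zero, X.ev_reverse, or_iff_right (inv_ne_zero h0)]
  exact ⟨fun h => by rw [h, map_zero], fun h => X.pow_injective _ (h.trans (map_zero _).symm)⟩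

/-! ### Constructions -/

/-- The form multiplied by a scalar. -/
noncomputable def scale (c : F) (hc : c ≠ 0) : Str F ε V where
  T := X.T
  B := c • X.B
  sym u v := by simp only [LinearMap.smul_apply, smul_eq_mul]; rw [X.sym u v]; ring
  inv u v := by simp only [LinearMap.smul_apply, smul_eq_mul]; rw [X.inv]
  nd u h := X.nd u fun v => by
    have := h v
    simp only [LinearMap.smul_apply, smul_eq_mul] at this
    exact (mul_eq_zero.1 this).resolve_left hc

theorem scale_B (c : F) (hc : c ≠ 0) (u v : V) : (X.scale c hc).B u v = c * X.B u v := rfl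

/-- The orthogonal sum. -/
noncomputable def prod (Y : Str F ε W) : Str F ε (V × W) where
  T := X.T.prodCongr Y.T
  B := X.B.comp (LinearMap.fst F V W) (LinearMap.fst F V W) +
    Y.B.comp (LinearMap.snd F V W) (LinearMap.snd F V W)
  sym u v := by simp [mul_add, ← X.sym, ← Y.sym]
  inv u v := by simp [X.inv, Y.inv]
  nd u h := by
    refine Prod.ext (X.nd _ fun v => ?_) (Y.nd _ fun v => ?_)
    · simpa using h (v, 0)
    · simpa using h (0, v)

theorem prod_B (Y : Str F ε W) (u v : V × W) : (X.prod Y).B u v = X.B u.1 v.1 + Y.B u.2 v.2 := rfl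

theorem prod_T (Y : Str F ε W) (u : V × W) : (X.prod Y).T u = (X.T u.1, Y.T u.2) := rfl

/-- An invariant non-degenerate subspace. -/
noncomputable def restrict (Z : Submodule F V) (hT : ∀ v ∈ Z, X.T v ∈ Z) [FiniteDimensional F V]
    (hnd : ∀ u ∈ Z, (∀ v ∈ Z, X.B u v = 0) → u = 0) : Str F ε Z where
  T := LinearEquiv.ofInjectiveEndo ((X.T : V →ₗ[F] V).restrict hT) fun u v h =>
    Subtype.ext (X.T.injective (congrArg Subtype.val h))
  B := X.B.comp Z.subtype Z.subtype
  sym u v := X.sym u v
  inv u v := X.inv u v
  nd u h := Subtype.ext (hnd u u.2 fun v hv => h ⟨v, hv⟩)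

end Str

/-- An isomorphism of structures. -/
structure Iso (X : Str F ε V) (Y : Str F ε W) where
  e : V ≃ₗ[F] W
  map_T : ∀ v, e (X.T v) = Y.T (e v)
  map_B : ∀ u v, Y.B (e u) (e v) = X.B u v

namespace Iso

variable {X : Str F ε V} {Y : Str F ε W} {Z : Str F ε U}

/-- The identity. -/
def refl (X : Str F ε V) : Iso X X := ⟨LinearEquiv.refl F V, fun _ => rfl, fun _ _ => rfl⟩

/-- The inverse. -/
def symm (i : Iso X Y) : Iso Y X where
  e := i.e.symm
  map_T v := i.e.injective (by rw [i.map_T, i.e.apply_symm_apply, i.e.apply_symm_apply])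
  map_B u v := by
    have := i.map_B (i.e.symm u) (i.e.symm v)
    rw [i.e.apply_symm_apply, i.e.apply_symm_apply] at this
    exact this.symm

/-- The composition. -/
def trans (i : Iso X Y) (j : Iso Y Z) : Iso X Z where
  e := i.e.trans j.e
  map_T v := by simp [i.map_T, j.map_T]
  map_B u v := by simp [i.map_B, j.map_B]

theorem map_ev (i : Iso X Y) (h : F[X]) (v : V) : i.e (X.ev h v) = Y.ev h (i.e v) := by
  induction h using Polynomial.induction_on generalizing v with
  | C a => simp [Str.ev_C]
  | add p q hp hq => simp [Str.ev_add, hp, hq]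
  | monomial n a ih =>
    rw [pow_succ, ← mul_assoc, X.ev_mul, Y.ev_mul, ih, X.ev_X, i.map_T, Y.ev_X]

/-- Sums of isomorphisms. -/
def prod {V' W' : Type*} [AddCommGroup V'] [Module F V'] [AddCommGroup W'] [Module F W']
    {X' : Str F ε V'} {Y' : Str F ε W'} (i : Iso X Y) (j : Iso X' Y') : Iso (X.prod X') (Y.prod Y') where
  e := i.e.prodCongr j.e
  map_T v := by simp [Str.prod_T, i.map_T, j.map_T]
  map_B u v := by simp [Str.prod_B, i.map_B, j.map_B]

/-- Commutativity. -/
def prodComm (X : Str F ε V) (Y : Str F ε W) : Iso (X.prod Y) (Y.prod X) where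
  e := LinearEquiv.prodComm F V W
  map_T v := by simp [Str.prod_T]
  map_B u v := by simp [Str.prod_B, add_comm]

/-- Associativity. -/
def prodAssoc (X : Str F ε V) (Y : Str F ε W) (Z : Str F ε U) :
    Iso ((X.prod Y).prod Z) (X.prod (Y.prod Z)) where
  e := LinearEquiv.prodAssoc F V W U
  map_T v := by simp [Str.prod_T]
  map_B u v := by simp [Str.prod_B, add_assoc]

/-- Scaling. -/
def scale (i : Iso X Y) (c : F) (hc : c ≠ 0) : Iso (X.scale c hc) (Y.scale c hc) where
  e := i.e
  map_T := i.map_T
  map_B u v := by rw [Str.scale_B, Str.scale_B, i.map_B]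

/-- Scaling by a square. -/
noncomputable def scaleSquare (X : Str F ε V) {c d : F} (hc : c ≠ 0) (hd : d * d = c) :
    Iso (X.scale c hc) X where
  e := LinearEquiv.smulOfNeZero F V d (by rintro rfl; simp at hd; exact hc hd.symm)
  map_T v := by simp [Str.scale]
  map_B u v := by
    simp [Str.scale_B]
    rw [← hd]; ring

/-- Two sums of squares. -/
noncomputable def scaleTwo (X : Str F ε V) {c a b : F} (hc : c ≠ 0) (hab : a * a + b * b = c) :
    Iso ((X.scale c hc).prod (X.scale c hc)) (X.prod X) where
  e :=
    { toFun := fun u => (a • u.1 - b • u.2, b • u.1 + a • u.2)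
      map_add' := fun u v => by ext <;> simp <;> abel
      map_smul' := fun r u => by
        ext <;> simp [smul_sub, smul_comm r]
      invFun := fun u => (c⁻¹ • (a • u.1 + b • u.2), c⁻¹ • (a • u.2 - b • u.1))
      left_inv := fun u => by
        ext
        · show c⁻¹ • (a • (a • u.1 - b • u.2) + b • (b • u.1 + a • u.2)) = u.1
          have h1 : a • (a • u.1 - b • u.2) + b • (b • u.1 + a • u.2) = c • u.1 := by
            rw [← hab]; module
          rw [h1, inv_smul_smul₀ hc]
        · show c⁻¹ • (a • (b • u.1 + a • u.2) - b • (a • u.1 - b • u.2)) = u.2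
          have h1 : a • (b • u.1 + a • u.2) - b • (a • u.1 - b • u.2) = c • u.2 := by
            rw [← hab]; module
          rw [h1, inv_smul_smul₀ hc]
      right_inv := fun u => by
        ext
        · show a • (c⁻¹ • (a • u.1 + b • u.2)) - b • (c⁻¹ • (a • u.2 - b • u.1)) = u.1
          have h1 : a • (c⁻¹ • (a • u.1 + b • u.2)) - b • (c⁻¹ • (a • u.2 - b • u.1))
              = c⁻¹ • ((a * a + b * b) • u.1) := by module
          rw [h1, hab, inv_smul_smul₀ hc]
        · show b • (c⁻¹ • (a • u.1 + b • u.2)) + a • (c⁻¹ • (a • u.2 - b • u.1)) = u.2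
          have h1 : b • (c⁻¹ • (a • u.1 + b • u.2)) + a • (c⁻¹ • (a • u.2 - b • u.1))
              = c⁻¹ • ((a * a + b * b) • u.2) := by module
          rw [h1, hab, inv_smul_smul₀ hc] }
  map_T v := by
    simp [Str.prod_T, Str.scale]
  map_B u v := by
    simp [Str.prod_B, Str.scale_B]
    rw [← hab]; ring

end Iso

end Cfsg.Agent.H7Class
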