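import Mathlib

/-!
# Numerical bounds for the products
-/

set_option autoImplicit false
set_option maxRecDepth 4000

namespace Cfsg.Agent.H7Class

/-- The bound for `1 / √3`. -/
def yb : ℚ := 41 / 71

/-- The factor of a polynomial part at an index. -/
def kf (i : ℕ) : ℚ := if i = 0 then 1 else (1 - (1 / 3) ^ i)⁻¹

/-- The factor of the bits at an index, the slots being the exponents of parity `p`. -/
def gf (p : ℕ) (z : ℚ) (i : ℕ) : ℚ := if (i + 1) % 2 = p then (1 + z ^ (i + 1)) ^ 4 else 1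

theorem prod_le_of_potential (a pot : ℕ → ℚ) (m : ℕ) (C : ℚ) (h1 : ∀ i, 1 ≤ a i) (hpot : ∀ i, m ≤ i → 1 ≤ pot i)
    (hstep : ∀ i, m ≤ i → a i * pot (i + 1) ≤ pot i) (hbase : (∏ i ∈ Finset.range m, a i) * pot m ≤ C) (N : ℕ) :
    ∏ i ∈ Finset.range N, a i ≤ C := by
  have hpos : ∀ N, 0 ≤ ∏ i ∈ Finset.range N, a i := fun N => Finset.prod_nonneg fun i _ => le_trans zero_le_one (h1 i)
  have key : ∀ j, (∏ i ∈ Finset.range (m + j), a i) * pot (m + j) ≤ C := by
    intro j
    induction j with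
    | zero => exact hbase
    | succ j ih =>
      refine le_trans ?_ ih
      rw [← add_assoc, Finset.prod_range_succ, mul_assoc]
      exact mul_le_mul_of_nonneg_left (hstep _ (by omega)) (hpos _)
  have key' : ∀ j, ∏ i ∈ Finset.range (m + j), a i ≤ C := fun j =>
    le_trans (le_mul_of_one_le_right (hpos _) (hpot _ (by omega))) (key j)
  refine le_trans (Finset.prod_le_prod_of_subset_of_one_le
    (Finset.range_mono (show N ≤ m + N by omega)) (fun i _ => le_trans zero_le_one (h1 i))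
    fun i _ _ => h1 i) (key' N)

theorem one_le_kf (i : ℕ) : 1 ≤ kf i := by
  unfold kf
  split_ifs with h
  · exact le_rfl
  · have h1 : (1 / 3 : ℚ) ^ i < 1 := pow_lt_one₀ (by norm_num) (by norm_num) h
    have h3 : (0 : ℚ) ≤ (1 / 3) ^ i := by positivity
    rw [one_le_inv₀ (by linarith)]
    linarith

theorem prod_kf_le (N : ℕ) : ∏ i ∈ Finset.range N, kf i ≤ 179 / 100 := by
  refine prod_le_of_potential kf (fun i => 1 + 2 * (1 / 3) ^ i) 12 _ one_le_kf
    (fun i _ => le_add_of_nonneg_right (by positivity)) (fun i hi => ?_) ?_ N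
  · have h0 : i ≠ 0 := by omega
    rw [kf, if_neg h0, pow_succ]
    set u := (1 / 3 : ℚ) ^ i with hu
    have hu0 : 0 ≤ u := by positivity
    have hu1 : u ≤ (1 / 3) ^ 3 := pow_le_pow_of_le_one (by norm_num) (by norm_num) (by omega)
    have h1 : (0 : ℚ) < 1 - u := by norm_num at hu1; linarith
    rw [inv_mul_le_iff₀ h1]
    norm_num at hu1
    nlinarith
  · simp only [Finset.prod_range_succ, Finset.prod_range_zero, kf]
    norm_num

theorem one_le_gf (p : ℕ) (i : ℕ) : 1 ≤ gf p yb i := by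
  unfold gf
  split_ifs
  · exact one_le_pow₀ (le_add_of_nonneg_right (by unfold yb; positivity))
  · exact le_rfl

theorem gf_step (p i : ℕ) (hi : 16 ≤ i) :
    gf p yb i * (1 + 28 / 5 * yb ^ (i + 1)) ≤ 1 + 28 / 5 * yb ^ i := by
  have hy : (0 : ℚ) < yb := by unfold yb; norm_num
  set u := yb ^ (i + 1) with hu
  have hu0 : 0 ≤ u := by positivity
  have hu1 : u ≤ 1 / 10000 :=
    le_trans (pow_le_pow_of_le_one hy.le (by unfold yb; norm_num) (show 17 ≤ i + 1 by omega))
      (by unfold yb; norm_num)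
  have e : yb ^ i = u * (71 / 41) := by
    rw [hu, pow_succ]; unfold yb; ring
  have hg : gf p yb i ≤ 1 + 401 / 100 * u := by
    unfold gf
    split_ifs
    · rw [← hu]
      have h2 : (1 + u) ^ 2 ≤ 1 + 2001 / 1000 * u := by nlinarith
      calc (1 + u) ^ 4 = ((1 + u) ^ 2) ^ 2 := by ring
        _ ≤ (1 + 2001 / 1000 * u) ^ 2 := pow_le_pow_left₀ (by positivity) h2 2
        _ ≤ 1 + 401 / 100 * u := by nlinarith
    · linarith
  calc gf p yb i * (1 + 28 / 5 * u) ≤ (1 + 401 / 100 * u) * (1 + 28 / 5 * u) :=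
        mul_le_mul_of_nonneg_right hg (by positivity)
    _ ≤ 1 + 28 / 5 * yb ^ i := by rw [e]; nlinarith

theorem prod_gf_zero (N : ℕ) : ∏ i ∈ Finset.range N, gf 0 yb i ≤ 602 / 100 := by
  refine prod_le_of_potential _ (fun i => 1 + 28 / 5 * yb ^ i) 16 _ (one_le_gf 0)
    (fun i _ => le_add_of_nonneg_right (by unfold yb; positivity)) (gf_step 0) ?_ N
  simp only [Finset.prod_range_succ, Finset.prod_range_zero, gf, yb]
  norm_num

theorem prod_gf_one (N : ℕ) : ∏ i ∈ Finset.range N, gf 1 yb i ≤ 183 / 10 := by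
  refine prod_le_of_potential _ (fun i => 1 + 28 / 5 * yb ^ i) 16 _ (one_le_gf 1)
    (fun i _ => le_add_of_nonneg_right (by unfold yb; positivity)) (gf_step 1) ?_ N
  simp only [Finset.prod_range_succ, Finset.prod_range_zero, gf, yb]
  norm_num

theorem gf_neg_zero (i : ℕ) : gf 0 (-yb) i = gf 0 yb i := by
  unfold gf
  split_ifs with h
  · rw [(Nat.even_iff.2 h).neg_pow]
  · rfl

theorem prod_gf_neg_one (N : ℕ) (hN : 1 ≤ N) : ∏ i ∈ Finset.range N, gf 1 (-yb) i ≤ 1 / 25 := by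
  have hy : (0 : ℚ) ≤ yb ∧ yb ≤ 1 := by unfold yb; norm_num
  have h01 : ∀ i, 0 ≤ gf 1 (-yb) i ∧ gf 1 (-yb) i ≤ 1 := by
    intro i
    unfold gf
    split_ifs with h
    · rw [(Nat.odd_iff.2 h).neg_pow]
      have h1 : yb ^ (i + 1) ≤ 1 := pow_le_one₀ hy.1 hy.2
      have h3 : (0 : ℚ) ≤ yb ^ (i + 1) := pow_nonneg hy.1 _
      exact ⟨pow_nonneg (by linarith) 4, pow_le_one₀ (by linarith) (by linarith)⟩
    · exact ⟨zero_le_one, le_rfl⟩
  rw [← Finset.mul_prod_erase _ _ (Finset.mem_range.2 hN)]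
  refine le_trans (mul_le_of_le_one_right (h01 0).1 (Finset.prod_le_one (fun i _ => (h01 i).1) fun i _ => (h01 i).2)) ?_
  unfold gf yb
  norm_num

end Cfsg.Agent.H7Class
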