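import Cfsg.Agent.H7Class.Code
import Cfsg.Agent.H7Class.Series

/-!
# Counting the normal multisets
-/

set_option autoImplicit false

namespace Cfsg.Agent.H7Class

open Polynomial

variable {F : Type*} [Field F] [Fintype F] {ε : F} {n : ℕ}

theorem natDegree_palPoly_le (h2 : (2 : F) ≠ 0) {M : Multiset (Key F)} (hM : Normal ε n M) (i : Fin n) :
    (palPoly M ((i : ℕ) + 1)).natDegree ≤ n := by
  have h := param_weight h2 hM
  have h1 := Finset.single_le_sum (f := fun i : Fin n => ((i : ℕ) + 1) *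
    (2 * (param n M).2 i + ∑ c, bw ((param n M).1 i c))) (fun _ _ => Nat.zero_le _) (Finset.mem_univ i)
  rw [h] at h1
  rw [natDegree_palPoly h2 hM.valid i]
  refine le_trans ?_ (le_trans (Nat.le_mul_of_pos_left _ (Nat.succ_pos i)) h1)
  omega

theorem finite_normal (h2 : (2 : F) ≠ 0) : {M : Multiset (Key F) | Normal ε n M}.Finite := by
  refine Set.Finite.of_finite_image (f := fun M => ((param n M).1,
    fun (i : Fin n) (j : Fin (n + 1)) => (palPoly M ((i : ℕ) + 1)).coeff j)) (Set.toFinite _) ?_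
  intro M hM M' hM' h
  simp only [Prod.mk.injEq] at h
  refine param_injective h2 hM hM' h.1 fun i => Polynomial.ext fun j => ?_
  by_cases hj : j < n + 1
  · exact congrFun (congrFun h.2 i) ⟨j, hj⟩
  · rw [coeff_eq_zero_of_natDegree_lt, coeff_eq_zero_of_natDegree_lt]
    · have := natDegree_palPoly_le h2 hM' i; omega
    · have := natDegree_palPoly_le h2 hM i; omega

theorem card_le_fibres (h2 : (2 : F) ≠ 0) (s : Finset (Multiset (Key F))) (hs : ∀ M ∈ s, Normal ε n M)
    [DecidableEq ((Fin n → Fin 2 → Bool × Bool) × (Fin n → ℕ))] :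
    s.card ≤ ∑ p ∈ s.image (param n), Fintype.card F ^ ∑ i, p.2 i := by
  classical
  rw [Finset.card_eq_sum_card_image (param n) s]
  refine Finset.sum_le_sum fun p _ => ?_
  calc (s.filter fun M => param n M = p).card
      ≤ (Finset.univ : Finset ((i : Fin n) → Fin (p.2 i) → F)).card := by
        refine Finset.card_le_card_of_injOn
          (fun M => fun i j => (palPoly M ((i : ℕ) + 1)).coeff ((j : ℕ) + 1)) (fun _ _ => Finset.mem_univ _) ?_
        intro M hM M' hM' h
        rw [Finset.mem_coe, Finset.mem_filter] at hM hM'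
        have hMM := hM.2.trans hM'.2.symm
        refine param_injective h2 (hs M hM.1) (hs M' hM'.1) (congrArg Prod.fst hMM) fun i => ?_
        refine Pal.ext (k := p.2 i) (palPoly_pal h2 (hs M hM.1).valid _) (palPoly_pal h2 (hs M' hM'.1).valid _) ?_ ?_
          (fun j => congrFun (congrFun h i) j)
        · rw [natDegree_palPoly h2 (hs M hM.1).valid, hM.2]
        · rw [natDegree_palPoly h2 (hs M' hM'.1).valid, hM'.2]
    _ = Fintype.card F ^ ∑ i, p.2 i := by
        rw [Finset.card_univ, Fintype.card_pi, ← Finset.prod_pow_eq_pow_sum]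
        exact Finset.prod_congr rfl fun i _ => by rw [Fintype.card_fun, Fintype.card_fin]

/-- The factor of the bits. -/
def bitTerm (z : ℚ) (β : Fin (2 * n) → Fin 2 → Bool × Bool) : ℚ :=
  ∏ i : Fin (2 * n), ∏ c : Fin 2, (z ^ ((i : ℕ) + 1)) ^ bw (β i c)

/-- The factor of the degrees. -/
def degTerm (k : Fin (2 * n) → ℕ) : ℚ := ∏ i : Fin (2 * n), ((1 / 3 : ℚ) ^ (i : ℕ)) ^ k i

theorem bitTerm_eq (z : ℚ) (β : Fin (2 * n) → Fin 2 → Bool × Bool) :
    bitTerm z β = z ^ ∑ i : Fin (2 * n), ((i : ℕ) + 1) * ∑ c, bw (β i c) := by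
  rw [bitTerm, ← Finset.prod_pow_eq_pow_sum]
  refine Finset.prod_congr rfl fun i _ => ?_
  rw [Finset.prod_pow_eq_pow_sum, pow_mul]

theorem pow_le_term {q : ℕ} (hq : 3 ≤ q) {β : Fin (2 * n) → Fin 2 → Bool × Bool} {k : Fin (2 * n) → ℕ}
    (h : ∑ i : Fin (2 * n), ((i : ℕ) + 1) * (2 * k i + ∑ c, bw (β i c)) = 2 * n) :
    ((q ^ ∑ i, k i : ℕ) : ℚ) ≤ (q : ℚ) ^ n * (degTerm k * ((bitTerm yb β + bitTerm (-yb) β) / 2)) := by
  set R := ∑ i : Fin (2 * n), ((i : ℕ) + 1) * ∑ c, bw (β i c) with hR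
  set D₀ := ∑ i : Fin (2 * n), (i : ℕ) * k i with hD₀
  have hsplit : 2 * n = 2 * ∑ i, k i + 2 * D₀ + R := by
    rw [hR, hD₀, Finset.mul_sum, Finset.mul_sum, ← Finset.sum_add_distrib, ← Finset.sum_add_distrib]
    exact h.symm.trans (Finset.sum_congr rfl fun i _ => by ring)
  obtain ⟨t, ht⟩ : ∃ t, R = 2 * t := ⟨R / 2, by omega⟩
  have hn : n = ∑ i, k i + (D₀ + t) := by omega
  have hdeg : degTerm k = (1 / 3 : ℚ) ^ D₀ := by
    rw [degTerm, hD₀, ← Finset.prod_pow_eq_pow_sum]
    exact Finset.prod_congr rfl fun i _ => (pow_mul _ _ _).symm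
  have hbit : (bitTerm yb β + bitTerm (-yb) β) / 2 = (yb ^ 2) ^ t := by
    rw [bitTerm_eq, bitTerm_eq, ← hR, ht, pow_mul, pow_mul, neg_sq]; ring
  rw [hdeg, hbit, show (q : ℚ) ^ n = (q : ℚ) ^ (∑ i, k i + (D₀ + t)) from congrArg _ hn, pow_add, Nat.cast_pow,
    mul_assoc]
  refine le_mul_of_one_le_right (by positivity) ?_
  have hq' : (3 : ℚ) ≤ q := by exact_mod_cast hq
  have h1 : (1 : ℚ) ≤ q * (1 / 3) := by linarith
  have h3 : (1 : ℚ) ≤ q * yb ^ 2 := by
    have : (1 / 3 : ℚ) ≤ yb ^ 2 := by unfold yb; norm_num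
    nlinarith
  rw [pow_add, mul_mul_mul_comm, ← mul_pow, ← mul_pow]
  exact one_le_mul_of_one_le_of_one_le (one_le_pow₀ h1) (one_le_pow₀ h3)

theorem sum_deg_le (hn : 1 ≤ n) :
    ∑ k ∈ Fintype.piFinset (fun i : Fin (2 * n) => if (i : ℕ) = 0 then {0} else Finset.range (n + 1)), degTerm k
      ≤ 179 / 100 := by
  simp only [degTerm]
  rw [← Finset.prod_univ_sum]
  refine le_trans (Finset.prod_le_prod (g := fun i : Fin (2 * n) => kf i)
    (fun i _ => Finset.sum_nonneg fun k _ => by positivity) fun i _ => ?_) ?_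
  · unfold kf
    split_ifs with h
    · simp
    · have h1 : (1 / 3 : ℚ) ^ (i : ℕ) < 1 := pow_lt_one₀ (by norm_num) (by norm_num) h
      rw [← one_div, le_div_iff₀ (sub_pos.2 h1), geom_sum_mul_neg]
      have : (0 : ℚ) ≤ ((1 / 3) ^ (i : ℕ)) ^ (n + 1) := by positivity
      linarith
  · rw [Fin.prod_univ_eq_prod_range (fun i => kf i) (2 * n)]
    exact prod_kf_le _

/-- The general estimate. -/
theorem card_le (h2 : (2 : F) ≠ 0) (hq : 3 ≤ Fintype.card F) (hn : 1 ≤ n) (s : Finset (Multiset (Key F)))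
    (hs : ∀ M ∈ s, Normal ε (2 * n) M) (t : Fin (2 * n) → Finset (Fin 2 → Bool × Bool))
    (ht : ∀ M ∈ s, ∀ i, (param (2 * n) M).1 i ∈ t i) :
    (s.card : ℚ) ≤ (Fintype.card F : ℚ) ^ n * (179 / 100 *
      ((∑ β ∈ Fintype.piFinset t, bitTerm yb β + ∑ β ∈ Fintype.piFinset t, bitTerm (-yb) β) / 2)) := by
  classical
  set q := Fintype.card F
  set i₀ : Fin (2 * n) := ⟨0, by omega⟩
  let φ : (Fin (2 * n) → Fin 2 → Bool × Bool) × (Fin (2 * n) → ℕ) →
      (Fin (2 * n) → Fin 2 → Bool × Bool) × (Fin (2 * n) → ℕ) := fun p => (p.1, Function.update p.2 i₀ 0)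
  set kset : Fin (2 * n) → Finset ℕ := fun i => if (i : ℕ) = 0 then {0} else Finset.range (n + 1)
  let term : (Fin (2 * n) → Fin 2 → Bool × Bool) × (Fin (2 * n) → ℕ) → ℚ := fun p =>
    degTerm p.2 * ((bitTerm yb p.1 + bitTerm (-yb) p.1) / 2)
  have hw : ∀ p ∈ s.image (param (2 * n)),
      ∑ i : Fin (2 * n), ((i : ℕ) + 1) * (2 * p.2 i + ∑ c, bw (p.1 i c)) = 2 * n := by
    intro p hp
    obtain ⟨M, hM, rfl⟩ := Finset.mem_image.1 hp
    exact param_weight h2 (hs M hM)
  have hterm : ∀ p, term (φ p) = term p := fun p => by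
    simp only [term, φ, degTerm]
    congr 1
    refine Finset.prod_congr rfl fun i _ => ?_
    by_cases hi : i = i₀
    · subst hi; simp [i₀]
    · rw [Function.update_of_ne hi]
  have hnn : ∀ p, 0 ≤ term p := fun p => by
    refine mul_nonneg (Finset.prod_nonneg fun i _ => by positivity) (div_nonneg ?_ two_pos.le)
    rw [bitTerm_eq, bitTerm_eq]
    rcases Nat.even_or_odd (∑ i : Fin (2 * n), ((i : ℕ) + 1) * ∑ c, bw (p.1 i c)) with h | h
    · rw [h.neg_pow]; have : (0 : ℚ) ≤ yb := by unfold yb; norm_num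
      positivity
    · rw [h.neg_pow]; simp
  have hinj : Set.InjOn φ (s.image (param (2 * n))) := by
    intro p hp p' hp' h
    simp only [φ, Prod.mk.injEq] at h
    refine Prod.ext h.1 (funext fun i => ?_)
    by_cases hi : i = i₀
    · subst hi
      have e1 := hw p hp
      have e2 := hw p' hp'
      rw [← Finset.add_sum_erase _ _ (Finset.mem_univ i₀)] at e1 e2
      rw [h.1] at e1
      have e3 : ∀ i ∈ Finset.univ.erase i₀, ((i : ℕ) + 1) * (2 * p.2 i + ∑ c, bw (p'.1 i c))
          = ((i : ℕ) + 1) * (2 * p'.2 i + ∑ c, bw (p'.1 i c)) := fun i hi => by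
        have := congrFun h.2 i
        rw [Function.update_of_ne (Finset.ne_of_mem_erase hi), Function.update_of_ne (Finset.ne_of_mem_erase hi)] at this
        rw [this]
      rw [Finset.sum_congr rfl e3] at e1
      simp only [i₀, zero_add, one_mul] at e1 e2 ⊢
      omega
    · have := congrFun h.2 i
      rwa [Function.update_of_ne hi, Function.update_of_ne hi] at this
  have hsub : (s.image (param (2 * n))).image φ ⊆ Fintype.piFinset t ×ˢ Fintype.piFinset kset := by
    intro p' hp'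
    obtain ⟨p, hp, rfl⟩ := Finset.mem_image.1 hp'
    have hw' := hw p hp
    obtain ⟨M, hM, rfl⟩ := Finset.mem_image.1 hp
    refine Finset.mem_product.2 ⟨Fintype.mem_piFinset.2 (ht M hM), Fintype.mem_piFinset.2 fun i => ?_⟩
    simp only [φ, kset]
    split_ifs with hi
    · obtain rfl : i = i₀ := Fin.ext hi
      simp
    · rw [Function.update_of_ne (fun h => hi (congrArg Fin.val h)), Finset.mem_range]
      have h1 := Finset.single_le_sum (f := fun i : Fin (2 * n) => ((i : ℕ) + 1) *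
        (2 * (param (2 * n) M).2 i + ∑ c, bw ((param (2 * n) M).1 i c))) (fun _ _ => Nat.zero_le _) (Finset.mem_univ i)
      rw [hw'] at h1
      have h3 := le_trans (Nat.le_mul_of_pos_left _ (Nat.succ_pos (i : ℕ))) h1
      omega
  calc (s.card : ℚ) ≤ ((∑ p ∈ s.image (param (2 * n)), q ^ ∑ i, p.2 i : ℕ) : ℚ) := by
        exact_mod_cast card_le_fibres h2 s hs
    _ = ∑ p ∈ s.image (param (2 * n)), ((q ^ ∑ i, p.2 i : ℕ) : ℚ) := Nat.cast_sum _ _
    _ ≤ ∑ p ∈ s.image (param (2 * n)), (q : ℚ) ^ n * term (φ p) :=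
        Finset.sum_le_sum fun p hp => by rw [hterm]; exact pow_le_term hq (hw p hp)
    _ = (q : ℚ) ^ n * ∑ p ∈ (s.image (param (2 * n))).image φ, term p := by
        rw [Finset.sum_image hinj, Finset.mul_sum]
    _ ≤ (q : ℚ) ^ n * ∑ p ∈ Fintype.piFinset t ×ˢ Fintype.piFinset kset, term p := by
        refine mul_le_mul_of_nonneg_left ?_ (by positivity)
        exact Finset.sum_le_sum_of_subset_of_nonneg hsub fun p _ _ => hnn p
    _ = (q : ℚ) ^ n * ((∑ k ∈ Fintype.piFinset kset, degTerm k) *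
          ((∑ β ∈ Fintype.piFinset t, bitTerm yb β + ∑ β ∈ Fintype.piFinset t, bitTerm (-yb) β) / 2)) := by
        rw [Finset.sum_product_right, Finset.sum_mul]
        congr 1
        refine Finset.sum_congr rfl fun k _ => ?_
        rw [← Finset.sum_add_distrib, Finset.sum_div, Finset.mul_sum]
    _ ≤ _ := by
        refine mul_le_mul_of_nonneg_left (mul_le_mul_of_nonneg_right (sum_deg_le hn) ?_) (by positivity)
        refine div_nonneg ?_ two_pos.le
        rw [← Finset.sum_add_distrib]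
        refine Finset.sum_nonneg fun β _ => ?_
        have := hnn (β, fun _ => 0)
        simp only [term, degTerm, pow_zero, Finset.prod_const_one, one_mul] at this
        linarith

/-- The exponents carrying slots. -/
def allowed (p : ℕ) (i : Fin (2 * n)) : Finset (Fin 2 → Bool × Bool) :=
  if ((i : ℕ) + 1) % 2 = p then Finset.univ else {fun _ => (false, false)}

theorem sum_bits (p : ℕ) (z : ℚ) :
    ∑ β ∈ Fintype.piFinset (allowed (n := n) p), bitTerm z β = ∏ i ∈ Finset.range (2 * n), gf p z i := by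
  refine (Finset.prod_univ_sum (allowed p)
    (fun (i : Fin (2 * n)) (g : Fin 2 → Bool × Bool) => ∏ c, (z ^ ((i : ℕ) + 1)) ^ bw (g c))).symm.trans ?_
  rw [← Fin.prod_univ_eq_prod_range]
  refine Finset.prod_congr rfl fun i _ => ?_
  unfold allowed gf
  split_ifs with h
  · rw [← Fintype.piFinset_univ, ← Finset.prod_univ_sum (fun _ : Fin 2 => (Finset.univ : Finset (Bool × Bool)))
      (fun _ b => (z ^ ((i : ℕ) + 1)) ^ bw b), Fin.prod_univ_two]
    simp [Fintype.sum_prod_type, bw]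
    ring
  · simp [bw]

theorem param_allowed {M : Multiset (Key F)} (hM : Normal ε (2 * n) M) {p : ℕ}
    (hp : ∀ i : ℕ, ε * (-1) ^ i = 1 → (i + 1) % 2 = p) (i : Fin (2 * n)) : (param (2 * n) M).1 i ∈ allowed p i := by
  unfold allowed
  split_ifs with h
  · exact Finset.mem_univ _
  · exact Finset.mem_singleton.2 (funext (param_slot hM i fun h' => h (hp i h')))

theorem parity_neg (h2 : (2 : F) ≠ 0) (i : ℕ) (h : (-1 : F) * (-1) ^ i = 1) : (i + 1) % 2 = 0 := by
  rcases Nat.even_or_odd i with hi | hi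
  · rw [hi.neg_one_pow, mul_one] at h; exact absurd (by linear_combination -h) h2
  · obtain ⟨r, rfl⟩ := hi; omega

theorem parity_pos (h2 : (2 : F) ≠ 0) (i : ℕ) (h : (1 : F) * (-1) ^ i = 1) : (i + 1) % 2 = 1 := by
  rcases Nat.even_or_odd i with hi | hi
  · obtain ⟨r, rfl⟩ := hi; omega
  · rw [hi.neg_one_pow, one_mul] at h; exact absurd (by linear_combination -h) h2

/-- The alternating count. -/
theorem card_le_sp (h2 : (2 : F) ≠ 0) (hq : 3 ≤ Fintype.card F) (hn : 1 ≤ n) (s : Finset (Multiset (Key F)))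
    (hs : ∀ M ∈ s, Normal (-1 : F) (2 * n) M) : (s.card : ℚ) ≤ (Fintype.card F : ℚ) ^ n * (54 / 5) := by
  refine (card_le h2 hq hn s hs (allowed 0) fun M hM => param_allowed (hs M hM) (parity_neg h2)).trans ?_
  refine mul_le_mul_of_nonneg_left ?_ (by positivity)
  rw [sum_bits, sum_bits, Finset.prod_congr rfl fun i _ => gf_neg_zero i]
  have := prod_gf_zero (2 * n)
  linarith

/-- The symmetric count. -/
theorem card_le_ortho (h2 : (2 : F) ≠ 0) (hq : 3 ≤ Fintype.card F) (hn : 1 ≤ n) (s : Finset (Multiset (Key F)))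
    (hs : ∀ M ∈ s, Normal (1 : F) (2 * n) M) : (s.card : ℚ) ≤ (Fintype.card F : ℚ) ^ n * (1642 / 100) := by
  refine (card_le h2 hq hn s hs (allowed 1) fun M hM => param_allowed (hs M hM) (parity_pos h2)).trans ?_
  refine mul_le_mul_of_nonneg_left ?_ (by positivity)
  rw [sum_bits, sum_bits]
  have := prod_gf_one (2 * n)
  have := prod_gf_neg_one (2 * n) (by omega)
  linarith

/-- The count without slots. -/
theorem card_le_noSlot (h2 : (2 : F) ≠ 0) (hq : 3 ≤ Fintype.card F) (hn : 1 ≤ n) (s : Finset (Multiset (Key F)))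
    (hs : ∀ M ∈ s, Normal ε (2 * n) M) (hno : ∀ M ∈ s, ∀ k ∈ M, ¬ Key.IsSlot ε k) :
    (s.card : ℚ) ≤ (Fintype.card F : ℚ) ^ n * (179 / 100) := by
  classical
  refine (card_le h2 hq hn s hs (fun _ => {fun _ => (false, false)}) fun M hM i => ?_).trans ?_
  · refine Finset.mem_singleton.2 (funext fun c => ?_)
    have h : ∀ b, (⟨X - C (cs c), (i : ℕ) + 1, b⟩ : Key F) ∉ M := fun b hk =>
      hno M hM _ hk (((hs M hM).valid _ hk).slot (natDegree_X_sub_C _))
    have hm : mult M ((i : ℕ) + 1) c = 0 := by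
      rw [mult, count_polys, Multiset.count_eq_zero.2 (h false), Multiset.count_eq_zero.2 (h true)]
    simp [param, bits, hm, sgm, h true]
  · refine le_of_eq ?_
    have e : ∀ z : ℚ, ∑ β ∈ Fintype.piFinset (fun _ : Fin (2 * n) =>
        ({fun _ => (false, false)} : Finset (Fin 2 → Bool × Bool))), bitTerm z β = 1 := fun z => by
      simp [bitTerm, bw]
    rw [e, e]
    ring

end Cfsg.Agent.H7Class
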