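import Cfsg.Agent.H7Class.Atom

/-!
# Encoding the normal multisets of keys
-/

set_option autoImplicit false

namespace Cfsg.Agent.H7Class

open Polynomial

variable {F : Type*} [Field F] {ε : F} {n : ℕ}

/-- The multisets of keys arising in dimension `2n`. -/
structure Normal (ε : F) (n : ℕ) (M : Multiset (Key F)) : Prop where
  valid : ∀ k ∈ M, k.Valid ε
  once : ∀ k : Key F, k.flag = true → ∀ M' : Multiset (Key F), M ≠ k ::ₘ k ::ₘ M'
  weight : (M.map fun k => k.e * k.g.natDegree).sum = n

/-- The two roots. -/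
def cs (c : Fin 2) : F := if c = 0 then 1 else -1

theorem cs_sq (c : Fin 2) : (cs c : F) * cs c = 1 := by
  unfold cs; split_ifs <;> ring

theorem exists_cs {x : F} (hx : x * x = 1) : ∃ c : Fin 2, x = cs c := by
  rcases mul_self_eq_one_iff.1 hx with h | h
  · exact ⟨0, by simp [cs, h]⟩
  · exact ⟨1, by simp [cs, h]⟩

/-- The polynomials at exponent `e`. -/
def polys (M : Multiset (Key F)) (e : ℕ) : Multiset F[X] := (M.filter fun k => k.e = e).map Key.g

open scoped Classical in
/-- The number of keys at a slot. -/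
noncomputable def mult (M : Multiset (Key F)) (e : ℕ) (c : Fin 2) : ℕ := (polys M e).count (X - C (cs c))

open scoped Classical in
/-- Whether the slot has a non-square class. -/
noncomputable def sgm (M : Multiset (Key F)) (e : ℕ) (c : Fin 2) : Bool :=
  decide ((⟨X - C (cs c), e, true⟩ : Key F) ∈ M)

/-- The two bits of a slot. -/
noncomputable def bits (M : Multiset (Key F)) (e : ℕ) (c : Fin 2) : Bool × Bool :=
  (xor (decide (Odd (mult M e c))) (sgm M e c), sgm M e c)

/-- The weight of two bits. -/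
def bw (b : Bool × Bool) : ℕ := b.1.toNat + b.2.toNat

open scoped Classical in
/-- The reciprocal polynomial of an exponent. -/
noncomputable def palPoly (M : Multiset (Key F)) (e : ℕ) : F[X] :=
  ((polys M e).filter fun g => g.natDegree ≠ 1).prod *
    ∏ c : Fin 2, (X - C (cs c)) ^ (mult M e c - bw (bits M e c))

theorem mem_polys {M : Multiset (Key F)} {e : ℕ} {g : F[X]} :
    g ∈ polys M e ↔ ∃ k ∈ M, k.e = e ∧ k.g = g := by
  simp [polys, Multiset.mem_map, Multiset.mem_filter, and_assoc]

open scoped Classical in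
theorem count_polys (M : Multiset (Key F)) (e : ℕ) (g : F[X]) :
    (polys M e).count g = M.count ⟨g, e, false⟩ + M.count ⟨g, e, true⟩ := by
  induction M using Multiset.induction with
  | empty => simp [polys]
  | cons k M ih =>
    obtain ⟨g', e', b⟩ := k
    simp only [polys] at ih ⊢
    rw [Multiset.filter_cons, Multiset.map_add, Multiset.count_add, ih, Multiset.count_cons,
      Multiset.count_cons]
    by_cases he : e' = e
    · subst he
      rw [if_pos rfl, Multiset.map_singleton, Multiset.count_singleton]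
      cases b <;> by_cases hg : g = g' <;> simp [hg] <;> omega
    · rw [if_neg he, Multiset.map_zero, Multiset.count_zero, if_neg, if_neg]
      · ring
      all_goals exact fun h => he (congrArg Key.e h).symm

theorem Normal.count_flag [DecidableEq (Key F)] {M : Multiset (Key F)} (hM : Normal ε n M) {k : Key F}
    (hk : k.flag = true) : M.count k ≤ 1 := by
  by_contra h
  have h1 : k ∈ M := Multiset.count_pos.1 (by omega)
  have h2 : k ∈ M.erase k := Multiset.count_pos.1 (by rw [Multiset.count_erase_self]; omega)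
  exact hM.once k hk ((M.erase k).erase k) (by rw [Multiset.cons_erase h2, Multiset.cons_erase h1])

theorem bits_facts {M : Multiset (Key F)} {e : ℕ} (c : Fin 2) :
    bw (bits M e c) ≤ mult M e c ∧ Even (mult M e c - bw (bits M e c)) := by
  classical
  have hσ : sgm M e c = true → 1 ≤ mult M e c := fun h => by
    rw [mult, count_polys]
    have := Multiset.count_pos.2 (show (⟨X - C (cs c), e, true⟩ : Key F) ∈ M by simpa [sgm] using h)
    omega
  rcases Nat.even_or_odd (mult M e c) with h | h
  · have hno : ¬ Odd (mult M e c) := Nat.not_odd_iff_even.2 h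
    cases hs : sgm M e c
    · simp [bw, bits, hs, hno, h]
    · have := hσ hs
      obtain ⟨r, hr⟩ := h
      refine ⟨?_, ?_⟩ <;> simp [bw, bits, hs, hno]
      · omega
      · exact ⟨r - 1, by omega⟩
  · obtain ⟨r, hr⟩ := h
    have ho : Odd (mult M e c) := ⟨r, hr⟩
    cases hs : sgm M e c <;> refine ⟨?_, ?_⟩ <;> simp [bw, bits, hs, ho] <;>
      first
        | omega
        | exact ⟨r, by omega⟩

theorem palPoly_pal (h2 : (2 : F) ≠ 0) {M : Multiset (Key F)} (hM : ∀ k ∈ M, k.Valid ε) (e : ℕ) :
    Pal (palPoly M e) := by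
  classical
  refine Pal.mul (pal_multiset_prod _ fun g hg => ?_) ?_
  · rw [Multiset.mem_filter, mem_polys] at hg
    obtain ⟨⟨k, hk, -, rfl⟩, hd⟩ := hg
    exact (hM k hk).pal h2 hd
  · refine Finset.prod_induction _ Pal (fun _ _ => Pal.mul) pal_one fun c _ => ?_
    obtain ⟨r, hr⟩ := (bits_facts (M := M) (e := e) c).2
    rw [hr, ← two_mul, pow_mul]
    exact (pal_sq (cs_sq c)).pow r

theorem prod_polys (h2 : (2 : F) ≠ 0) {M : Multiset (Key F)} (hM : ∀ k ∈ M, k.Valid ε) (e : ℕ) :
    (polys M e).prod = palPoly M e * ∏ c : Fin 2, (X - C (cs c)) ^ bw (bits M e c) := by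
  classical
  have hne : (X - C (cs 0) : F[X]) ≠ X - C (cs 1) := fun h => by
    have := congrArg (fun p => p.eval (1 : F)) h
    simp [cs] at this
    exact h2 (by linear_combination -this)
  have split : polys M e = (polys M e).filter (fun g => g.natDegree ≠ 1) +
      (Multiset.replicate (mult M e 0) (X - C (cs 0)) + Multiset.replicate (mult M e 1) (X - C (cs 1))) := by
    refine Multiset.ext.2 fun g => ?_
    rw [Multiset.count_add, Multiset.count_add, Multiset.count_filter, Multiset.count_replicate,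
      Multiset.count_replicate]
    by_cases h0 : X - C (cs 0) = g
    · subst h0
      rw [if_neg (by simp), if_pos rfl, if_neg hne.symm, mult]; ring
    by_cases h1 : X - C (cs 1) = g
    · subst h1
      rw [if_neg (by simp), if_neg h0, if_pos rfl, mult]; ring
    rw [if_neg h0, if_neg h1]
    split_ifs with hd
    · ring
    · rw [add_zero, add_zero, Multiset.count_eq_zero]
      intro hg
      obtain ⟨k, hk, -, rfl⟩ := mem_polys.1 hg
      obtain ⟨-, x, hx, hx2, -⟩ := (hM k hk).slot (not_not.1 hd)
      obtain ⟨c, rfl⟩ := exists_cs hx2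
      fin_cases c
      · exact h0 hx.symm
      · exact h1 hx.symm
  conv_lhs => rw [split]
  rw [Multiset.prod_add, Multiset.prod_add, Multiset.prod_replicate, Multiset.prod_replicate, palPoly, mul_assoc,
    ← Finset.prod_mul_distrib, Fin.prod_univ_two, ← pow_add, ← pow_add,
    Nat.sub_add_cancel (bits_facts (M := M) (e := e) 0).1, Nat.sub_add_cancel (bits_facts (M := M) (e := e) 1).1]

theorem Key.Valid.le_weight {M : Multiset (Key F)} (hM : Normal ε n M) {k : Key F} (hk : k ∈ M) :
    1 ≤ k.e ∧ k.e ≤ n := by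
  refine ⟨Nat.pos_of_ne_zero (hM.valid k hk).1, ?_⟩
  have h1 : k.e * k.g.natDegree ≤ (M.map fun k => k.e * k.g.natDegree).sum :=
    Multiset.single_le_sum (fun _ _ => Nat.zero_le _) _ (Multiset.mem_map_of_mem _ hk)
  rw [hM.weight] at h1
  exact (Nat.le_mul_of_pos_right _ (hM.valid k hk).natDegree_pos).trans h1

/-- The degrees by exponents. -/
theorem sum_polys (N : ℕ) :
    ∀ M : Multiset (Key F), (∀ k ∈ M, 1 ≤ k.e ∧ k.e ≤ N) →
      ∑ i : Fin N, ((i : ℕ) + 1) * ((polys M ((i : ℕ) + 1)).map natDegree).sum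
        = (M.map fun k => k.e * k.g.natDegree).sum := by
  intro M
  induction M using Multiset.induction with
  | empty => intro _; simp [polys]
  | cons k M ih =>
    intro h
    obtain ⟨h1, h3⟩ := h k (Multiset.mem_cons_self _ _)
    rw [Multiset.map_cons, Multiset.sum_cons, ← ih fun k hk => h k (Multiset.mem_cons_of_mem hk)]
    rw [← Finset.add_sum_erase _ _ (Finset.mem_univ (⟨k.e - 1, by omega⟩ : Fin N)),
      ← Finset.add_sum_erase _ _ (Finset.mem_univ (⟨k.e - 1, by omega⟩ : Fin N))]
    have hrest : ∀ i ∈ Finset.univ.erase (⟨k.e - 1, by omega⟩ : Fin N),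
        polys (k ::ₘ M) ((i : ℕ) + 1) = polys M ((i : ℕ) + 1) := by
      intro i hi
      rw [polys, Multiset.filter_cons_of_neg, polys]
      intro he
      exact Finset.ne_of_mem_erase hi (Fin.ext (by simp only; omega))
    rw [Finset.sum_congr rfl fun i hi => by rw [hrest i hi]]
    have he : k.e - 1 + 1 = k.e := by omega
    simp only [he, polys, Multiset.filter_cons_of_pos (p := fun k' : Key F => k'.e = k.e) M rfl, Multiset.map_cons,
      Multiset.sum_cons]
    ring

/-- The parameters of a multiset of keys. -/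
noncomputable def param (n : ℕ) (M : Multiset (Key F)) :
    (Fin n → Fin 2 → Bool × Bool) × (Fin n → ℕ) :=
  (fun i c => bits M ((i : ℕ) + 1) c, fun i => (palPoly M ((i : ℕ) + 1)).natDegree / 2)

theorem natDegree_palPoly (h2 : (2 : F) ≠ 0) {M : Multiset (Key F)} (hM : ∀ k ∈ M, k.Valid ε) (i : Fin n) :
    (palPoly M ((i : ℕ) + 1)).natDegree = 2 * (param n M).2 i := by
  obtain ⟨r, hr⟩ := (palPoly_pal h2 hM ((i : ℕ) + 1)).2.2
  show _ = 2 * ((palPoly M ((i : ℕ) + 1)).natDegree / 2)
  omega

theorem param_weight (h2 : (2 : F) ≠ 0) {M : Multiset (Key F)} (hM : Normal ε n M) :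
    ∑ i : Fin n, ((i : ℕ) + 1) * (2 * (param n M).2 i + ∑ c, bw ((param n M).1 i c)) = n := by
  refine Eq.trans ?_ ((sum_polys n M fun k hk => Key.Valid.le_weight hM hk).trans hM.weight)
  refine Finset.sum_congr rfl fun i _ => ?_
  congr 1
  have hp := prod_polys h2 hM.valid ((i : ℕ) + 1)
  have hmon : ∀ g ∈ polys M ((i : ℕ) + 1), Monic g := fun g hg => by
    obtain ⟨k, hk, -, rfl⟩ := mem_polys.1 hg
    exact (hM.valid k hk).monic
  rw [← natDegree_multiset_prod_of_monic _ hmon, hp, (palPoly_pal h2 hM.valid _).1.natDegree_mul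
    (monic_prod_of_monic _ _ fun c _ => (monic_X_sub_C _).pow _), ← natDegree_palPoly h2 hM.valid,
    natDegree_prod_of_monic _ _ fun c _ => (monic_X_sub_C _).pow _]
  congr 1
  exact Finset.sum_congr rfl fun c _ => by rw [natDegree_pow, natDegree_X_sub_C, mul_one]; rfl

/-- Nothing is written at an exponent without slots. -/
theorem param_slot {M : Multiset (Key F)} (hM : Normal ε n M) (i : Fin n)
    (hi : ε * (-1) ^ (i : ℕ) ≠ 1) (c : Fin 2) : (param n M).1 i c = (false, false) := by
  classical
  have h : ∀ b, (⟨X - C (cs c), (i : ℕ) + 1, b⟩ : Key F) ∉ M := fun b hk => by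
    obtain ⟨-, x, -, -, hsign⟩ := (hM.valid _ hk).slot (natDegree_X_sub_C _)
    exact hi (by simpa using hsign)
  have hm : mult M ((i : ℕ) + 1) c = 0 := by
    rw [mult, count_polys, Multiset.count_eq_zero.2 (h false), Multiset.count_eq_zero.2 (h true)]
  simp [param, bits, hm, sgm, h true]

/-- The parameters and the reciprocal polynomials determine the multiset. -/
theorem param_injective (h2 : (2 : F) ≠ 0) {M M' : Multiset (Key F)} (hM : Normal ε n M) (hM' : Normal ε n M')
    (hb : (param n M).1 = (param n M').1)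
    (hp : ∀ i : Fin n, palPoly M ((i : ℕ) + 1) = palPoly M' ((i : ℕ) + 1)) : M = M' := by
  classical
  have hA : ∀ i : Fin n, polys M ((i : ℕ) + 1) = polys M' ((i : ℕ) + 1) := by
    intro i
    refine atoms_unique (ε := ε) h2 ((i : ℕ) + 1) _ _ (fun a ha => ?_) (fun a ha => ?_) ?_
    · obtain ⟨k, hk, he, hg⟩ := mem_polys.1 ha; exact ⟨k, hM.valid k hk, he, hg⟩
    · obtain ⟨k, hk, he, hg⟩ := mem_polys.1 ha; exact ⟨k, hM'.valid k hk, he, hg⟩
    · rw [prod_polys h2 hM.valid, prod_polys h2 hM'.valid, hp i]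
      congr 1
      refine Finset.prod_congr rfl fun c _ => ?_
      have := congrFun (congrFun hb i) c
      simp only [param] at this
      rw [this]
  have hT : ∀ (i : Fin n) (g : F[X]),
      M.count ⟨g, (i : ℕ) + 1, true⟩ = M'.count ⟨g, (i : ℕ) + 1, true⟩ := by
    intro i g
    by_cases hg : ∃ c : Fin 2, g = X - C (cs c)
    · obtain ⟨c, rfl⟩ := hg
      have h3 : sgm M ((i : ℕ) + 1) c = sgm M' ((i : ℕ) + 1) c := congrArg Prod.snd (congrFun (congrFun hb i) c)
      have h4 := hM.count_flag (k := ⟨X - C (cs c), (i : ℕ) + 1, true⟩) rfl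
      have h5 := hM'.count_flag (k := ⟨X - C (cs c), (i : ℕ) + 1, true⟩) rfl
      by_cases hk : (⟨X - C (cs c), (i : ℕ) + 1, true⟩ : Key F) ∈ M
      · have hk' : (⟨X - C (cs c), (i : ℕ) + 1, true⟩ : Key F) ∈ M' := by simpa [sgm, hk] using h3
        have := Multiset.count_pos.2 hk
        have := Multiset.count_pos.2 hk'
        omega
      · have hk' : (⟨X - C (cs c), (i : ℕ) + 1, true⟩ : Key F) ∉ M' := by simpa [sgm, hk] using h3
        rw [Multiset.count_eq_zero.2 hk, Multiset.count_eq_zero.2 hk']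
    · have hno : ∀ {M : Multiset (Key F)}, Normal ε n M → (⟨g, (i : ℕ) + 1, true⟩ : Key F) ∉ M :=
        fun {M} hM hk => by
          obtain ⟨-, x, hx, hx2, -⟩ := (hM.valid _ hk).slot_of_flag rfl
          obtain ⟨c, rfl⟩ := exists_cs hx2
          exact hg ⟨c, hx⟩
      rw [Multiset.count_eq_zero.2 (hno hM), Multiset.count_eq_zero.2 (hno hM')]
  refine Multiset.ext.2 fun k => ?_
  by_cases he : 1 ≤ k.e ∧ k.e ≤ n
  · obtain ⟨g, e, b⟩ := k
    obtain ⟨i, rfl⟩ : ∃ i : Fin n, e = (i : ℕ) + 1 := ⟨⟨e - 1, by simp only at he; omega⟩, by simp only at he ⊢; omega⟩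
    cases b
    · have h3 := congrArg (Multiset.count g) (hA i)
      rw [count_polys, count_polys, hT i g] at h3
      omega
    · exact hT i g
  · rw [Multiset.count_eq_zero.2 fun hk => he (Key.Valid.le_weight hM hk),
      Multiset.count_eq_zero.2 fun hk => he (Key.Valid.le_weight hM' hk)]

end Cfsg.Agent.H7Class
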