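import Cfsg.Agent.H7Class.Split

/-!
# Decompositions into pieces and their uniqueness
-/

set_option autoImplicit false

namespace Cfsg.Agent.H7Class

open Polynomial

universe v

variable {F : Type*} [Field F] {ε : F}

/-- A decomposition with given keys. -/
def Decomp : List (Key F) → ∀ {V : Type v} [AddCommGroup V] [Module F V], Str F ε V → Prop
  | [], V, _, _, _ => Subsingleton V
  | k :: L, _, _, _, X => ∃ (V₁ V₂ : Type v) (_ : AddCommGroup V₁) (_ : AddCommGroup V₂) (_ : Module F V₁)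
      (_ : Module F V₂) (X₁ : Str F ε V₁) (X₂ : Str F ε V₂),
      IsPiece k X₁ ∧ Decomp L X₂ ∧ Nonempty (Iso X (X₁.prod X₂))

variable {V W U : Type v} [AddCommGroup V] [Module F V] [AddCommGroup W] [Module F W] [AddCommGroup U] [Module F U]

theorem finite_fst [FiniteDimensional F V] {X : Str F ε V} {Y : Str F ε W} {Z : Str F ε U}
    (i : Iso X (Y.prod Z)) : FiniteDimensional F W ∧ FiniteDimensional F U := by
  haveI : Module.Finite F (W × U) := Module.Finite.equiv i.e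
  exact ⟨Module.Finite.of_surjective (LinearMap.fst F W U) Prod.fst_surjective,
    Module.Finite.of_surjective (LinearMap.snd F W U) Prod.snd_surjective⟩

theorem decomp_iso {L : List (Key F)} {X : Str F ε V} {Y : Str F ε W} (i : Iso Y X) (h : Decomp L X) :
    Decomp L Y := by
  cases L with
  | nil => haveI : Subsingleton V := h; exact i.e.toEquiv.subsingleton
  | cons k L =>
    obtain ⟨V₁, V₂, i₁, i₂, m₁, m₂, X₁, X₂, h1, h2, ⟨j⟩⟩ := h
    exact ⟨V₁, V₂, i₁, i₂, m₁, m₂, X₁, X₂, h1, h2, ⟨i.trans j⟩⟩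

theorem decomp_perm {L L' : List (Key F)} (hp : L.Perm L') :
    ∀ {V : Type v} [AddCommGroup V] [Module F V] (X : Str F ε V), Decomp L X → Decomp L' X := by
  induction hp with
  | nil => intro V _ _ X h; exact h
  | cons k _ ih =>
    intro V _ _ X h
    obtain ⟨V₁, V₂, i₁, i₂, m₁, m₂, X₁, X₂, h1, h2, j⟩ := h
    exact ⟨V₁, V₂, i₁, i₂, m₁, m₂, X₁, X₂, h1, ih X₂ h2, j⟩
  | swap a b L =>
    intro V _ _ X h
    obtain ⟨V₁, V₂, i₁, i₂, m₁, m₂, X₁, X₂, h1, ⟨V₃, V₄, i₃, i₄, m₃, m₄, X₃, X₄, h3, h4, ⟨j'⟩⟩, ⟨j⟩⟩ := h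
    exact ⟨V₃, V₁ × V₄, i₃, inferInstance, m₃, inferInstance, X₃, X₁.prod X₄, h3,
      ⟨V₁, V₄, i₁, i₄, m₁, m₄, X₁, X₄, h1, h4, ⟨Iso.refl _⟩⟩,
      ⟨j.trans ((Iso.prod (Iso.refl X₁) j').trans ((Iso.prodAssoc X₁ X₃ X₄).symm.trans
        ((Iso.prod (Iso.prodComm X₁ X₃) (Iso.refl X₄)).trans (Iso.prodAssoc X₃ X₁ X₄))))⟩⟩
  | trans _ _ ih1 ih2 => intro V _ _ X h; exact ih2 X (ih1 X h)

variable [Finite F]

theorem decomp_unique (h2 : (2 : F) ≠ 0) :
    ∀ (L : List (Key F)) {V W : Type v} [AddCommGroup V] [Module F V] [AddCommGroup W] [Module F W]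
      [FiniteDimensional F V] [FiniteDimensional F W] (X : Str F ε V) (Y : Str F ε W),
      Decomp L X → Decomp L Y → Nonempty (Iso X Y) := by
  intro L
  induction L with
  | nil =>
    intro V W _ _ _ _ _ _ X Y hX hY
    haveI : Subsingleton V := hX
    haveI : Subsingleton W := hY
    exact ⟨⟨LinearEquiv.ofSubsingleton V W, fun _ => Subsingleton.elim _ _, fun u v => by
      rw [Subsingleton.elim u 0, map_zero, map_zero, LinearMap.zero_apply, map_zero, LinearMap.zero_apply]⟩⟩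
  | cons k L ih =>
    intro V W _ _ _ _ _ _ X Y hX hY
    obtain ⟨V₁, V₂, i₁, i₂, m₁, m₂, X₁, X₂, h1, h1', ⟨i⟩⟩ := hX
    obtain ⟨W₁, W₂, j₁, j₂, n₁, n₂, Y₁, Y₂, h3, h3', ⟨j⟩⟩ := hY
    haveI := (finite_fst i).1
    haveI := (finite_fst i).2
    haveI := (finite_fst j).1
    haveI := (finite_fst j).2
    obtain ⟨a⟩ := iso_of_isPiece h2 h3 h1
    obtain ⟨b⟩ := ih X₂ Y₂ h1' h3'
    exact ⟨i.trans ((a.prod b).trans j.symm)⟩

theorem exists_decomp' (hε : ε = 1 ∨ ε = -1) :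
    ∀ {V : Type v} [AddCommGroup V] [Module F V] [FiniteDimensional F V] (X : Str F ε V),
      ∃ L, Decomp L X := by
  suffices ∀ n, ∀ {V : Type v} [AddCommGroup V] [Module F V] [FiniteDimensional F V] (X : Str F ε V),
      Module.finrank F V = n → ∃ L, Decomp L X from fun {V} _ _ _ X => this _ X rfl
  intro n
  induction n using Nat.strong_induction_on with
  | _ n ih =>
    intro V _ _ _ X hn
    rcases subsingleton_or_nontrivial V with hs | hs
    · exact ⟨[], hs⟩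
    · obtain ⟨k, Z, hT, hnd, hZ, hk⟩ := exists_split' hε X
      obtain ⟨W', Y, hdim, ⟨i⟩⟩ := exists_complement X Z hT hnd
      have hpos : 0 < Module.finrank F Z :=
        Nat.pos_of_ne_zero fun h0 => hZ (Submodule.finrank_eq_zero.1 h0)
      obtain ⟨L, hL⟩ := ih (Module.finrank F W') (by omega) Y rfl
      exact ⟨k :: L, Z, W', _, _, _, _, _, Y, hk, hL, ⟨i⟩⟩

theorem exists_decomp (_ : (2 : F) ≠ 0) (hε : ε = 1 ∨ ε = -1) {V : Type v} [AddCommGroup V] [Module F V]
    [FiniteDimensional F V] (X : Str F ε V) : ∃ L, Decomp L X := exists_decomp' hε X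

/-! ### Dimensions -/

omit [Finite F] in
theorem finrank_gen1 [FiniteDimensional F V] {X : Str F ε V} {v : V} {p : F[X]} (G : Gen1 X v p) :
    Module.finrank F V = p.natDegree := by
  have s1 : Function.Surjective (evalAt X v) := G.1
  have hk : LinearMap.ker (evalAt X v) = (Ideal.span {p}).restrictScalars F :=
    Submodule.ext fun h => (G.2 h).trans Ideal.mem_span_singleton.symm
  rw [← ((evalAt X v).quotKerEquivOfSurjective s1).finrank_eq, (Submodule.quotEquivOfEq _ _ hk).finrank_eq,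
    (Submodule.Quotient.restrictScalarsEquiv F (Ideal.span {p})).finrank_eq, finrank_quotient_span_eq_natDegree]

omit [Finite F] in
theorem finrank_gen2 [FiniteDimensional F V] {X : Str F ε V} {v w : V} {p p' : F[X]} (G : Gen2 X v w p p') :
    Module.finrank F V = p.natDegree + p'.natDegree := by
  let L₁ : (F[X] ⧸ Ideal.span {p}) →ₗ[F] V :=
    (((Ideal.span {p}).restrictScalars F).liftQ (evalAt X v) fun h hh => (G.left h).2
      (Ideal.mem_span_singleton.1 hh)).comp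
      (Submodule.Quotient.restrictScalarsEquiv F (Ideal.span {p})).symm.toLinearMap
  let L₂ : (F[X] ⧸ Ideal.span {p'}) →ₗ[F] V :=
    (((Ideal.span {p'}).restrictScalars F).liftQ (evalAt X w) fun h hh => (G.right h).2
      (Ideal.mem_span_singleton.1 hh)).comp
      (Submodule.Quotient.restrictScalarsEquiv F (Ideal.span {p'})).symm.toLinearMap
  have e1 : ∀ h, L₁ (Ideal.Quotient.mk _ h) = X.ev h v := fun h => rfl
  have e2 : ∀ h, L₂ (Ideal.Quotient.mk _ h) = X.ev h w := fun h => rfl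
  have hb : Function.Bijective (L₁.coprod L₂) := by
    constructor
    · rw [← LinearMap.ker_eq_bot, eq_bot_iff]
      rintro ⟨a, b⟩ hab
      obtain ⟨h, rfl⟩ := Ideal.Quotient.mk_surjective a
      obtain ⟨l, rfl⟩ := Ideal.Quotient.mk_surjective b
      rw [LinearMap.mem_ker, LinearMap.coprod_apply, e1, e2] at hab
      obtain ⟨ha, hb⟩ := (G.2 h l).1 hab
      rw [Submodule.mem_bot]
      exact Prod.ext (Ideal.Quotient.eq_zero_iff_dvd _ _ |>.2 ha) (Ideal.Quotient.eq_zero_iff_dvd _ _ |>.2 hb)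
    · intro u
      obtain ⟨h, l, e⟩ := G.1 u
      exact ⟨(Ideal.Quotient.mk _ h, Ideal.Quotient.mk _ l), by rw [LinearMap.coprod_apply, e1, e2, e]⟩
  haveI : FiniteDimensional F (F[X] ⧸ Ideal.span {p}) :=
    Module.Finite.of_injective L₁ fun a b h => congrArg Prod.fst
      (hb.1 (show (L₁.coprod L₂) (a, 0) = (L₁.coprod L₂) (b, 0) by simpa using h))
  haveI : FiniteDimensional F (F[X] ⧸ Ideal.span {p'}) :=
    Module.Finite.of_injective L₂ fun a b h => congrArg Prod.snd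
      (hb.1 (show (L₁.coprod L₂) (0, a) = (L₁.coprod L₂) (0, b) by simpa using h))
  rw [← (LinearEquiv.ofBijective _ hb).finrank_eq, Module.finrank_prod, finrank_quotient_span_eq_natDegree,
    finrank_quotient_span_eq_natDegree]

omit [Finite F] in
theorem finrank_piece [FiniteDimensional F V] {k : Key F} {X : Str F ε V} (h : IsPiece k X) :
    Module.finrank F V = k.e * k.g.natDegree := by
  rcases h.2 with ⟨-, f, v, w, hg, hi, hm, h0, hne, G, -, -⟩ | ⟨-, hi, hm, h0, hd, hs, v, G⟩ |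
      ⟨-, c, v, w, hg, hc, hsign, G, -, -⟩ | ⟨c, v, hg, hc, hsign, G, -, -⟩
  · rw [finrank_gen2 G, hg, natDegree_pow, natDegree_pow,
      natDegree_mul hm.ne_zero (star'_monic h0).ne_zero, mul_add]
  · rw [finrank_gen1 G, natDegree_pow]
  · rw [finrank_gen2 G, hg, natDegree_pow, natDegree_pow, natDegree_X_sub_C]; ring
  · rw [finrank_gen1 G, hg, natDegree_pow]

omit [Finite F] in
theorem finrank_decomp : ∀ (L : List (Key F)) {V : Type v} [AddCommGroup V] [Module F V] [FiniteDimensional F V]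
    (X : Str F ε V), Decomp L X → Module.finrank F V = (L.map fun k => k.e * k.g.natDegree).sum := by
  intro L
  induction L with
  | nil =>
    intro V _ _ _ X h
    haveI : Subsingleton V := h
    exact Module.finrank_zero_of_subsingleton
  | cons k L ih =>
    intro V _ _ _ X h
    obtain ⟨V₁, V₂, i₁, i₂, m₁, m₂, X₁, X₂, h1, h2, ⟨i⟩⟩ := h
    haveI := (finite_fst i).1
    haveI := (finite_fst i).2
    rw [i.e.finrank_eq, Module.finrank_prod, finrank_piece h1, ih X₂ h2, List.map_cons, List.sum_cons]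

/-! ### Admissible keys -/

/-- The conditions satisfied by the key of a piece. -/
def Key.Valid (ε : F) (k : Key F) : Prop :=
  k.e ≠ 0 ∧
    ((k.flag = false ∧ ∃ f : F[X], k.g = f * star' f ∧ Irreducible f ∧ f.Monic ∧ f.coeff 0 ≠ 0 ∧ star' f ≠ f) ∨
      (k.flag = false ∧ Irreducible k.g ∧ k.g.Monic ∧ k.g.coeff 0 ≠ 0 ∧ 2 ≤ k.g.natDegree ∧ star' k.g = k.g) ∨
      (k.flag = false ∧ ∃ c : F, k.g = (Polynomial.X - C c) ^ 2 ∧ c * c = 1 ∧ ε * (-1) ^ (k.e - 1) = -1) ∨
      ∃ c : F, k.g = Polynomial.X - C c ∧ c * c = 1 ∧ ε * (-1) ^ (k.e - 1) = 1)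

/-- The keys with a square class. -/
def Key.IsSlot (ε : F) (k : Key F) : Prop :=
  k.e ≠ 0 ∧ ∃ c : F, k.g = Polynomial.X - C c ∧ c * c = 1 ∧ ε * (-1) ^ (k.e - 1) = 1

omit [Finite F] in
theorem valid_of_isPiece {k : Key F} {X : Str F ε V} (h : IsPiece k X) : k.Valid ε := by
  obtain ⟨he, h⟩ := h
  refine ⟨he, ?_⟩
  rcases h with ⟨hf, f, v, w, hg, hi, hm, h0, hne, -, -, -⟩ | ⟨hf, hi, hm, h0, hd, hs, -⟩ |
      ⟨hf, c, v, w, hg, hc, hsign, -, -, -⟩ | ⟨c, v, hg, hc, hsign, -, -, -⟩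
  · exact Or.inl ⟨hf, f, hg, hi, hm, h0, hne⟩
  · exact Or.inr (Or.inl ⟨hf, hi, hm, h0, hd, hs⟩)
  · exact Or.inr (Or.inr (Or.inl ⟨hf, c, hg, hc, hsign⟩))
  · exact Or.inr (Or.inr (Or.inr ⟨c, hg, hc, hsign⟩))

omit [Finite F] in
theorem valid_decomp : ∀ (L : List (Key F)) {V : Type v} [AddCommGroup V] [Module F V]
    (X : Str F ε V), Decomp L X → ∀ k ∈ L, k.Valid ε := by
  intro L
  induction L with
  | nil => intro V _ _ X _ k hk; cases hk
  | cons a L ih =>
    intro V _ _ X h k hk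
    obtain ⟨V₁, V₂, i₁, i₂, m₁, m₂, X₁, X₂, h1, h2, -⟩ := h
    rcases List.mem_cons.1 hk with rfl | hk
    · exact valid_of_isPiece h1
    · exact ih X₂ h2 k hk

/-! ### Changing the signs -/

omit [Finite F] in
theorem isPiece_scale {k : Key F} {X : Str F ε V} (h : IsPiece k X) (hs : k.IsSlot ε) {η : F} (hη : η ≠ 0)
    (hsq : ∀ x : F, x ≠ 0 → (IsSquare (η * x) ↔ ¬ IsSquare x)) :
    IsPiece (⟨k.g, k.e, !k.flag⟩ : Key F) (X.scale η hη) := by
  classical
  obtain ⟨he, h⟩ := h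
  refine ⟨he, ?_⟩
  obtain ⟨-, c', hg', hc', hsign'⟩ := hs
  have hlin : k.g.natDegree = 1 := by rw [hg', natDegree_X_sub_C]
  rcases h with ⟨-, f, v, w, hg, hi, hm, h0, -, -, -, -⟩ | ⟨-, -, -, -, hd, -, -⟩ |
      ⟨-, c, v, w, hg, -, -, -, -, -⟩ | ⟨c, v, hg, hc, hsign, G, hne, hflag⟩
  · rw [hg, natDegree_mul hm.ne_zero (star'_monic h0).ne_zero, natDegree_star' h0] at hlin
    omega
  · omega
  · rw [hg, natDegree_pow, natDegree_X_sub_C] at hlin; omega
  · refine Or.inr (Or.inr (Or.inr ⟨c, v, hg, hc, hsign, G, ?_, ?_⟩))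
    · show η * X.B _ v ≠ 0
      exact mul_ne_zero hη hne
    · show (!k.flag) = true ↔ ¬ IsSquare (η * X.B _ v)
      have h1 := hsq _ hne
      cases hb : k.flag <;> rw [hb] at hflag
      · simp only [Bool.false_eq_true, false_iff, not_not] at hflag
        exact iff_of_true rfl fun h => (h1.1 h) hflag
      · exact iff_of_false (by simp) (not_not.2 (h1.2 (hflag.1 rfl)))

theorem exists_nonsquare_twist (h2 : (2 : F) ≠ 0) :
    ∃ η : F, η ≠ 0 ∧ ¬ IsSquare η ∧ (∀ x : F, x ≠ 0 → (IsSquare (η * x) ↔ ¬ IsSquare x)) ∧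
      ∃ a b, a * a + b * b = η := by
  classical
  haveI : Fintype F := Fintype.ofFinite F
  have hchar : ringChar F ≠ 2 := fun h => h2 (by
    haveI : CharP F 2 := ringChar.of_eq h
    exact CharP.cast_eq_zero F 2)
  obtain ⟨η, hη⟩ := FiniteField.exists_nonsquare hchar
  have hη0 : η ≠ 0 := fun h => hη (h ▸ IsSquare.zero)
  refine ⟨η, hη0, hη, fun x hx => ?_, ?_⟩
  · rw [← quadraticChar_one_iff_isSquare (mul_ne_zero hη0 hx), map_mul,
      quadraticChar_neg_one_iff_not_isSquare.2 hη, ← quadraticChar_neg_one_iff_not_isSquare]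
    rcases quadraticChar_dichotomy hx with h | h <;> rw [h] <;> decide
  · obtain ⟨a, b, hab⟩ := FiniteField.exists_root_sum_quadratic
      (f := (Polynomial.X : F[X]) ^ 2 - C η) (g := (Polynomial.X : F[X]) ^ 2)
      (degree_X_pow_sub_C (by norm_num) _) (degree_X_pow 2) (FiniteField.odd_card_of_char_ne_two hchar)
    simp only [eval_sub, eval_pow, eval_X, eval_C] at hab
    exact ⟨a, b, by linear_combination hab⟩

/-- The number of non-square signs. -/
def flags (L : List (Key F)) : ℕ := L.countP fun k => k.flag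

/-- Two non-squares may be replaced by two squares. -/
theorem decomp_pair (h2 : (2 : F) ≠ 0) [FiniteDimensional F V] {k : Key F} (hk : k.flag = true) {L : List (Key F)}
    {X : Str F ε V} (h : Decomp (k :: k :: L) X) :
    Decomp ((⟨k.g, k.e, false⟩ : Key F) :: ⟨k.g, k.e, false⟩ :: L) X := by
  obtain ⟨V₁, V₂, i₁, i₂, m₁, m₂, X₁, X₂, h1, h3, ⟨i⟩⟩ := h
  obtain ⟨V₃, V₄, i₃, i₄, m₃, m₄, X₃, X₄, h4, h5, ⟨j⟩⟩ := h3
  haveI := (finite_fst i).1
  haveI := (finite_fst i).2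
  haveI := (finite_fst j).1
  obtain ⟨a⟩ := iso_of_isPiece h2 h4 h1
  obtain ⟨η, hη0, -, hsq, x, y, hxy⟩ := exists_nonsquare_twist (F := F) h2
  have hslot : k.IsSlot ε := by
    obtain ⟨he, hh⟩ := h1
    rcases hh with ⟨hf, -⟩ | ⟨hf, -⟩ | ⟨hf, -⟩ | ⟨c, v, hg, hc, hsign, -⟩
    · rw [hk] at hf; exact absurd hf (by simp)
    · rw [hk] at hf; exact absurd hf (by simp)
    · rw [hk] at hf; exact absurd hf (by simp)
    · exact ⟨he, c, hg, hc, hsign⟩
  have hp := isPiece_scale h1 hslot hη0 hsq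
  rw [hk] at hp
  let Y := X₁.scale η hη0
  refine ⟨V₁, V₁ × V₄, i₁, inferInstance, m₁, inferInstance, Y, Y.prod X₄, hp,
    ⟨V₁, V₄, i₁, i₄, m₁, m₄, Y, X₄, hp, h5, ⟨Iso.refl _⟩⟩, ⟨?_⟩⟩
  -- `a : X₁ ≅ X₃`
  exact i.trans ((Iso.prod (Iso.refl X₁) (j.trans (Iso.prod a.symm (Iso.refl X₄)))).trans
    ((Iso.prodAssoc X₁ X₁ X₄).symm.trans ((Iso.prod (Iso.scaleTwo X₁ hη0 hxy).symm (Iso.refl X₄)).trans
      (Iso.prodAssoc Y Y X₄))))

/-- At most one non-square sign of each kind. -/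
theorem exists_normal (h2 : (2 : F) ≠ 0) (hε : ε = 1 ∨ ε = -1) [FiniteDimensional F V] (X : Str F ε V) :
    ∃ L, Decomp L X ∧ ∀ k : Key F, k.flag = true → ¬ List.Sublist [k, k] L := by
  classical
  obtain ⟨L₀, hL₀⟩ := exists_decomp h2 hε X
  suffices ∀ n L, flags L = n → Decomp L X →
      ∃ L', Decomp L' X ∧ ∀ k : Key F, k.flag = true → ¬ List.Sublist [k, k] L' from this _ L₀ rfl hL₀
  intro n
  induction n using Nat.strong_induction_on with
  | _ n ih =>
    intro L hn hL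
    by_cases hgood : ∀ k : Key F, k.flag = true → ¬ List.Sublist [k, k] L
    · exact ⟨L, hL, hgood⟩
    push Not at hgood
    obtain ⟨k, hk, hsub⟩ := hgood
    have hc : 2 ≤ L.count k := by simpa using hsub.count_le k
    have hk1 : k ∈ L := List.count_pos_iff.1 (by omega)
    have hp1 : L.Perm (k :: L.erase k) := List.perm_cons_erase hk1
    have hk2 : k ∈ L.erase k := List.count_pos_iff.1 (by rw [List.count_erase_self]; omega)
    have hp2 : L.Perm (k :: k :: (L.erase k).erase k) := hp1.trans ((List.perm_cons_erase hk2).cons k)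
    have hfl : flags L = flags (k :: k :: (L.erase k).erase k) := List.Perm.countP_eq _ hp2
    refine ih (flags ((⟨k.g, k.e, false⟩ : Key F) :: ⟨k.g, k.e, false⟩ :: (L.erase k).erase k)) ?_ _ rfl
      (decomp_pair h2 hk (decomp_perm hp2 X hL))
    rw [← hn, hfl]
    simp [flags, List.countP_cons, hk]

end Cfsg.Agent.H7Class
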