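import Cfsg.Agent.H7Class.Decomp

/-!
# Changing one square class changes the isometry type of the form
-/

set_option autoImplicit false

namespace Cfsg.Agent.H7Class

open Polynomial

universe v

variable {F : Type*} [Field F] [Finite F] {ε : F}
  {V W : Type v} [AddCommGroup V] [Module F V] [AddCommGroup W] [Module F W]

omit [Finite F] in
theorem sign_odd (h2 : (2 : F) ≠ 0) {k : Key F} (hs : k.IsSlot (1 : F)) : Odd k.e := by
  obtain ⟨he, c, -, -, hsign⟩ := hs
  rw [one_mul] at hsign
  by_contra h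
  rw [Nat.not_odd_iff_even] at h
  have ho : Odd (k.e - 1) := by
    obtain ⟨r, hr⟩ := h
    exact ⟨r - 1, by omega⟩
  rw [ho.neg_one_pow] at hsign
  exact h2 (by linear_combination -hsign)

omit [Finite F] in
/-- The determinant of an isometry between a form and its twist on a summand of odd dimension. -/
theorem square_of_twist [FiniteDimensional F V] [FiniteDimensional F W] (X : Str F ε V) (Y : Str F ε W) {η : F}
    (hη : η ≠ 0) (hodd : Odd (Module.finrank F V)) (E : (V × W) ≃ₗ[F] (V × W))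
    (hE : ∀ u v, (X.prod Y).B (E u) (E v) = ((X.scale η hη).prod Y).B u v) : IsSquare η := by
  classical
  let φ : (V × W) →ₗ[F] (V × W) := (η • (1 : Module.End F V)).prodMap (1 : Module.End F W)
  let b := Module.finBasis F (V × W)
  have hφ : (X.prod Y).B.comp (E : (V × W) →ₗ[F] (V × W)) (E : (V × W) →ₗ[F] (V × W))
      = (X.prod Y).B.compLeft φ := by
    refine LinearMap.ext fun u => LinearMap.ext fun v => ?_
    show (X.prod Y).B (E u) (E v) = _
    rw [hE,
      LinearMap.BilinForm.compLeft_apply, Str.prod_B, Str.prod_B, Str.scale_B]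
    simp [φ]
  have hnd : ((X.prod Y).B).Nondegenerate := ⟨(X.prod Y).nd, fun v h => (X.prod Y).nd' v h⟩
  have hG : (LinearMap.BilinForm.toMatrix b (X.prod Y).B).det ≠ 0 :=
    (LinearMap.BilinForm.nondegenerate_iff_det_ne_zero b).1 hnd
  have h := congrArg Matrix.det (congrArg (LinearMap.BilinForm.toMatrix b) hφ)
  rw [LinearMap.BilinForm.toMatrix_comp b b, LinearMap.BilinForm.toMatrix_compLeft, Matrix.det_mul, Matrix.det_mul,
    Matrix.det_mul, Matrix.det_transpose, Matrix.det_transpose, LinearMap.det_toMatrix, LinearMap.det_toMatrix] at h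
  have hdet : LinearMap.det φ = η ^ Module.finrank F V := by
    rw [LinearMap.det_prodMap, LinearMap.det_smul, map_one, map_one, mul_one, mul_one]
  rw [hdet] at h
  set d := LinearMap.det (E : (V × W) →ₗ[F] (V × W))
  have hd : d * d = η ^ Module.finrank F V := mul_right_cancel₀ hG (by linear_combination h)
  obtain ⟨r, hr⟩ := hodd
  refine ⟨d / η ^ r, ?_⟩
  rw [hr] at hd
  field_simp
  linear_combination -hd

/-- Flipping the class of one slot changes the form. -/
theorem not_isometric_of_flip (h2 : (2 : F) ≠ 0) [FiniteDimensional F V] [FiniteDimensional F W] {k : Key F}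
    (hs : k.IsSlot (1 : F)) {L : List (Key F)} {X : Str F (1 : F) V} {Y : Str F (1 : F) W}
    (hX : Decomp (k :: L) X) (hY : Decomp ((⟨k.g, k.e, !k.flag⟩ : Key F) :: L) Y) :
    ¬ ∃ E : V ≃ₗ[F] W, ∀ u v, Y.B (E u) (E v) = X.B u v := by
  rintro ⟨E, hE⟩
  obtain ⟨V₁, V₂, i₁, i₂, m₁, m₂, X₁, X₂, hp, hr, ⟨i⟩⟩ := hX
  obtain ⟨W₁, W₂, j₁, j₂, n₁, n₂, Y₁, Y₂, hp', hr', ⟨j⟩⟩ := hY
  haveI := (finite_fst i).1
  haveI := (finite_fst i).2
  haveI := (finite_fst j).1
  haveI := (finite_fst j).2
  obtain ⟨η, hη0, hηns, hsq, -⟩ := exists_nonsquare_twist (F := F) h2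
  obtain ⟨a⟩ := iso_of_isPiece h2 hp' (isPiece_scale hp hs hη0 hsq)
  obtain ⟨b⟩ := decomp_unique h2 L X₂ Y₂ hr hr'
  apply hηns
  have hdim : Module.finrank F V₁ = k.e := by
    obtain ⟨-, c, hg, -, -⟩ := hs
    rw [finrank_piece hp, hg, natDegree_X_sub_C, mul_one]
  refine square_of_twist X₁ X₂ hη0 (hdim ▸ sign_odd h2 hs)
    ((a.prod b).e.trans (j.e.symm.trans (E.symm.trans i.e))) fun u v => ?_
  rw [LinearEquiv.trans_apply, LinearEquiv.trans_apply, LinearEquiv.trans_apply, LinearEquiv.trans_apply,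
    LinearEquiv.trans_apply, LinearEquiv.trans_apply, i.map_B, ← hE, LinearEquiv.apply_symm_apply,
    LinearEquiv.apply_symm_apply]
  exact (j.symm.map_B _ _).trans ((a.prod b).map_B u v)

end Cfsg.Agent.H7Class
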