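import Mathlib
import Cfsg.Agent.Linear.TwoClasses

/-!
# Classes of a subgroup of index two
-/

set_option autoImplicit false

namespace Cfsg.Agent.H7Class

variable {G : Type*} [Group G] [Finite G] (H : Subgroup G)

/-- The classes which split in the subgroup. -/
def splitClasses : Set (ConjClasses G) :=
  {c | ∃ x, ConjClasses.mk x = c ∧ x ∈ H ∧ ∀ y, Commute x y → y ∈ H}

/-- Twice the class number of a subgroup of index two. -/
theorem two_mul_classes (hH : H.index = 2) :
    2 * Nat.card (ConjClasses H) = Nat.card (ConjClasses G) + 3 * (splitClasses H).ncard := by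
  classical
  haveI : Fintype G := Fintype.ofFinite G
  haveI : H.Normal := Subgroup.normal_of_index_eq_two hH
  have hmul : ∀ x y, x * y ∈ H ↔ (x ∈ H ↔ y ∈ H) := fun x y => Subgroup.mul_mem_iff_of_index_two hH
  set P : Finset (G × G) := Finset.univ.filter fun p => Commute p.1 p.2
  let S : G → Prop := fun x => x ∈ H ∧ ∀ y, Commute x y → y ∈ H
  have hSconj : ∀ x g, S x → S (g * x * g⁻¹) := by
    rintro x g ⟨h1, h3⟩
    refine ⟨Subgroup.Normal.conj_mem inferInstance x h1 g, fun y hy => ?_⟩
    have h4 : Commute x (g⁻¹ * y * g) := by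
      have := congrArg (fun z => g⁻¹ * z * g) hy.eq
      simp only [← mul_assoc, inv_mul_cancel, one_mul, inv_mul_cancel_right] at this ⊢
      simpa [Commute, SemiconjBy, ← mul_assoc] using this
    have := Subgroup.Normal.conj_mem inferInstance _ (h3 _ h4) g
    simpa [← mul_assoc] using this
  set a := (P.filter fun p => p.1 ∈ H ∧ p.2 ∈ H).card
  set b := (P.filter fun p => p.1 ∈ H ∧ p.2 ∉ H).card
  set c := (P.filter fun p => p.1 ∉ H ∧ p.2 ∈ H).card
  set d := (P.filter fun p => p.1 ∉ H ∧ p.2 ∉ H).card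
  have hG : P.card = Nat.card (ConjClasses G) * Nat.card G := by
    rw [← card_comm_eq_card_conjClasses_mul_card, Nat.card_eq_fintype_card, Fintype.card_subtype]
  have hHH : a = Nat.card (ConjClasses H) * Nat.card H := by
    rw [← card_comm_eq_card_conjClasses_mul_card, Nat.card_eq_fintype_card,
      ← Finset.card_univ]
    refine Finset.card_bij' (fun p hp => ⟨(⟨p.1, (Finset.mem_filter.1 hp).2.1⟩, ⟨p.2, (Finset.mem_filter.1 hp).2.2⟩),
        Subtype.ext (Finset.mem_filter.1 (Finset.mem_filter.1 hp).1).2⟩)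
      (fun q _ => ((q.1.1 : G), (q.1.2 : G))) (fun _ _ => Finset.mem_univ _) (fun q _ => ?_) (fun _ _ => rfl)
      (fun _ _ => rfl)
    simp only [P, Finset.mem_filter, Finset.mem_univ, true_and]
    exact ⟨congrArg Subtype.val q.2.eq, q.1.1.2, q.1.2.2⟩
  have hsum : P.card = a + b + (c + d) := by
    rw [← Finset.card_filter_add_card_filter_not (s := P) (fun p => p.1 ∈ H),
      ← Finset.card_filter_add_card_filter_not (s := P.filter fun p => p.1 ∈ H) (fun p => p.2 ∈ H),
      ← Finset.card_filter_add_card_filter_not (s := P.filter fun p => p.1 ∉ H) (fun p => p.2 ∈ H)]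
    simp only [Finset.filter_filter]
    simp only [a, b, c, d, P, Finset.filter_filter]
  have hbc : c = b := by
    refine Finset.card_nbij' Prod.swap Prod.swap (fun p hp => ?_) (fun p hp => ?_) (fun p _ => rfl) (fun p _ => rfl) <;>
    · simp only [P, Finset.mem_coe, Finset.mem_filter, Finset.mem_univ, true_and] at hp ⊢
      exact ⟨hp.1.symm, hp.2.2, hp.2.1⟩
  have hcd : c = d := by
    refine Finset.card_nbij' (fun p => (p.1, p.1 * p.2)) (fun p => (p.1, p.1⁻¹ * p.2)) (fun p hp => ?_) (fun p hp => ?_)
      (fun p _ => by simp) (fun p _ => by simp)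
    · simp only [P, Finset.mem_coe, Finset.mem_filter, Finset.mem_univ, true_and] at hp ⊢
      exact ⟨(Commute.refl p.1).mul_right hp.1, hp.2.1, fun h => hp.2.1 (((hmul _ _).1 h).2 hp.2.2)⟩
    · simp only [P, Finset.mem_coe, Finset.mem_filter, Finset.mem_univ, true_and] at hp ⊢
      exact ⟨(Commute.refl p.1).inv_right.mul_right hp.1, hp.2.1, (hmul _ _).2 (iff_of_false (fun h => hp.2.1 (inv_mem_iff.1 h)) hp.2.2)⟩
  set aS := (P.filter fun p => S p.1).card
  have hab : a = aS + b := by
    rw [show a = ((P.filter fun p => p.1 ∈ H ∧ p.2 ∈ H).filter fun p => S p.1).card +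
      ((P.filter fun p => p.1 ∈ H ∧ p.2 ∈ H).filter fun p => ¬ S p.1).card from
      (Finset.card_filter_add_card_filter_not _).symm]
    congr 1
    · refine congrArg Finset.card (Finset.ext fun p => ?_)
      simp only [P, S, Finset.mem_filter, Finset.mem_univ, true_and]
      exact ⟨fun h => ⟨h.1.1, h.2⟩, fun h => ⟨⟨h.1, h.2.1, h.2.2 _ h.1⟩, h.2⟩⟩
    · have hy : ∀ x, x ∈ H → ¬ S x → ∃ y, Commute x y ∧ y ∉ H := fun x hx hS => by
        by_contra h
        push Not at h
        exact hS ⟨hx, h⟩
      choose! y0 hy0 hy1 using hy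
      refine Finset.card_nbij' (fun p => (p.1, y0 p.1 * p.2)) (fun p => (p.1, (y0 p.1)⁻¹ * p.2)) (fun p hp => ?_)
        (fun p hp => ?_) (fun p _ => by simp) (fun p _ => by simp)
      · simp only [P, Finset.mem_coe, Finset.mem_filter, Finset.mem_univ, true_and] at hp ⊢
        exact ⟨(hy0 _ hp.1.2.1 hp.2).mul_right hp.1.1, hp.1.2.1,
          fun h => hy1 _ hp.1.2.1 hp.2 (((hmul _ _).1 h).2 hp.1.2.2)⟩
      · simp only [P, Finset.mem_coe, Finset.mem_filter, Finset.mem_univ, true_and] at hp ⊢
        have hS : ¬ S p.1 := fun h => hp.2.2 (h.2 _ hp.1)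
        exact ⟨⟨(hy0 _ hp.2.1 hS).inv_right.mul_right hp.1, hp.2.1,
          (hmul _ _).2 (iff_of_false (fun h => hy1 _ hp.2.1 hS (inv_mem_iff.1 h)) hp.2.2)⟩, hS⟩
  have haS : aS = (splitClasses H).ncard * Nat.card G := by
    have hT : splitClasses H = ↑((Finset.univ : Finset G).filter S |>.image ConjClasses.mk) := by
      ext t
      simp only [splitClasses, S, Set.mem_setOf_eq, Finset.coe_image, Set.mem_image, Finset.mem_coe,
        Finset.mem_filter, Finset.mem_univ, true_and]
      exact ⟨fun ⟨x, h1, h2⟩ => ⟨x, h2, h1⟩, fun ⟨x, h1, h2⟩ => ⟨x, h2, h1⟩⟩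
    rw [hT, Set.ncard_coe_finset,
      show aS = ∑ x ∈ Finset.univ.filter S, Nat.card (Subgroup.centralizer ({x} : Set G)) from ?_]
    · rw [← Finset.sum_fiberwise_of_maps_to (g := ConjClasses.mk)
        (t := (Finset.univ.filter S).image ConjClasses.mk) (fun x hx => Finset.mem_image_of_mem _ hx),
        ← smul_eq_mul, ← Finset.sum_const]
      refine Finset.sum_congr rfl fun t ht => ?_
      obtain ⟨x, hx, rfl⟩ := Finset.mem_image.1 ht
      have hxS : S x := (Finset.mem_filter.1 hx).2
      have hfib : (Finset.univ.filter S).filter (fun z => ConjClasses.mk z = ConjClasses.mk x) =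
          Finset.univ.filter (fun z => z ∈ (ConjClasses.mk x).carrier) := by
        refine Finset.ext fun z => ?_
        simp only [Finset.mem_filter, Finset.mem_univ, true_and, ConjClasses.mem_carrier_iff_mk_eq]
        refine ⟨fun h => h.2, fun h => ⟨?_, h⟩⟩
        obtain ⟨g, hg⟩ := isConj_iff.1 (ConjClasses.mk_eq_mk_iff_isConj.1 h.symm)
        exact hg ▸ hSconj x g hxS
      rw [hfib, ← Linear.card_carrier_mul_card_centralizer x, Nat.card_eq_fintype_card
        (α := (ConjClasses.mk x).carrier), Fintype.card_subtype]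
      rw [Finset.sum_congr rfl (g := fun _ => Nat.card (Subgroup.centralizer ({x} : Set G))) fun z hz => ?_,
        Finset.sum_const, smul_eq_mul]
      have h3 := Linear.card_carrier_mul_card_centralizer z
      rw [show ConjClasses.mk z = ConjClasses.mk x from
        ConjClasses.mem_carrier_iff_mk_eq.1 (Finset.mem_filter.1 hz).2,
        ← Linear.card_carrier_mul_card_centralizer x] at h3
      haveI : Nonempty (ConjClasses.mk x).carrier := ⟨⟨x, ConjClasses.mem_carrier_mk⟩⟩
      exact Nat.eq_of_mul_eq_mul_left (Nat.card_pos (α := (ConjClasses.mk x).carrier)) h3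
    · show (P.filter fun p => S p.1).card = _
      rw [Finset.card_eq_sum_card_fiberwise (f := Prod.fst) (t := Finset.univ.filter S) (fun p hp => by
        simp only [Finset.mem_coe, Finset.mem_filter, Finset.mem_univ, true_and] at hp ⊢
        exact hp.2)]
      refine Finset.sum_congr rfl fun x hx => ?_
      rw [Nat.card_eq_fintype_card, Fintype.card_subtype]
      refine Finset.card_nbij' Prod.snd (fun y => (x, y)) (fun p hp => ?_) (fun y hy => ?_) (fun p hp => ?_)
        (fun y _ => rfl)
      · simp only [P, Finset.mem_coe, Finset.mem_filter, Finset.mem_univ, true_and] at hp ⊢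
        obtain ⟨⟨hc, -⟩, rfl⟩ := hp
        exact Subgroup.mem_centralizer_singleton_iff.2 hc.eq.symm
      · simp only [P, Finset.mem_coe, Finset.mem_filter, Finset.mem_univ, true_and] at hy hx ⊢
        exact ⟨⟨(Subgroup.mem_centralizer_singleton_iff.1 hy).symm, hx⟩, trivial⟩
      · simp only [Finset.mem_coe, Finset.mem_filter] at hp
        exact Prod.ext hp.2.symm rfl
  have hcard : Nat.card G = 2 * Nat.card H := by rw [← Subgroup.card_mul_index H, hH, mul_comm]
  refine Nat.eq_of_mul_eq_mul_right (Nat.card_pos (α := H)) ?_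
  rw [hcard] at haS hG
  nlinarith

end Cfsg.Agent.H7Class
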