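import Cfsg.Agent.H7Class.Mat
import Cfsg.Agent.H54.SympSemisimple
import Cfsg.Agent.H68.OrthoClasses

/-!
# Many characteristic polynomials of isometries of even dimensional quadratic spaces
-/

set_option autoImplicit false

namespace Cfsg.Agent.H7Class

open Polynomial Matrix Cfsg.Agent.H58.FormSim

variable {F : Type*} [Field F] [Fintype F] {ι : Type} [Fintype ι] [DecidableEq ι] {n : ℕ}

omit [Fintype F] in
theorem pal_of_coeff {f : F[X]} (hm : f.Monic) (hd : f.natDegree = 2 * n)
    (h : ∀ j ≤ 2 * n, f.coeff (2 * n - j) = f.coeff j) : Pal f := by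
  refine ⟨hm, Polynomial.ext fun j => ?_, hd ▸ even_two_mul n⟩
  rcases le_or_gt j (2 * n) with hj | hj
  · rw [coeff_reverse, hd, revAt_le hj, h j hj]
  · rw [coeff_reverse, hd, revAt_eq_self_of_lt hj]

omit [Fintype F] in
/-- Removing a double root. -/
theorem exists_double_root (h2 : (2 : F) ≠ 0) {f : F[X]} (hf : Pal f) {c : F} (hc : c * c = 1) (h : f.eval c = 0) :
    ∃ r, Pal r ∧ f = (Polynomial.X - Polynomial.C c) ^ 2 * r := by
  obtain ⟨r, hr⟩ : Polynomial.X - Polynomial.C c ∣ f := dvd_iff_isRoot.2 h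
  have hc0 : c ≠ 0 := left_ne_zero_of_mul_eq_one hc
  have hlin : (Polynomial.X - Polynomial.C c).reverse = Polynomial.C (-c) * (Polynomial.X - Polynomial.C c) := by
    have h1 := star'_X_sub_C hc0
    rw [inv_eq_of_mul_eq_one_left hc] at h1
    conv_rhs => arg 2; rw [← h1, star']
    rw [← mul_assoc, ← Polynomial.C_mul]
    simp [hc0]
  have hne : Polynomial.X - Polynomial.C c ≠ 0 := X_sub_C_ne_zero c
  have hrev : Polynomial.C (-c) * r.reverse = r := by
    have h1 := hf.2.1
    rw [hr, reverse_mul_of_domain, hlin] at h1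
    exact mul_left_cancel₀ hne (by linear_combination h1)
  have hrm : r.Monic := (monic_X_sub_C c).of_mul_monic_left (hr ▸ hf.1)
  have hrodd : Odd r.natDegree := by
    have hev := hf.2.2
    rw [hr, (monic_X_sub_C c).natDegree_mul hrm, natDegree_X_sub_C] at hev
    rcases Nat.even_or_odd r.natDegree with h' | h'
    · exact absurd hev (by rw [Nat.add_comm, Nat.even_add_one]; exact not_not.2 h')
    · exact h'
  have hroot : r.eval c = 0 := by
    rcases mul_self_eq_one_iff.1 hc with rfl | rfl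
    · have h1 := eval_reverse_one r
      have h3 := congrArg (eval (1 : F)) hrev
      rw [eval_mul, eval_C, h1] at h3
      exact (mul_eq_zero.1 (show (2 : F) * r.eval 1 = 0 by linear_combination -h3)).resolve_left h2
    · have h1 := eval_reverse_neg_one r
      have h3 := congrArg (eval (-1 : F)) hrev
      rw [eval_mul, eval_C] at h3
      rw [hrodd.neg_one_pow] at h1
      exact (mul_eq_zero.1 (show (2 : F) * r.eval (-1) = 0 by linear_combination -h1 - h3)).resolve_left h2
  obtain ⟨r', hr'⟩ : Polynomial.X - Polynomial.C c ∣ r := dvd_iff_isRoot.2 hroot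
  have hfr : f = (Polynomial.X - Polynomial.C c) ^ 2 * r' := by rw [hr, hr']; ring
  have hr'm : r'.Monic := ((monic_X_sub_C c).pow 2).of_mul_monic_left (hfr ▸ hf.1)
  refine ⟨r', ⟨hr'm, ?_, ?_⟩, hfr⟩
  · have h1 := hf.2.1
    rw [hfr, reverse_mul_of_domain, (pal_sq hc).2.1] at h1
    exact mul_left_cancel₀ (pow_ne_zero 2 hne) h1
  · have hev := hf.2.2
    rw [hfr, ((monic_X_sub_C c).pow 2).natDegree_mul hr'm, natDegree_pow, natDegree_X_sub_C] at hev
    exact (Nat.even_add.1 hev).1 (by norm_num)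

/-- A symmetric form with an isometry of given characteristic polynomial. -/
def Realized (f : F[X]) (d : F) (ι : Type) [Fintype ι] [DecidableEq ι] : Prop :=
  ∃ H A : Matrix ι ι F, Hᵀ = H ∧ H.det = d ∧ Aᵀ * H * A = H ∧ A.charpoly = f

omit [Fintype F] in
theorem Realized.reindex {f : F[X]} {d : F} {κ : Type} [Fintype κ] [DecidableEq κ] (h : Realized f d ι)
    (e : ι ≃ κ) : Realized f d κ := by
  obtain ⟨H, A, hH, hd, hA, hf⟩ := h
  refine ⟨Matrix.reindex e e H, Matrix.reindex e e A, ?_, ?_, ?_, ?_⟩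
  · rw [transpose_reindex, hH]
  · rw [det_reindex_self, hd]
  · simp only [Matrix.reindex_apply, transpose_submatrix, submatrix_mul_equiv, hA]
  · rw [Matrix.charpoly_reindex, hf]

omit [Fintype F] in
theorem Realized.extend {r : F[X]} {δ : F} (h : Realized r δ ι) {c : F} (hc : c * c = 1) (d : F) :
    Realized ((Polynomial.X - Polynomial.C c) ^ 2 * r) (δ * d) (ι ⊕ Fin 2) := by
  obtain ⟨H, A, hH, hd, hA, hf⟩ := h
  refine ⟨fromBlocks H 0 0 (diagonal ![1, d]), fromBlocks A 0 0 (c • (1 : Matrix (Fin 2) (Fin 2) F)), ?_, ?_, ?_, ?_⟩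
  · rw [fromBlocks_transpose, hH, transpose_zero, transpose_zero, diagonal_transpose]
  · rw [det_fromBlocks_zero₂₁, hd, det_diagonal]
    simp
  · rw [fromBlocks_transpose, fromBlocks_multiply, fromBlocks_multiply]
    simp [hA, smul_smul, hc]
  · rw [charpoly_fromBlocks_zero₂₁, hf, mul_comm, smul_one_eq_diagonal, charpoly_diagonal]
    simp [pow_two]

/-- The symmetric form of a symplectic matrix without the eigenvalues `±1`. -/
theorem realized_symp (p : ℕ) [Fact p.Prime] [CharP F p] {f : F[X]} (hf : Pal f) (hd : f.natDegree = 2 * n) :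
    Realized f (f.eval 1 * f.eval (-1)) (Fin n ⊕ Fin n) := by
  obtain ⟨g, -, hg⟩ := H68.OrthoClasses.exists_symp p n hf.1 hd hf.coeff_zero
    (by rw [H68.RootClasses.tw, Polynomial.map_id, hf.coeff_zero, inv_one, Polynomial.C_1, one_mul, hf.2.1])
  set G : Matrix (Fin n ⊕ Fin n) (Fin n ⊕ Fin n) F := g.1 with hG
  set Gi : Matrix (Fin n ⊕ Fin n) (Fin n ⊕ Fin n) F := (g⁻¹).1 with hGi
  set J' := Matrix.J (Fin n) F
  have e1 : G * Gi = 1 := congrArg Subtype.val (mul_inv_cancel g)
  have e2 : Gi * G = 1 := congrArg Subtype.val (inv_mul_cancel g)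
  have hGJ : Gᵀ * J' * G = J' := SymplecticGroup.mem_iff'.1 g.2
  have hGiJ : Giᵀ * J' * Gi = J' := SymplecticGroup.mem_iff'.1 (g⁻¹).2
  have h1 : Gᵀ * J' = J' * Gi := by
    calc Gᵀ * J' = Gᵀ * J' * (G * Gi) := by rw [e1, mul_one]
      _ = J' * Gi := by rw [← mul_assoc, hGJ]
  have h3 : Giᵀ * J' = J' * G := by
    calc Giᵀ * J' = Giᵀ * J' * (Gi * G) := by rw [e2, mul_one]
      _ = J' * G := by rw [← mul_assoc, hGiJ]
  refine ⟨J' * (G - Gi), G, ?_, ?_, ?_, hg⟩
  · rw [transpose_mul, J_transpose, transpose_sub, sub_mul, mul_neg, mul_neg, h1, h3, mul_sub]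
    abel
  · have hfac : G - Gi = Gi * ((G - 1) * (G + 1)) := by
      rw [← mul_assoc, mul_sub, e2, mul_one, sub_mul, one_mul, mul_add, e2, mul_one]
      abel
    have hev : ∀ t : F, f.eval t = (Matrix.scalar (Fin n ⊕ Fin n) t - G).det := fun t => by
      rw [← hg, Matrix.eval_charpoly]
    have hcard : ((-1 : F)) ^ Fintype.card (Fin n ⊕ Fin n) = 1 := by
      rw [Fintype.card_sum, Fintype.card_fin, Even.neg_one_pow ⟨n, rfl⟩]
    have d1 : (G - 1).det = f.eval 1 := by
      rw [hev, map_one, ← neg_sub (1 : Matrix _ _ F) G, det_neg, hcard, one_mul]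
    have d3 : (G + 1).det = f.eval (-1) := by
      rw [hev, map_neg, map_one, show -1 - G = -(G + 1) by abel, det_neg, hcard, one_mul]
    rw [det_mul, hfac, det_mul, det_mul, d1, d3, hGi, H54.SympSS.det_eq_one p (g⁻¹),
      show J'.det = 1 from H54.SympSS.det_eq_one p ⟨J', SymplecticGroup.J_mem (Fin n) F⟩, one_mul, one_mul]
  · rw [← mul_assoc Gᵀ, h1, mul_assoc, mul_assoc, sub_mul G Gi, e2, mul_sub, mul_sub,
      ← mul_assoc Gi G, e2, one_mul, mul_one, mul_sub]

/-- Every reciprocal polynomial is realised. -/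
theorem exists_realized (p : ℕ) [Fact p.Prime] [CharP F p] :
    ∀ (m : ℕ) {f : F[X]}, Pal f → f.natDegree = 2 * m → (2 : F) ≠ 0 →
      ∀ d : F, d ≠ 0 → (f.eval 1 * f.eval (-1) ≠ 0 → d = f.eval 1 * f.eval (-1)) →
      Realized f d (Fin m ⊕ Fin m) := by
  intro m
  induction m using Nat.strong_induction_on with
  | _ m ih =>
    intro f hf hd h2 d hd0 hcl
    by_cases h : f.eval 1 * f.eval (-1) = 0
    · obtain ⟨c, hc, hroot⟩ : ∃ c : F, c * c = 1 ∧ f.eval c = 0 := by
        rcases mul_eq_zero.1 h with h | h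
        · exact ⟨1, one_mul 1, h⟩
        · exact ⟨-1, by ring, h⟩
      obtain ⟨r, hr, hfr⟩ := exists_double_root h2 hf hc hroot
      obtain ⟨m', rfl⟩ : ∃ m', m = m' + 1 := by
        refine ⟨m - 1, ?_⟩
        have := natDegree_le_of_dvd (⟨r, hfr⟩ : (Polynomial.X - Polynomial.C c) ^ 2 ∣ f) hf.1.ne_zero
        rw [natDegree_pow, natDegree_X_sub_C] at this
        omega
      have hrd : r.natDegree = 2 * m' := by
        rw [hfr, ((monic_X_sub_C c).pow 2).natDegree_mul hr.1, natDegree_pow, natDegree_X_sub_C] at hd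
        omega
      obtain ⟨δ, hδ, hR⟩ : ∃ δ : F, δ ≠ 0 ∧ Realized r δ (Fin m' ⊕ Fin m') := by
        by_cases h' : r.eval 1 * r.eval (-1) = 0
        · exact ⟨1, one_ne_zero, ih m' (by omega) hr hrd h2 1 one_ne_zero fun h'' => absurd h' h''⟩
        · exact ⟨_, h', ih m' (by omega) hr hrd h2 _ h' fun _ => rfl⟩
      have hE := (hR.extend hc (d / δ)).reindex
        (Fintype.equivOfCardEq (β := Fin (m' + 1) ⊕ Fin (m' + 1)) (by simp; omega))
      rwa [mul_div_cancel₀ d hδ, ← hfr] at hE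
    · rw [hcl h]
      exact realized_symp p hf hd

omit [Fintype F] in
theorem square_class {κ : Type} [Fintype κ] [DecidableEq κ] {H : Matrix ι ι F} {K : Matrix κ κ F} (hc : Congr H K)
    (hι : Fintype.card ι = 2 * n) (hκ : Fintype.card κ = 2 * n) : IsSquare (H.det * K.det) := by
  let e : ι ≃ κ := Fintype.equivOfCardEq (hι.trans hκ.symm)
  obtain ⟨Y, l, hY⟩ := congr_iff_matrix.1 ((congr_reindex e H).symm.trans hc)
  refine ⟨(l : F) ^ n * (Y : Matrix κ κ F).det * H.det, ?_⟩
  rw [hY, det_smul, hκ, det_mul, det_mul, det_transpose, det_reindex_self, pow_mul']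
  ring

/-- Symmetric forms of equal square class are congruent. -/
theorem congr_of_square (hodd : Odd (Fintype.card F)) {k : ℕ} (hn : Fintype.card ι = 2 * (k + 1))
    {H H₀ : Matrix ι ι F} (hH : Hᵀ = H) (hd : H.det ≠ 0) (hH₀ : H₀ᵀ = H₀) (hd₀ : H₀.det ≠ 0)
    (hsq : IsSquare (H.det * H₀.det)) : Congr H H₀ := by
  classical
  have h2 := two_ne_zero_of_odd hodd
  obtain ⟨a, b, hab⟩ := H58.FormClass.exists_aniso (F := F) h2
  have bad : ∀ H H₀ : Matrix ι ι F, H.det ≠ 0 → H₀.det ≠ 0 →
      Congr H (H58.FormClass.gram (Orthogonal.formPlus F (k + 1))) →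
      Congr H₀ (H58.FormClass.gram (Orthogonal.formMinus F k a b)) → ¬ IsSquare (H.det * H₀.det) := by
    intro H H₀ hd hd₀ hP hM hsq
    have hP' : H58.FormClass.gram (Orthogonal.formPlus F (k + 1)) = fromBlocks 0 1 1 0 := by
      rw [← H57.gram_quadFormPlus (F := F) (k + 1)]
      ext i j
      rw [← bf_single (H58.FormClass.gram _), H58.FormClass.bf_gram]
      rfl
    have hM' : H58.FormClass.gram (Orthogonal.formMinus F k a b)
        = fromBlocks (fromBlocks 0 1 1 0) 0 0 !![2, a; a, 2 * b] := by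
      rw [← H57.gram_quadFormMinus (F := F) k a b]
      ext i j
      rw [← bf_single (H58.FormClass.gram _), H58.FormClass.bf_gram]
      rfl
    obtain ⟨s, hs⟩ := square_class (n := k + 1) hP hn (by simp; omega)
    obtain ⟨t, ht⟩ := square_class (n := k + 1) hM hn (by simp; omega)
    obtain ⟨u, hu⟩ := hsq
    rw [hP', H57.det_hyperbolicGram] at hs
    rw [hM', det_fromBlocks_zero₂₁, H57.det_hyperbolicGram, det_fin_two_of] at ht
    have h1 : ((-1 : F) ^ k) * ((-1 : F) ^ k) = 1 := by rw [← mul_pow, neg_one_mul, neg_neg, one_pow]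
    refine H57.disc_nonsquare hodd hab ⟨s * t * u / (H.det * H₀.det), ?_⟩
    have h3 : (a ^ 2 - 4 * b) * (H.det * H₀.det) = s * s * (t * t) := by
      rw [← hs, ← ht, pow_succ]
      linear_combination -((a ^ 2 - 4 * b) * (H.det * H₀.det)) * h1
    field_simp
    linear_combination (H.det * H₀.det) * h3 + s * s * (t * t) * hu
  rcases H58.FormClass.congr_even h2 hH hd hn hab with hP | hM <;>
    rcases H58.FormClass.congr_even h2 hH₀ hd₀ hn hab with hP₀ | hM₀
  · exact hP.trans hP₀.symm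
  · exact absurd hsq (bad H H₀ hd hd₀ hP hM₀)
  · exact absurd (mul_comm H.det H₀.det ▸ hsq) (bad H₀ H hd₀ hd hP₀ hM)
  · exact hM.trans hM₀.symm

omit [Fintype F] in
theorem exists_isometry_of_congr {H H₀ : Matrix ι ι F} (hc : Congr H H₀) {A : Matrix ι ι F}
    (hA : Aᵀ * H * A = H) : ∃ A' : Matrix ι ι F, A'ᵀ * H₀ * A' = H₀ ∧ A'.charpoly = A.charpoly := by
  obtain ⟨E, l, hl, h⟩ := hc
  refine ⟨LinearMap.toMatrix' (E.symm.conj (Matrix.toLin' A)), bf_inj fun u v => mul_left_cancel₀ hl ?_, ?_⟩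
  · rw [← bf_mulVec, LinearMap.toMatrix'_mulVec, LinearMap.toMatrix'_mulVec, ← h, ← h]
    simp [LinearEquiv.conj_apply, bf_mulVec, hA]
  · rw [← Matrix.charpoly_toLin', Matrix.toLin'_toMatrix', LinearEquiv.charpoly_conj, Matrix.charpoly_toLin']

/-- At least half of the reciprocal polynomials are characteristic polynomials of isometries. -/
theorem ortho_lower (hodd : Odd (Fintype.card F)) (hn : 2 ≤ n) (hdim : Fintype.card ι = 2 * n)
    (Q : QuadraticForm F (ι → F)) (hQ : Cfsg.Agent.Orthogonal.Nondeg Q) :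
    Fintype.card F ^ n ≤ 2 * Nat.card (ConjClasses ↥(Cfsg.isometryGroup F (⇑Q))) := by
  classical
  have h2 := two_ne_zero_of_odd hodd
  obtain ⟨p, _⟩ := CharP.exists F
  haveI : Fact p.Prime := ⟨CharP.char_is_prime F p⟩
  choose g hgp hga using fun a : Fin n → F => H54.SympSS.exists_coeff (n := n) p a
  let pal : (Fin n → F) → F[X] := fun a => (g a : Matrix (Fin n ⊕ Fin n) (Fin n ⊕ Fin n) F).charpoly
  have pdeg : ∀ a, (pal a).natDegree = 2 * n := fun a => by
    simp only [pal]; rw [Matrix.charpoly_natDegree_eq_dim, Fintype.card_sum, Fintype.card_fin, two_mul]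
  have psym : ∀ a j, j ≤ 2 * n → (pal a).coeff (2 * n - j) = (pal a).coeff j :=
    fun a j hj => H54.SympSS.coeff_charpoly_reciprocal p (g a) j hj
  have hpal : ∀ a, Pal (pal a) := fun a => pal_of_coeff (Matrix.charpoly_monic _) (pdeg a) (psym a)
  have pinj : Function.Injective pal := fun a b h => funext fun j => by
    rw [← hga a j, ← hga b j]; exact congrArg (fun f : F[X] => f.coeff ((j : ℕ) + 1)) h
  let d₀ := (H58.FormClass.gram Q).det
  have hd₀ : d₀ ≠ 0 := H58.FormClass.gram_det hQ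
  have hach : ∀ a, ((pal a).eval 1 * (pal a).eval (-1) = 0 ∨ IsSquare ((pal a).eval 1 * (pal a).eval (-1) * d₀)) →
      ∃ x : ↥(Cfsg.isometryGroup F (⇑Q)), (((x : GL ι F) : Matrix ι ι F)).charpoly = pal a := by
    intro a ha
    obtain ⟨d, hd, hdd, hsq⟩ : ∃ d : F, d ≠ 0 ∧
        ((pal a).eval 1 * (pal a).eval (-1) ≠ 0 → d = (pal a).eval 1 * (pal a).eval (-1)) ∧ IsSquare (d * d₀) := by
      by_cases h : (pal a).eval 1 * (pal a).eval (-1) = 0
      · exact ⟨d₀, hd₀, fun h' => absurd h h', ⟨d₀, rfl⟩⟩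
      · exact ⟨_, h, fun _ => rfl, ha.resolve_left h⟩
    obtain ⟨H, A, hH, hHd, hA, hAc⟩ := (exists_realized p n (hpal a) (pdeg a) h2 d hd hdd).reindex
      (Fintype.equivOfCardEq (β := ι) (by simp [hdim]; omega))
    obtain ⟨k, rfl⟩ : ∃ k, n = k + 1 := ⟨n - 1, by omega⟩
    have hc := congr_of_square hodd hdim hH (hHd ▸ hd) (H58.FormClass.gram_transpose Q) hd₀ (hHd ▸ hsq)
    obtain ⟨A', hA', hA'c⟩ := exists_isometry_of_congr hc hA
    have hdet : A'.det ≠ 0 := fun h0 => by
      have := congrArg Matrix.det hA'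
      rw [det_mul, h0, mul_zero] at this
      exact hd₀ this.symm
    refine ⟨⟨Matrix.GeneralLinearGroup.mkOfDetNeZero A' hdet, ?_⟩, hA'c.trans hAc⟩
    rw [Cfsg.Agent.Orthogonal.mem_isometryGroup_iff]
    intro v
    refine mul_left_cancel₀ h2 ?_
    rw [← H58.FormClass.bf_gram_self, ← H58.FormClass.bf_gram_self]
    show bf _ (A' *ᵥ v) (A' *ᵥ v) = _
    rw [bf_mulVec, hA']
  let good : (Fin n → F) → Prop := fun a => ∃ x : ↥(Cfsg.isometryGroup F (⇑Q)),
    (((x : GL ι F) : Matrix ι ι F)).charpoly = pal a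
  -- the classes
  have hcl : (Finset.univ.filter good).card ≤ Nat.card (ConjClasses ↥(Cfsg.isometryGroup F (⇑Q))) := by
    haveI : Fintype (ConjClasses ↥(Cfsg.isometryGroup F (⇑Q))) := Fintype.ofFinite _
    rw [Nat.card_eq_fintype_card, ← Finset.card_univ]
    refine Finset.card_le_card_of_injOn
      (fun a => if h : good a then ConjClasses.mk h.choose else ConjClasses.mk 1) (fun _ _ => Finset.mem_univ _) ?_
    intro a ha b hb h
    rw [Finset.mem_coe, Finset.mem_filter] at ha hb
    simp only [dif_pos ha.2, dif_pos hb.2, ConjClasses.mk_eq_mk_iff_isConj] at h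
    obtain ⟨c, hc⟩ := isConj_iff.1 h
    refine pinj ?_
    rw [← ha.2.choose_spec, ← hb.2.choose_spec, ← hc]
    simp [Matrix.coe_units_inv, Matrix.charpoly_units_conj]
  -- the twist
  obtain ⟨η, hη0, -, hsq, -⟩ := exists_nonsquare_twist (F := F) h2
  let δ : F[X] := Polynomial.X ^ (n + 1) + Polynomial.C 2 * Polynomial.X ^ n + Polynomial.X ^ (n - 1)
  have δc : ∀ j, δ.coeff j = (if j = n + 1 then 1 else 0) + (if j = n then 2 else 0) + (if j = n - 1 then 1 else 0) :=
    fun j => by simp [δ, coeff_X_pow]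
  let t : (Fin n → F) → F := fun a => (η - 1) * (pal a).eval 1 / 4
  let φ : (Fin n → F) → (Fin n → F) := fun a j => a j + t a * δ.coeff ((j : ℕ) + 1)
  have hφ : ∀ a, pal (φ a) = pal a + Polynomial.C (t a) * δ := by
    intro a
    have low : ∀ j ≤ n, (pal (φ a)).coeff j = (pal a + Polynomial.C (t a) * δ).coeff j := by
      intro j hj
      cases j with
      | zero =>
        rw [coeff_add, coeff_C_mul, δc, (hpal _).coeff_zero, (hpal _).coeff_zero, if_neg (by omega), if_neg (by omega),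
          if_neg (by omega)]
        ring
      | succ j =>
        rw [coeff_add, coeff_C_mul, show (pal (φ a)).coeff (j + 1) = φ a ⟨j, hj⟩ from hga _ ⟨j, hj⟩,
          show (pal a).coeff (j + 1) = a ⟨j, hj⟩ from hga _ ⟨j, hj⟩]
    ext j
    rcases le_or_gt j n with hj | hj
    · exact low j hj
    rcases le_or_gt j (2 * n) with hj' | hj'
    · rw [← psym _ j hj', low _ (by omega), coeff_add, coeff_add, psym _ j hj', coeff_C_mul, coeff_C_mul, δc, δc,
        if_neg (show ¬ j = n - 1 by omega), if_neg (show ¬ 2 * n - j = n + 1 by omega),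
        if_neg (show ¬ j = n by omega), if_neg (show ¬ 2 * n - j = n by omega)]
      split_ifs <;> first | (exfalso; omega) | ring
    · rw [coeff_eq_zero_of_natDegree_lt (by rw [pdeg]; omega), coeff_add,
        coeff_eq_zero_of_natDegree_lt (by rw [pdeg]; omega), coeff_C_mul, δc, if_neg (by omega), if_neg (by omega),
        if_neg (by omega)]
      ring
  have h4 : (4 : F) ≠ 0 := by
    rw [show (4 : F) = 2 * 2 by norm_num]
    exact mul_ne_zero h2 h2
  have hφ1 : ∀ a, (pal (φ a)).eval 1 = η * (pal a).eval 1 := fun a => by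
    rw [hφ]
    simp only [eval_add, eval_mul, eval_C, eval_pow, eval_X, one_pow, mul_one, δ, t]
    field_simp
    ring
  have hφm : ∀ a, (pal (φ a)).eval (-1) = (pal a).eval (-1) := fun a => by
    rw [hφ]
    obtain ⟨k, rfl⟩ : ∃ k, n = k + 1 := ⟨n - 1, by omega⟩
    simp only [eval_add, eval_mul, eval_C, eval_pow, eval_X, δ, Nat.add_sub_cancel, pow_succ]
    ring
  have hmaps : ((Finset.univ.filter fun a => ¬ good a).card) ≤ (Finset.univ.filter good).card := by
    refine Finset.card_le_card_of_injOn φ (fun a ha => ?_) fun a _ b _ h => ?_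
    · rw [Finset.mem_coe, Finset.mem_filter] at ha ⊢
      refine ⟨Finset.mem_univ _, hach _ (Or.inr ?_)⟩
      have hne : (pal a).eval 1 * (pal a).eval (-1) ≠ 0 ∧ ¬ IsSquare ((pal a).eval 1 * (pal a).eval (-1) * d₀) :=
        not_or.1 fun h => ha.2 (hach a h)
      rw [hφ1, hφm, mul_assoc η, mul_assoc η]
      exact (hsq _ (mul_ne_zero hne.1 hd₀)).2 hne.2
    · have h1 : (pal a).eval 1 = (pal b).eval 1 := mul_left_cancel₀ hη0 (by rw [← hφ1, ← hφ1, h])
      have h3 : t a = t b := by simp only [t, h1]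
      refine pinj ?_
      have := hφ a
      rw [h, hφ b, h3] at this
      exact (add_right_cancel this).symm
  have htot := Finset.card_filter_add_card_filter_not (s := (Finset.univ : Finset (Fin n → F))) good
  rw [Finset.card_univ, Fintype.card_fun, Fintype.card_fin] at htot
  omega

end Cfsg.Agent.H7Class
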