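import Cfsg.Agent.H7Class.Upper
import Cfsg.Agent.H58.FormClass

/-!
# Isometry groups of matrices
-/

set_option autoImplicit false

namespace Cfsg.Agent.H7Class

open Matrix Cfsg.Agent.H58.FormSim

variable {F : Type*} [Field F] {ι : Type} [Fintype ι] [DecidableEq ι] {ε : F}

/-- The structure of an isometry matrix. -/
noncomputable def matStr (H : Matrix ι ι F) (hH : Hᵀ = ε • H) (hd : H.det ≠ 0) (A : Matrix ι ι F)
    (hA : Aᵀ * H * A = H) : Str F ε (ι → F) where
  T := LinearEquiv.ofInjectiveEndo (Matrix.toLin' A) (LinearMap.ker_eq_bot.1 (LinearMap.ker_eq_bot'.2 fun v hv =>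
    bf_eq_zero_left hd fun u => by
      rw [← hA, ← bf_mulVec, show A *ᵥ v = 0 from hv, bf, zero_dotProduct]))
  B := Matrix.toBilin' H
  sym u v := by
    rw [Matrix.toBilin'_apply', Matrix.toBilin'_apply']
    show bf H u v = ε * bf H v u
    rw [← bf_smul_mat, ← hH, bf_transpose]
  inv u v := by
    rw [Matrix.toBilin'_apply', Matrix.toBilin'_apply']
    show bf H (A *ᵥ u) (A *ᵥ v) = bf H u v
    rw [bf_mulVec, hA]
  nd u h := bf_eq_zero_left hd fun v => by
    have := h v
    rwa [Matrix.toBilin'_apply'] at this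

theorem matStr_B (H : Matrix ι ι F) (hH : Hᵀ = ε • H) (hd : H.det ≠ 0) (A : Matrix ι ι F)
    (hA : Aᵀ * H * A = H) (u v : ι → F) : (matStr H hH hd A hA).B u v = bf H u v := Matrix.toBilin'_apply' _ _ _

/-- Isomorphic isometries are conjugate by an isometry. -/
theorem exists_conj_of_iso {H : Matrix ι ι F} {hH : Hᵀ = ε • H} {hd : H.det ≠ 0} {A A' : Matrix ι ι F}
    {hA : Aᵀ * H * A = H} {hA' : A'ᵀ * H * A' = H} (i : Iso (matStr H hH hd A hA) (matStr H hH hd A' hA')) :
    ∃ M : GL ι F, (M : Matrix ι ι F)ᵀ * H * (M : Matrix ι ι F) = H ∧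
      (M : Matrix ι ι F) * A = A' * (M : Matrix ι ι F) := by
  set M := LinearMap.toMatrix' (i.e : (ι → F) →ₗ[F] (ι → F)) with hM
  have hMv : ∀ v, M *ᵥ v = i.e v := fun v => by rw [hM, LinearMap.toMatrix'_mulVec]; rfl
  have h1 : Mᵀ * H * M = H := bf_inj fun u v => by
    rw [← bf_mulVec, hMv, hMv]
    have := i.map_B u v
    rwa [matStr_B, matStr_B] at this
  have h2 : M * A = A' * M := Matrix.ext_of_mulVec_single fun j => by
    rw [← Matrix.mulVec_mulVec, ← Matrix.mulVec_mulVec, hMv, hMv]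
    exact i.map_T _
  have hu : M.det ≠ 0 := fun h0 => by
    have := congrArg Matrix.det h1
    rw [Matrix.det_mul, h0, mul_zero] at this
    exact hd this.symm
  exact ⟨Matrix.GeneralLinearGroup.mkOfDetNeZero M hu, h1, h2⟩

variable [Fintype F] {n : ℕ}

theorem two_ne_zero_of_odd (hodd : Odd (Fintype.card F)) : (2 : F) ≠ 0 := by
  intro h
  have h2 : ringChar F = 2 := CharP.eq F (ringChar.charP F) (CharTwo.of_one_ne_zero_of_two_eq_zero one_ne_zero h)
  exact (Nat.not_even_iff_odd.2 hodd) (Nat.even_iff.2 (FiniteField.even_card_of_char_two h2))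

theorem three_le_card (hodd : Odd (Fintype.card F)) : 3 ≤ Fintype.card F := by
  have := Fintype.one_lt_card (α := F)
  obtain ⟨r, hr⟩ := hodd
  omega

/-- The symplectic upper bound. -/
theorem sp_upper (hodd : Odd (Fintype.card F)) (hn : 1 ≤ n) :
    5 * Nat.card (ConjClasses (Matrix.symplecticGroup (Fin n) F)) ≤ 54 * Fintype.card F ^ n := by
  classical
  have h := classes_le_alt (two_ne_zero_of_odd hodd) (three_le_card hodd) hn
    (G := Matrix.symplecticGroup (Fin n) F)
    (fun g => matStr (J (Fin n) F) (by rw [J_transpose, neg_one_smul]) (isUnit_det_J (Fin n) F).ne_zero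
      (g : Matrix _ _ F) (SymplecticGroup.mem_iff'.1 g.2))
    (fun g h i => by
      obtain ⟨M, h1, h2⟩ := exists_conj_of_iso i
      refine isConj_iff.2 ⟨⟨M, SymplecticGroup.mem_iff'.2 h1⟩, mul_inv_eq_iff_eq_mul.2 (Subtype.ext ?_)⟩
      exact h2)
    (by rw [Module.finrank_fintype_fun_eq_card, Fintype.card_sum, Fintype.card_fin, two_mul])
  rw [← @Nat.cast_le ℚ]
  push_cast
  linarith

/-- The orthogonal upper bound. -/
theorem ortho_upper (hodd : Odd (Fintype.card F)) (hn : 1 ≤ n) (hdim : Fintype.card ι = 2 * n)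
    (Q : QuadraticForm F (ι → F)) (hQ : Cfsg.Agent.Orthogonal.Nondeg Q) :
    2 * Nat.card (ConjClasses ↥(Cfsg.isometryGroup F (⇑Q))) ≤ 19 * Fintype.card F ^ n := by
  classical
  have h2 := two_ne_zero_of_odd hodd
  have key : ∀ g : GL ι F, g ∈ Cfsg.isometryGroup F (⇑Q) ↔
      (g : Matrix ι ι F)ᵀ * H58.FormClass.gram Q * (g : Matrix ι ι F) = H58.FormClass.gram Q := by
    intro g
    rw [Cfsg.Agent.Orthogonal.mem_isometryGroup_iff]
    refine ⟨fun h => bf_inj fun u v => ?_, fun h v => mul_left_cancel₀ h2 ?_⟩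
    · rw [← bf_mulVec, H58.FormClass.bf_gram, H58.FormClass.bf_gram, QuadraticMap.polar, QuadraticMap.polar,
        ← Matrix.mulVec_add, h, h, h]
    · rw [← H58.FormClass.bf_gram_self, ← H58.FormClass.bf_gram_self, bf_mulVec, h]
  have h := classes_le_sym h2 (three_le_card hodd) hn
    (G := ↥(Cfsg.isometryGroup F (⇑Q)))
    (fun g => matStr (H58.FormClass.gram Q) (by rw [H58.FormClass.gram_transpose, one_smul])
      (H58.FormClass.gram_det hQ) ((g : GL ι F) : Matrix ι ι F) ((key _).1 g.2))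
    (fun _ _ => rfl)
    (fun g h i => by
      obtain ⟨M, h1, h3⟩ := exists_conj_of_iso i
      refine isConj_iff.2 ⟨⟨M, (key M).2 h1⟩, mul_inv_eq_iff_eq_mul.2 (Subtype.ext (Units.ext ?_))⟩
      exact h3)
    (by rw [Module.finrank_fintype_fun_eq_card, hdim])
  rw [← @Nat.cast_le ℚ]
  push_cast
  have : (0 : ℚ) ≤ (Fintype.card F : ℚ) ^ n := by positivity
  linarith

end Cfsg.Agent.H7Class
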