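import Cfsg.Agent.H7Class.Series

/-!
# Numerical bounds for odd dimension
-/

set_option autoImplicit false
set_option maxRecDepth 4000

namespace Cfsg.Agent.H7Class

/-- The bound for `1 / √5`. -/
def y5 : ℚ := 9 / 20

/-- The factor of single slots. -/
def g2f (z : ℚ) (i : ℕ) : ℚ := if (i + 1) % 2 = 1 then (1 + z ^ (i + 1)) ^ 2 else 1

theorem prod_kf_sharp (N : ℕ) : ∏ i ∈ Finset.range N, kf i ≤ 1786 / 1000 := by
  refine prod_le_of_potential kf (fun i => 1 + 2 * (1 / 3) ^ i) 12 _ one_le_kf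
    (fun i _ => le_add_of_nonneg_right (by positivity)) (fun i hi => ?_) ?_ N
  · have h0 : i ≠ 0 := by omega
    rw [kf, if_neg h0, pow_succ]
    set u := (1 / 3 : ℚ) ^ i with hu
    have hu0 : 0 ≤ u := by positivity
    have hu1 : u ≤ (1 / 3) ^ 3 := pow_le_pow_of_le_one (by norm_num) (by norm_num) (by omega)
    have h1 : (0 : ℚ) < 1 - u := by norm_num at hu1; linarith
    rw [inv_mul_le_iff₀ h1]
    norm_num at hu1
    nlinarith
  · simp only [Finset.prod_range_succ, Finset.prod_range_zero, kf]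
    norm_num

theorem prod_gf_one_sharp (N : ℕ) : ∏ i ∈ Finset.range N, gf 1 yb i ≤ 1826 / 100 := by
  refine prod_le_of_potential _ (fun i => 1 + 28 / 5 * yb ^ i) 16 _ (one_le_gf 1)
    (fun i _ => le_add_of_nonneg_right (by unfold yb; positivity)) (gf_step 1) ?_ N
  simp only [Finset.prod_range_succ, Finset.prod_range_zero, gf, yb]
  norm_num

theorem one_le_gf5 (i : ℕ) : 1 ≤ gf 1 y5 i := by
  unfold gf
  split_ifs
  · exact one_le_pow₀ (le_add_of_nonneg_right (by unfold y5; positivity))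
  · exact le_rfl

theorem gf5_step (i : ℕ) (hi : 10 ≤ i) :
    gf 1 y5 i * (1 + 4 * y5 ^ (i + 1)) ≤ 1 + 4 * y5 ^ i := by
  have hy : (0 : ℚ) < y5 := by unfold y5; norm_num
  set u := y5 ^ (i + 1) with hu
  have hu0 : 0 ≤ u := by positivity
  have hu1 : u ≤ 1 / 1000 :=
    le_trans (pow_le_pow_of_le_one hy.le (by unfold y5; norm_num) (show 11 ≤ i + 1 by omega))
      (by unfold y5; norm_num)
  have e : y5 ^ i = u * (20 / 9) := by
    rw [hu, pow_succ]; unfold y5; ring
  have hg : gf 1 y5 i ≤ 1 + 41 / 10 * u := by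
    unfold gf
    split_ifs
    · rw [← hu]
      have h2 : (1 + u) ^ 2 ≤ 1 + 201 / 100 * u := by nlinarith
      calc (1 + u) ^ 4 = ((1 + u) ^ 2) ^ 2 := by ring
        _ ≤ (1 + 201 / 100 * u) ^ 2 := pow_le_pow_left₀ (by positivity) h2 2
        _ ≤ 1 + 41 / 10 * u := by nlinarith
    · linarith
  calc gf 1 y5 i * (1 + 4 * u) ≤ (1 + 41 / 10 * u) * (1 + 4 * u) :=
        mul_le_mul_of_nonneg_right hg (by positivity)
    _ ≤ 1 + 4 * y5 ^ i := by rw [e]; nlinarith

theorem prod_gf5 (N : ℕ) : ∏ i ∈ Finset.range N, gf 1 y5 i ≤ 72 / 10 := by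
  refine prod_le_of_potential _ (fun i => 1 + 4 * y5 ^ i) 10 _ one_le_gf5
    (fun i _ => le_add_of_nonneg_right (by unfold y5; positivity)) gf5_step ?_ N
  simp only [Finset.prod_range_succ, Finset.prod_range_zero, gf, y5]
  norm_num

theorem sq_g2f (z : ℚ) (N : ℕ) :
    (∏ i ∈ Finset.range N, g2f z i) ^ 2 = ∏ i ∈ Finset.range N, gf 1 z i := by
  rw [← Finset.prod_pow]
  refine Finset.prod_congr rfl fun i _ => ?_
  unfold g2f gf
  split_ifs <;> ring

theorem prod_g2f_le (N : ℕ) : ∏ i ∈ Finset.range N, g2f yb i ≤ 42732 / 10000 := by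
  have h := prod_gf_one_sharp N
  rw [← sq_g2f] at h
  nlinarith

theorem prod_g2f_neg (N : ℕ) : (9 / 100 : ℚ) ≤ ∏ i ∈ Finset.range N, g2f (-yb) i := by
  have hy : (0 : ℚ) < yb ∧ yb ≤ 1 := by unfold yb; norm_num
  set a : ℕ → ℚ := fun i => g2f (-yb) i with ha
  have h01 : ∀ i, 0 ≤ a i ∧ a i ≤ 1 := by
    intro i
    simp only [ha, g2f]
    split_ifs with h
    · rw [(Nat.odd_iff.2 h).neg_pow]
      have h1 : yb ^ (i + 1) ≤ 1 := pow_le_one₀ hy.1.le hy.2
      have h3 : (0 : ℚ) ≤ yb ^ (i + 1) := pow_nonneg hy.1.le _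
      exact ⟨pow_nonneg (by linarith) 2, pow_le_one₀ (by linarith) (by linarith)⟩
    · exact ⟨zero_le_one, le_rfl⟩
  have hpos : ∀ N, 0 ≤ ∏ i ∈ Finset.range N, a i := fun N => Finset.prod_nonneg fun i _ => (h01 i).1
  have key : ∀ j, (9 / 100 : ℚ) ≤ (∏ i ∈ Finset.range (16 + j), a i) * (1 - 3 * yb ^ (16 + j)) := by
    intro j
    induction j with
    | zero =>
      simp only [Finset.prod_range_succ, Finset.prod_range_zero, ha, g2f, yb]
      norm_num
    | succ j ih =>
      refine le_trans ih ?_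
      rw [← add_assoc, Finset.prod_range_succ, mul_assoc]
      refine mul_le_mul_of_nonneg_left ?_ (hpos _)
      set u := yb ^ (16 + j + 1) with hu
      have hu0 : 0 ≤ u := pow_nonneg hy.1.le _
      have hu1 : u ≤ 1 / 10000 :=
        le_trans (pow_le_pow_of_le_one hy.1.le hy.2 (show 17 ≤ 16 + j + 1 by omega)) (by unfold yb; norm_num)
      have e : yb ^ (16 + j) = u * (71 / 41) := by
        rw [hu, pow_succ]; unfold yb; ring
      have hg : 1 - 2 * u ≤ a (16 + j) := by
        simp only [ha, g2f]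
        split_ifs with h
        · rw [(Nat.odd_iff.2 h).neg_pow, ← hu]; nlinarith
        · linarith
      rw [e]
      nlinarith
  have key' : ∀ j, (9 / 100 : ℚ) ≤ ∏ i ∈ Finset.range (16 + j), a i := fun j =>
    le_trans (key j) (mul_le_of_le_one_right (hpos _) (by
      have : (0 : ℚ) ≤ yb ^ (16 + j) := pow_nonneg hy.1.le _
      linarith))
  rcases le_or_gt 16 N with hN | hN
  · obtain ⟨j, rfl⟩ := Nat.exists_eq_add_of_le hN
    exact key' j
  · refine le_trans (key' 0) ?_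
    rw [← Finset.prod_range_mul_prod_Ico a hN.le]
    exact mul_le_of_le_one_right (hpos _) (Finset.prod_le_one (fun i _ => (h01 i).1) fun i _ => (h01 i).2)

end Cfsg.Agent.H7Class
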