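import Cfsg.Agent.H7Class.Bound
import Cfsg.Agent.H7Class.OddSeries

/-!
# Counting the normal multisets in odd dimension
-/

set_option autoImplicit false

namespace Cfsg.Agent.H7Class

open Polynomial

variable {F : Type*} [Field F] [Fintype F] {n d : ℕ}

/-- The factor of the bits. -/
def bitT (z : ℚ) (β : Fin d → Fin 2 → Bool × Bool) : ℚ := ∏ i : Fin d, ∏ c : Fin 2, (z ^ ((i : ℕ) + 1)) ^ bw (β i c)

/-- The factor of the degrees. -/
def degT (k : Fin d → ℕ) : ℚ := ∏ i : Fin d, ((1 / 3 : ℚ) ^ (i : ℕ)) ^ k i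

/-- The term of a parameter. -/
def oddTerm (y : ℚ) (p : (Fin d → Fin 2 → Bool × Bool) × (Fin d → ℕ)) : ℚ :=
  degT p.2 * ((bitT y p.1 - bitT (-y) p.1) / (2 * y))

theorem bitT_eq (z : ℚ) (β : Fin d → Fin 2 → Bool × Bool) :
    bitT z β = z ^ ∑ i : Fin d, ((i : ℕ) + 1) * ∑ c, bw (β i c) := by
  rw [bitT, ← Finset.prod_pow_eq_pow_sum]
  exact Finset.prod_congr rfl fun i _ => by rw [Finset.prod_pow_eq_pow_sum, pow_mul]

theorem bit_odd {y : ℚ} (hy : 0 < y) {R t : ℕ} (h : R = 2 * t + 1) : (y ^ R - (-y) ^ R) / (2 * y) = (y ^ 2) ^ t := by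
  rw [h, pow_succ, pow_succ, pow_mul, pow_mul, neg_sq]
  field_simp
  ring

theorem oddTerm_nonneg {y : ℚ} (hy : 0 < y) (p : (Fin d → Fin 2 → Bool × Bool) × (Fin d → ℕ)) :
    0 ≤ oddTerm y p := by
  refine mul_nonneg (Finset.prod_nonneg fun i _ => by positivity) ?_
  rw [bitT_eq, bitT_eq]
  rcases Nat.even_or_odd (∑ i : Fin d, ((i : ℕ) + 1) * ∑ c, bw (p.1 i c)) with ⟨t, ht⟩ | ⟨t, ht⟩
  · rw [ht, ← two_mul, pow_mul, pow_mul, neg_sq, sub_self, zero_div]
  · rw [bit_odd hy ht]; positivity

theorem pow_le_oddTerm {q : ℕ} (hq : 3 ≤ q) {y : ℚ} (hy : 0 < y) (hqy : 1 ≤ (q : ℚ) * y ^ 2)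
    {p : (Fin d → Fin 2 → Bool × Bool) × (Fin d → ℕ)}
    (h : ∑ i : Fin d, ((i : ℕ) + 1) * (2 * p.2 i + ∑ c, bw (p.1 i c)) = 2 * n + 1) :
    ((q ^ ∑ i, p.2 i : ℕ) : ℚ) ≤ (q : ℚ) ^ n * oddTerm y p := by
  set R := ∑ i : Fin d, ((i : ℕ) + 1) * ∑ c, bw (p.1 i c) with hR
  set D₀ := ∑ i : Fin d, (i : ℕ) * p.2 i with hD₀
  have hsplit : 2 * n + 1 = 2 * ∑ i, p.2 i + 2 * D₀ + R := by
    rw [hR, hD₀, Finset.mul_sum, Finset.mul_sum, ← Finset.sum_add_distrib, ← Finset.sum_add_distrib]
    exact h.symm.trans (Finset.sum_congr rfl fun i _ => by ring)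
  obtain ⟨t, ht⟩ : ∃ t, R = 2 * t + 1 := ⟨R / 2, by omega⟩
  have hn : n = ∑ i, p.2 i + (D₀ + t) := by omega
  have hdeg : degT p.2 = (1 / 3 : ℚ) ^ D₀ := by
    rw [degT, hD₀, ← Finset.prod_pow_eq_pow_sum]
    exact Finset.prod_congr rfl fun i _ => (pow_mul _ _ _).symm
  rw [oddTerm, hdeg, bitT_eq, bitT_eq, ← hR, bit_odd hy ht, hn, pow_add, Nat.cast_pow, mul_assoc]
  refine le_mul_of_one_le_right (by positivity) ?_
  have hq' : (3 : ℚ) ≤ q := by exact_mod_cast hq
  have h1 : (1 : ℚ) ≤ q * (1 / 3) := by linarith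
  rw [pow_add, mul_mul_mul_comm, ← mul_pow, ← mul_pow]
  exact one_le_mul_of_one_le_of_one_le (one_le_pow₀ h1) (one_le_pow₀ hqy)

theorem sum_degT_le : ∑ k ∈ Fintype.piFinset (fun i : Fin d => if (i : ℕ) = 0 then {0} else Finset.range (d + 1)),
    degT k ≤ 1786 / 1000 := by
  simp only [degT]
  rw [← Finset.prod_univ_sum]
  refine le_trans (Finset.prod_le_prod (g := fun i : Fin d => kf i)
    (fun i _ => Finset.sum_nonneg fun k _ => by positivity) fun i _ => ?_) ?_
  · unfold kf
    split_ifs with h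
    · simp
    · have h1 : (1 / 3 : ℚ) ^ (i : ℕ) < 1 := pow_lt_one₀ (by norm_num) (by norm_num) h
      rw [← one_div, le_div_iff₀ (sub_pos.2 h1), geom_sum_mul_neg]
      have : (0 : ℚ) ≤ ((1 / 3) ^ (i : ℕ)) ^ (d + 1) := by positivity
      linarith
  · rw [Fin.prod_univ_eq_prod_range (fun i => kf i) d]
    exact prod_kf_sharp _

open scoped Classical in
/-- The general estimate in odd dimension. -/
theorem card_le_odd (h2 : (2 : F) ≠ 0) (hq : 3 ≤ Fintype.card F) {y : ℚ} (hy : 0 < y)
    (hqy : 1 ≤ (Fintype.card F : ℚ) * y ^ 2) (i₀ : Fin (2 * n + 1)) (hi₀ : (i₀ : ℕ) = 0)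
    (s : Finset (Multiset (Key F))) (hs : ∀ M ∈ s, Normal (1 : F) (2 * n + 1) M)
    (t : Fin (2 * n + 1) → Finset (Fin 2 → Bool × Bool))
    (ht : ∀ M ∈ s, ∀ i, (param (2 * n + 1) M).1 i ∈ t i) (A B : ℚ) (hA : 0 ≤ A) (hB : 0 ≤ B)
    (hfib : ∀ p ∈ s.image (param (2 * n + 1)),
      ((s.filter fun M => param (2 * n + 1) M = p).card : ℚ)
        ≤ (A + if p.2 i₀ = 0 then B else 0) * ((Fintype.card F ^ ∑ i, p.2 i : ℕ) : ℚ))
    (E : Finset (Fin (2 * n + 1) → Fin 2 → Bool × Bool)) (hE : E ⊆ Fintype.piFinset t)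
    (hER : ∀ β ∈ E, ∑ i : Fin (2 * n + 1), ((i : ℕ) + 1) * ∑ c, bw (β i c) ≠ 2 * n + 1) :
    (s.card : ℚ) ≤ (Fintype.card F : ℚ) ^ n * ((A + B) * (1786 / 1000 *
      ((∑ β ∈ Fintype.piFinset t, bitT y β - ∑ β ∈ Fintype.piFinset t, bitT (-y) β) / (2 * y)))
      - B * ∑ β ∈ E, (bitT y β - bitT (-y) β) / (2 * y)) := by
  classical
  set q := Fintype.card F
  let φ : (Fin (2 * n + 1) → Fin 2 → Bool × Bool) × (Fin (2 * n + 1) → ℕ) →
      (Fin (2 * n + 1) → Fin 2 → Bool × Bool) × (Fin (2 * n + 1) → ℕ) := fun p => (p.1, Function.update p.2 i₀ 0)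
  set kset : Fin (2 * n + 1) → Finset ℕ := fun i => if (i : ℕ) = 0 then {0} else Finset.range (2 * n + 1 + 1)
  set C := s.image (param (2 * n + 1))
  have hw : ∀ p ∈ C, ∑ i : Fin (2 * n + 1), ((i : ℕ) + 1) * (2 * p.2 i + ∑ c, bw (p.1 i c)) = 2 * n + 1 := by
    intro p hp
    obtain ⟨M, hM, rfl⟩ := Finset.mem_image.1 hp
    exact param_weight h2 (hs M hM)
  have hterm : ∀ p, oddTerm y (φ p) = oddTerm y p := fun p => by
    simp only [oddTerm, φ, degT]
    congr 1
    refine Finset.prod_congr rfl fun i _ => ?_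
    by_cases hi : i = i₀
    · subst hi; simp [hi₀]
    · rw [Function.update_of_ne hi]
  have hinj : Set.InjOn φ C := by
    intro p hp p' hp' h
    simp only [φ, Prod.mk.injEq] at h
    refine Prod.ext h.1 (funext fun i => ?_)
    by_cases hi : i = i₀
    · subst hi
      have e1 := hw p hp
      have e2 := hw p' hp'
      rw [← Finset.add_sum_erase _ _ (Finset.mem_univ i)] at e1 e2
      rw [h.1] at e1
      have e3 : ∀ j ∈ Finset.univ.erase i, ((j : ℕ) + 1) * (2 * p.2 j + ∑ c, bw (p'.1 j c))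
          = ((j : ℕ) + 1) * (2 * p'.2 j + ∑ c, bw (p'.1 j c)) := fun j hj => by
        have := congrFun h.2 j
        rw [Function.update_of_ne (Finset.ne_of_mem_erase hj), Function.update_of_ne (Finset.ne_of_mem_erase hj)] at this
        rw [this]
      rw [Finset.sum_congr rfl e3] at e1
      simp only [hi₀, zero_add, one_mul] at e1 e2
      omega
    · have := congrFun h.2 i
      rwa [Function.update_of_ne hi, Function.update_of_ne hi] at this
  set U := Fintype.piFinset t ×ˢ Fintype.piFinset kset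
  have hsub : C.image φ ⊆ U := by
    intro p' hp'
    obtain ⟨p, hp, rfl⟩ := Finset.mem_image.1 hp'
    have hw' := hw p hp
    obtain ⟨M, hM, rfl⟩ := Finset.mem_image.1 hp
    refine Finset.mem_product.2 ⟨Fintype.mem_piFinset.2 (ht M hM), Fintype.mem_piFinset.2 fun i => ?_⟩
    simp only [φ, kset]
    split_ifs with hi
    · obtain rfl : i = i₀ := Fin.ext (hi.trans hi₀.symm)
      simp
    · rw [Function.update_of_ne (fun h => hi (by rw [h]; exact hi₀)), Finset.mem_range]
      have h1 := Finset.single_le_sum (f := fun i : Fin (2 * n + 1) => ((i : ℕ) + 1) *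
        (2 * (param (2 * n + 1) M).2 i + ∑ c, bw ((param (2 * n + 1) M).1 i c))) (fun _ _ => Nat.zero_le _)
        (Finset.mem_univ i)
      rw [hw'] at h1
      have h3 := le_trans (Nat.le_mul_of_pos_left _ (Nat.succ_pos (i : ℕ))) h1
      omega
  set C₀ := C.filter fun p => p.2 i₀ = 0
  set Ep := E.image fun β => (β, fun _ : Fin (2 * n + 1) => 0)
  have hEsub : Ep ⊆ U := by
    intro p hp
    obtain ⟨β, hβ, rfl⟩ := Finset.mem_image.1 hp
    refine Finset.mem_product.2 ⟨hE hβ, Fintype.mem_piFinset.2 fun i => ?_⟩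
    simp only [kset]
    split_ifs <;> simp
  have hdisj : Disjoint (C₀.image φ) Ep := Finset.disjoint_left.2 fun p hp hp' => by
    obtain ⟨p, hp0, rfl⟩ := Finset.mem_image.1 hp
    obtain ⟨β, hβ, e⟩ := Finset.mem_image.1 hp'
    simp only [φ, Prod.mk.injEq] at e
    obtain ⟨hpC, hp00⟩ := Finset.mem_filter.1 hp0
    have hz : ∀ i, p.2 i = 0 := fun i => by
      by_cases hi : i = i₀
      · rw [hi, hp00]
      · have := congrFun e.2 i
        rw [Function.update_of_ne hi] at this
        exact this.symm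
    refine hER β hβ ?_
    have := hw p hpC
    simp only [hz, mul_zero, zero_add] at this
    rw [e.1]; exact this
  have b1 : ∑ p ∈ C, oddTerm y p ≤ ∑ p ∈ U, oddTerm y p := by
    rw [← Finset.sum_congr rfl fun p _ => hterm p, ← Finset.sum_image (f := oddTerm y) hinj]
    exact Finset.sum_le_sum_of_subset_of_nonneg hsub fun p _ _ => oddTerm_nonneg hy p
  have b3 : ∑ p ∈ C₀, oddTerm y p + ∑ p ∈ Ep, oddTerm y p ≤ ∑ p ∈ U, oddTerm y p := by
    rw [← Finset.sum_congr rfl fun p _ => hterm p,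
      ← Finset.sum_image (f := oddTerm y) (hinj.mono (Finset.coe_subset.2 (Finset.filter_subset _ C))),
      ← Finset.sum_union hdisj]
    exact Finset.sum_le_sum_of_subset_of_nonneg
      (Finset.union_subset ((Finset.image_subset_image (Finset.filter_subset _ C)).trans hsub) hEsub)
      fun p _ _ => oddTerm_nonneg hy p
  have hEp : ∑ p ∈ Ep, oddTerm y p = ∑ β ∈ E, (bitT y β - bitT (-y) β) / (2 * y) := by
    rw [Finset.sum_image fun β _ β' _ h => congrArg Prod.fst h]
    exact Finset.sum_congr rfl fun β _ => by simp [oddTerm, degT]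
  have hU : ∑ p ∈ U, oddTerm y p ≤ 1786 / 1000 *
      ((∑ β ∈ Fintype.piFinset t, bitT y β - ∑ β ∈ Fintype.piFinset t, bitT (-y) β) / (2 * y)) := by
    have e : ∑ p ∈ U, oddTerm y p = (∑ k ∈ Fintype.piFinset kset, degT k) *
        ∑ β ∈ Fintype.piFinset t, (bitT y β - bitT (-y) β) / (2 * y) := by
      rw [Finset.sum_product_right, Finset.sum_mul]
      exact Finset.sum_congr rfl fun k _ =>
        (Finset.mul_sum (Fintype.piFinset t) (fun β => (bitT y β - bitT (-y) β) / (2 * y)) (degT k)).symm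
    have e' : ∑ β ∈ Fintype.piFinset t, (bitT y β - bitT (-y) β) / (2 * y) =
        (∑ β ∈ Fintype.piFinset t, bitT y β - ∑ β ∈ Fintype.piFinset t, bitT (-y) β) / (2 * y) := by
      rw [← Finset.sum_sub_distrib, Finset.sum_div]
    rw [e, ← e']
    refine mul_le_mul_of_nonneg_right sum_degT_le (Finset.sum_nonneg fun β _ => ?_)
    have := oddTerm_nonneg hy (β, fun _ : Fin (2 * n + 1) => 0)
    simpa [oddTerm, degT] using this
  rw [← hEp]
  calc (s.card : ℚ) = ∑ p ∈ C, ((s.filter fun M => param (2 * n + 1) M = p).card : ℚ) := by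
        rw [← Nat.cast_sum, ← Finset.card_eq_sum_card_image]
    _ ≤ ∑ p ∈ C, (A + if p.2 i₀ = 0 then B else 0) * ((q : ℚ) ^ n * oddTerm y p) :=
        Finset.sum_le_sum fun p hp => le_trans (hfib p hp) (mul_le_mul_of_nonneg_left
          (pow_le_oddTerm hq hy hqy (hw p hp)) (by split_ifs <;> linarith))
    _ = (q : ℚ) ^ n * (A * ∑ p ∈ C, oddTerm y p + B * ∑ p ∈ C₀, oddTerm y p) := by
        rw [mul_add, Finset.mul_sum, Finset.mul_sum, Finset.mul_sum, Finset.mul_sum, Finset.sum_filter,
          ← Finset.sum_add_distrib]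
        refine Finset.sum_congr rfl fun p _ => ?_
        split_ifs <;> ring
    _ ≤ _ := by
        refine mul_le_mul_of_nonneg_left ?_ (by positivity)
        nlinarith [mul_le_mul_of_nonneg_left (b1.trans hU) hA, mul_le_mul_of_nonneg_left (b3.trans hU) hB]

/-- The exponents carrying slots. -/
def allowedOdd (i : Fin d) : Finset (Fin 2 → Bool × Bool) :=
  if ((i : ℕ) + 1) % 2 = 1 then Finset.univ else {fun _ => (false, false)}

/-- Single slots. -/
def allowedOne (i : Fin d) : Finset (Fin 2 → Bool × Bool) :=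
  if ((i : ℕ) + 1) % 2 = 1 then Fintype.piFinset (fun _ => {(false, false), (true, false)})
  else {fun _ => (false, false)}

theorem sum_bits_odd (z : ℚ) :
    ∑ β ∈ Fintype.piFinset (allowedOdd (d := d)), bitT z β = ∏ i ∈ Finset.range d, gf 1 z i := by
  refine (Finset.prod_univ_sum allowedOdd
    (fun (i : Fin d) (g : Fin 2 → Bool × Bool) => ∏ c, (z ^ ((i : ℕ) + 1)) ^ bw (g c))).symm.trans ?_
  rw [← Fin.prod_univ_eq_prod_range]
  refine Finset.prod_congr rfl fun i _ => ?_
  unfold allowedOdd gf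
  split_ifs with h
  · rw [← Fintype.piFinset_univ, ← Finset.prod_univ_sum (fun _ : Fin 2 => (Finset.univ : Finset (Bool × Bool)))
      (fun _ b => (z ^ ((i : ℕ) + 1)) ^ bw b), Fin.prod_univ_two]
    simp [Fintype.sum_prod_type, bw]
    ring
  · simp [bw]

theorem sum_bits_one (z : ℚ) :
    ∑ β ∈ Fintype.piFinset (allowedOne (d := d)), bitT z β = ∏ i ∈ Finset.range d, g2f z i := by
  refine (Finset.prod_univ_sum allowedOne
    (fun (i : Fin d) (g : Fin 2 → Bool × Bool) => ∏ c, (z ^ ((i : ℕ) + 1)) ^ bw (g c))).symm.trans ?_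
  rw [← Fin.prod_univ_eq_prod_range]
  refine Finset.prod_congr rfl fun i _ => ?_
  unfold allowedOne g2f
  split_ifs with h
  · rw [← Finset.prod_univ_sum (fun _ : Fin 2 => ({(false, false), (true, false)} : Finset (Bool × Bool)))
      (fun _ b => (z ^ ((i : ℕ) + 1)) ^ bw b), Fin.prod_univ_two]
    simp [bw]
    ring
  · simp [bw]

/-- All multisets in odd dimension. -/
theorem card_le_odd_all (h2 : (2 : F) ≠ 0) (hq : 3 ≤ Fintype.card F) {y : ℚ} (hy : 0 < y) (hy1 : y ≤ 1)
    (hqy : 1 ≤ (Fintype.card F : ℚ) * y ^ 2) (s : Finset (Multiset (Key F)))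
    (hs : ∀ M ∈ s, Normal (1 : F) (2 * n + 1) M) :
    (s.card : ℚ) ≤ (Fintype.card F : ℚ) ^ n *
      (1786 / 1000 * ((∏ i ∈ Finset.range (2 * n + 1), gf 1 y i) / (2 * y))) := by
  classical
  refine (card_le_odd h2 hq hy hqy ⟨0, by omega⟩ rfl s hs allowedOdd (fun M hM i => ?_) 1 0 zero_le_one le_rfl
    (fun p hp => ?_) ∅ (Finset.empty_subset _) (by simp)).trans ?_
  · unfold allowedOdd
    split_ifs with h
    · exact Finset.mem_univ _
    · exact Finset.mem_singleton.2 (funext (param_slot (hs M hM) i fun h' => h (parity_pos h2 _ h')))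
  · rw [ite_self, add_zero, one_mul]
    have := card_le_fibres h2 (s.filter fun M => param (2 * n + 1) M = p) fun M hM => hs M (Finset.mem_filter.1 hM).1
    refine Nat.cast_le.2 (this.trans (le_of_eq ?_))
    rw [show (s.filter fun M => param (2 * n + 1) M = p).image (param (2 * n + 1)) = {p} from ?_, Finset.sum_singleton]
    refine Finset.eq_singleton_iff_unique_mem.2 ⟨?_, fun x hx => ?_⟩
    · obtain ⟨M, hM, rfl⟩ := Finset.mem_image.1 hp
      exact Finset.mem_image_of_mem _ (Finset.mem_filter.2 ⟨hM, rfl⟩)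
    · obtain ⟨M, hM, rfl⟩ := Finset.mem_image.1 hx
      exact (Finset.mem_filter.1 hM).2
  · rw [sum_bits_odd, sum_bits_odd]
    simp only [add_zero, one_mul, zero_mul, sub_zero]
    have hn0 : 0 ≤ ∏ i ∈ Finset.range (2 * n + 1), gf 1 (-y) i := Finset.prod_nonneg fun i _ => by
      unfold gf
      split_ifs <;> positivity
    gcongr
    linarith

theorem eval_palPoly_one {M : Multiset (Key F)} (h2 : (2 : F) ≠ 0) (hM : ∀ k ∈ M, k.Valid (1 : F))
    (hm : ∀ c, mult M 1 c ≤ 1) (hflag : ∀ k ∈ M, k.flag = false) (x : F) (hx : x * x = 1) :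
    (palPoly M 1).eval x ≠ 0 := by
  classical
  have hr : ∀ c, mult M 1 c - bw (bits M 1 c) = 0 := fun c => by
    have hσ : sgm M 1 c = false := by
      simp only [sgm, decide_eq_false_iff_not]
      exact fun h => absurd (hflag _ h) (by simp)
    rcases Nat.le_one_iff_eq_zero_or_eq_one.1 (hm c) with h | h <;> simp [bw, bits, hσ, h]
  rw [palPoly, eval_mul, Finset.prod_eq_one (fun c _ => by rw [hr, pow_zero]), eval_one, mul_one, eval_multiset_prod]
  refine fun h0 => ?_
  obtain ⟨g, hg, hg0⟩ := Multiset.mem_map.1 (Multiset.prod_eq_zero_iff.1 h0)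
  rw [Multiset.mem_filter, mem_polys] at hg
  obtain ⟨⟨k, hk, hke, rfl⟩, hd⟩ := hg
  have he := atom_eq h2 (hM k hk) (irreducible_X_sub_C x) (monic_X_sub_C x) (dvd_iff_isRoot.2 hg0)
  rw [atomOf, if_pos ⟨x, hx, rfl⟩, hke, if_neg] at he
  · exact hd (by rw [he, natDegree_X_sub_C])
  · rw [Nat.sub_self, pow_zero, mul_one]
    exact fun h => h2 (by linear_combination h)

/-- Reciprocal polynomials without the roots `±1` over the field with three elements. -/
theorem card_pal_no_root (h2 : (2 : F) ≠ 0) (h3 : Fintype.card F = 3) {k : ℕ} (hk : 1 ≤ k) (P : Finset F[X])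
    (hP : ∀ f ∈ P, Pal f ∧ f.natDegree = 2 * k ∧ f.eval 1 ≠ 0 ∧ f.eval (-1) ≠ 0) :
    9 * P.card ≤ 4 * 3 ^ k := by
  classical
  rcases eq_or_lt_of_le hk with rfl | hk2
  · have huniv : ∀ x : F, x ≠ 0 → x = 1 ∨ x = -1 := by
      intro x hx
      by_contra h
      rw [not_or] at h
      have h1 : ({x, 0, 1, -1} : Finset F).card = 4 := by
        have hne : (1 : F) ≠ -1 := fun h' => h2 (by linear_combination h')
        simp [hx, h.1, h.2, hne]
      have := Finset.card_le_univ ({x, 0, 1, -1} : Finset F)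
      omega
    have key : ∀ f ∈ P, f.coeff 1 = 0 := by
      intro f hf
      obtain ⟨hp, hd, e1, e3⟩ := hP f hf
      have hf2 : f.coeff 2 = 1 := by
        have := hp.1.coeff_natDegree
        rwa [hd] at this
      rw [eval_eq_sum_range, hd] at e1 e3
      simp [Finset.sum_range_succ, hp.coeff_zero, hf2] at e1 e3
      by_contra h
      rcases huniv _ h with h | h <;> rw [h] at e1 e3
      · apply e1
        have : (3 : F) = 0 := by
          rw [show (3 : F) = ((3 : ℕ) : F) by norm_num, ← h3, Nat.cast_card_eq_zero]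
        linear_combination this
      · apply e3
        have : (3 : F) = 0 := by
          rw [show (3 : F) = ((3 : ℕ) : F) by norm_num, ← h3, Nat.cast_card_eq_zero]
        linear_combination this
    have : P.card ≤ 1 := Finset.card_le_one.2 fun f hf g hg =>
      (hP f hf).1.ext (hP g hg).1 (hP f hf).2.1 (hP g hg).2.1 fun j => by
        rw [show ((j : ℕ) + 1) = 1 by omega, key f hf, key g hg]
    omega
  · obtain ⟨m, rfl⟩ : ∃ m, k = m + 2 := ⟨k - 2, by omega⟩
    have hinj : P.card ≤ (Finset.univ.filter (fun x : F => x ≠ 0) ×ˢ Finset.univ.filter (fun x : F => x ≠ 0)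
        ×ˢ (Finset.univ : Finset (Fin m → F))).card := by
      refine Finset.card_le_card_of_injOn (fun f => (f.eval 1, f.eval (-1), fun j => f.coeff ((j : ℕ) + 1)))
        (fun f hf => ?_) fun f hf g hg h => ?_
      · simp [(hP f hf).2.2.1, (hP f hf).2.2.2]
      · obtain ⟨hp, hd, -, -⟩ := hP f hf
        obtain ⟨hp', hd', -, -⟩ := hP g hg
        simp only [Prod.mk.injEq] at h
        set A := (f - g).coeff (m + 1) with hA
        set B := (f - g).coeff (m + 2) with hB
        have hD : f - g = C A * (X ^ (m + 3) + X ^ (m + 1)) + C B * X ^ (m + 2) := by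
          have low : ∀ j ≤ m + 2, (f - g).coeff j = (C A * (X ^ (m + 3) + X ^ (m + 1)) + C B * X ^ (m + 2)).coeff j := by
            intro j hj
            rw [coeff_add, coeff_C_mul, coeff_C_mul, coeff_add, coeff_X_pow, coeff_X_pow, coeff_X_pow]
            rcases eq_or_lt_of_le hj with rfl | hj'
            · simp [hB]
            rcases eq_or_lt_of_le (Nat.lt_succ_iff.1 hj') with rfl | hj''
            · simp [hA]
            rw [if_neg (by omega), if_neg (by omega), if_neg (by omega), coeff_sub]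
            cases j with
            | zero => rw [hp.coeff_zero, hp'.coeff_zero]; ring
            | succ j => rw [show f.coeff (j + 1) = g.coeff (j + 1) from congrFun h.2.2 ⟨j, by omega⟩]; ring
          ext j
          rcases le_or_gt j (m + 2) with hj | hj
          · exact low j hj
          rcases le_or_gt j (2 * (m + 2)) with hj' | hj'
          · have e1 : (f - g).coeff j = (f - g).coeff (2 * (m + 2) - j) := by
              rw [coeff_sub, coeff_sub, ← hp.coeff_sub (j := j) (by rw [hd]; exact hj'),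
                ← hp'.coeff_sub (j := j) (by rw [hd']; exact hj'), hd, hd']
            rw [e1, low _ (by omega)]
            simp only [coeff_add, coeff_C_mul, coeff_X_pow, if_neg (show ¬ j = m + 2 by omega),
              if_neg (show ¬ 2 * (m + 2) - j = m + 2 by omega), if_neg (show ¬ j = m + 1 by omega),
              if_neg (show ¬ 2 * (m + 2) - j = m + 3 by omega)]
            split_ifs <;> first | (exfalso; omega) | ring
          · rw [coeff_sub, coeff_eq_zero_of_natDegree_lt (by rw [hd]; omega),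
              coeff_eq_zero_of_natDegree_lt (by rw [hd']; omega)]
            simp only [coeff_add, coeff_C_mul, coeff_X_pow, if_neg (show ¬ j = m + 2 by omega),
              if_neg (show ¬ j = m + 1 by omega), if_neg (show ¬ j = m + 3 by omega)]
            ring
        have e1 := congrArg (eval (1 : F)) hD
        have e3 := congrArg (eval (-1 : F)) hD
        simp only [eval_sub, h.1, h.2.1, sub_self, eval_add, eval_mul, eval_C, eval_pow, eval_X, one_pow,
          pow_succ] at e1 e3
        have hu : ((-1 : F) ^ m) * ((-1 : F) ^ m) = 1 := by rw [← mul_pow, neg_one_mul, neg_neg, one_pow]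
        have hA0 : A = 0 := by
          have h4 : (4 : F) * A = 0 := by linear_combination -e1 + (-1 : F) ^ m * e3 - (2 * A - B) * hu
          have : (4 : F) ≠ 0 := by
            rw [show (4 : F) = 2 * 2 by norm_num]; exact mul_ne_zero h2 h2
          exact (mul_eq_zero.1 h4).resolve_left this
        have hB0 : B = 0 := by rw [hA0] at e1; linear_combination -e1
        rw [hA0, hB0] at hD
        simpa [sub_eq_zero] using hD
    have hnz : (Finset.univ.filter (fun x : F => x ≠ 0)).card = 2 := by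
      rw [Finset.filter_ne' Finset.univ (0 : F), Finset.card_erase_of_mem (Finset.mem_univ _), Finset.card_univ, h3]
    rw [Finset.card_product, Finset.card_product, hnz, Finset.card_univ, Fintype.card_fun, Fintype.card_fin, h3] at hinj
    rw [pow_succ, pow_succ]
    linarith

/-- The split candidates over the field with three elements. -/
theorem card_le_odd_cand (h2 : (2 : F) ≠ 0) (h3 : Fintype.card F = 3) (hn : 2 ≤ n) (s : Finset (Multiset (Key F)))
    (hs : ∀ M ∈ s, Normal (1 : F) (2 * n + 1) M) (hflag : ∀ M ∈ s, ∀ k ∈ M, k.flag = false)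
    (hm : ∀ M ∈ s, ∀ (i : Fin (2 * n + 1)) c, mult M ((i : ℕ) + 1) c ≤ 1) :
    (s.card : ℚ) ≤ (Fintype.card F : ℚ) ^ n * (4988 / 1000) := by
  classical
  have hσ : ∀ M ∈ s, ∀ e c, sgm M e c = false := fun M hM e c => by
    simp only [sgm, decide_eq_false_iff_not]
    exact fun h => absurd (hflag M hM _ h) (by simp)
  let i₀ : Fin (2 * n + 1) := ⟨0, by omega⟩
  let single : Fin 2 × Fin 2 → (Fin (2 * n + 1) → Fin 2 → Bool × Bool) := fun cj i c =>
    if (i : ℕ) = 2 * (cj.2 : ℕ) ∧ c = cj.1 then (true, false) else (false, false)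
  have hR : ∀ cj : Fin 2 × Fin 2, ∑ i : Fin (2 * n + 1), ((i : ℕ) + 1) * ∑ c, bw (single cj i c) =
      2 * (cj.2 : ℕ) + 1 := by
    intro cj
    rw [Finset.sum_eq_single (⟨2 * (cj.2 : ℕ), by omega⟩ : Fin (2 * n + 1))]
    · rw [Finset.sum_eq_single cj.1]
      · simp [single, bw]
      · intro c _ hc; simp [single, bw, hc]
      · simp
    · intro i _ hi
      have : (i : ℕ) ≠ 2 * (cj.2 : ℕ) := fun h => hi (Fin.ext h)
      simp [single, bw, this]
    · simp
  have hsingle : Function.Injective single := by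
    intro a b h
    have h1 := congrFun (congrFun h ⟨2 * (a.2 : ℕ), by omega⟩) a.1
    simp only [single, and_self, if_true] at h1
    by_cases hb : 2 * (a.2 : ℕ) = 2 * (b.2 : ℕ) ∧ a.1 = b.1
    · exact Prod.ext hb.2 (Fin.ext (by omega))
    · rw [if_neg hb] at h1; simp at h1
  refine (card_le_odd h2 (by omega) (y := yb) (by unfold yb; norm_num)
    (by rw [h3]; unfold yb; norm_num) i₀ rfl s hs allowedOne (fun M hM i => ?_) (4 / 9) (5 / 9) (by norm_num)
    (by norm_num) (fun p hp => ?_) (Finset.univ.image single) ?_ ?_).trans ?_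
  · unfold allowedOne
    split_ifs with h
    · refine Fintype.mem_piFinset.2 fun c => ?_
      rcases Nat.le_one_iff_eq_zero_or_eq_one.1 (hm M hM i c) with h' | h' <;>
        simp [param, bits, hσ M hM, h']
    · exact Finset.mem_singleton.2 (funext (param_slot (hs M hM) i fun h' => h (parity_pos h2 _ h')))
  · set sp := s.filter fun M => param (2 * n + 1) M = p
    have hsp : ∀ M ∈ sp, M ∈ s ∧ param (2 * n + 1) M = p := fun M hM => Finset.mem_filter.1 hM
    set f : Multiset (Key F) → ((i : Fin (2 * n + 1)) → Fin (p.2 i) → F) :=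
      fun M i j => (palPoly M ((i : ℕ) + 1)).coeff ((j : ℕ) + 1)
    have hdeg : ∀ M ∈ sp, ∀ i : Fin (2 * n + 1), (palPoly M ((i : ℕ) + 1)).natDegree = 2 * p.2 i := fun M hM i => by
      rw [natDegree_palPoly h2 (hs M (hsp M hM).1).valid, (hsp M hM).2]
    set P := sp.image fun M => palPoly M 1
    have hP : ∀ g ∈ P, Pal g ∧ g.natDegree = 2 * p.2 i₀ ∧ g.eval 1 ≠ 0 ∧ g.eval (-1) ≠ 0 := by
      intro g hg
      obtain ⟨M, hM, rfl⟩ := Finset.mem_image.1 hg
      have hMs := (hsp M hM).1
      have hm1 : ∀ c, mult M 1 c ≤ 1 := fun c => hm M hMs i₀ c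
      exact ⟨palPoly_pal h2 (hs M hMs).valid 1, hdeg M hM i₀,
        eval_palPoly_one h2 (hs M hMs).valid hm1 (hflag M hMs) 1 (one_mul 1),
        eval_palPoly_one h2 (hs M hMs).valid hm1 (hflag M hMs) (-1) (by ring)⟩
    -- the fibre is the product of the first polynomial and the rest
    have hcard : sp.card ≤ P.card * Fintype.card F ^ ∑ i ∈ Finset.univ.erase i₀, p.2 i := by
      have := Finset.card_le_card_of_injOn
        (f := fun M => (palPoly M 1, fun (i : {i : Fin (2 * n + 1) // i ∈ Finset.univ.erase i₀}) (j : Fin (p.2 i.1)) =>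
          (palPoly M ((i.1 : ℕ) + 1)).coeff ((j : ℕ) + 1)))
        (s := sp) (t := P ×ˢ Finset.univ) (fun M hM => by
          simp only [Finset.coe_product, Set.mem_prod, Finset.mem_coe, Finset.mem_univ, and_true]
          exact Finset.mem_image_of_mem _ hM) ?_
      · refine this.trans (le_of_eq ?_)
        rw [Finset.card_product, Finset.card_univ, Fintype.card_pi, ← Finset.prod_pow_eq_pow_sum,
          ← Finset.prod_coe_sort (Finset.univ.erase i₀)]
        congr 1
        exact Finset.prod_congr rfl fun i _ => by rw [Fintype.card_fun, Fintype.card_fin]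
      intro M hM M' hM' h
      simp only [Prod.mk.injEq] at h
      have hM1 := hsp M hM
      have hM2 := hsp M' hM'
      refine param_injective h2 (hs M hM1.1) (hs M' hM2.1) (congrArg Prod.fst (hM1.2.trans hM2.2.symm)) fun i => ?_
      by_cases hi : i = i₀
      · subst hi; exact h.1
      · exact (palPoly_pal h2 (hs M hM1.1).valid _).ext (palPoly_pal h2 (hs M' hM2.1).valid _) (hdeg M hM i)
          (hdeg M' hM' i) fun j => congrFun (congrFun h.2 ⟨i, Finset.mem_erase.2 ⟨hi, Finset.mem_univ _⟩⟩) j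
    have hsplit : ∑ i, p.2 i = p.2 i₀ + ∑ i ∈ Finset.univ.erase i₀, p.2 i :=
      (Finset.add_sum_erase _ _ (Finset.mem_univ i₀)).symm
    rw [hsplit, pow_add]
    set rest := Fintype.card F ^ ∑ i ∈ Finset.univ.erase i₀, p.2 i with hrest
    have hcard' : (sp.card : ℚ) ≤ (P.card : ℚ) * (rest : ℚ) := by exact_mod_cast hcard
    have hrest0 : (0 : ℚ) ≤ rest := Nat.cast_nonneg _
    rcases Nat.eq_zero_or_pos (p.2 i₀) with hk | hk
    · have h1 : P.card ≤ 1 := Finset.card_le_one.2 fun g hg g' hg' =>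
        (hP g hg).1.ext (hP g' hg').1 (hP g hg).2.1 (hP g' hg').2.1 fun j => absurd j.isLt (by omega)
      have h1' : (P.card : ℚ) ≤ 1 := by exact_mod_cast h1
      rw [if_pos hk, hk, pow_zero, one_mul]
      nlinarith
    · have h1 := card_pal_no_root h2 h3 hk P hP
      rw [if_neg hk.ne', add_zero, Nat.cast_mul, h3]
      have h1' : (9 : ℚ) * (P.card : ℚ) ≤ 4 * ((3 ^ p.2 i₀ : ℕ) : ℚ) := by exact_mod_cast h1
      nlinarith
  · intro β hβ
    obtain ⟨cj, -, rfl⟩ := Finset.mem_image.1 hβ
    refine Fintype.mem_piFinset.2 fun i => ?_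
    unfold allowedOne
    split_ifs with h
    · refine Fintype.mem_piFinset.2 fun c => ?_
      simp only [single]
      split_ifs <;> simp
    · refine Finset.mem_singleton.2 (funext fun c => ?_)
      simp only [single]
      rw [if_neg]
      omega
  · intro β hβ
    obtain ⟨cj, -, rfl⟩ := Finset.mem_image.1 hβ
    rw [hR]
    omega
  · refine mul_le_mul_of_nonneg_left ?_ (by positivity)
    rw [sum_bits_one, sum_bits_one, Finset.sum_image fun a _ b _ h => hsingle h]
    simp only [bitT_eq, hR]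
    rw [Fintype.sum_prod_type]
    have := prod_g2f_le (2 * n + 1)
    have := prod_g2f_neg (2 * n + 1)
    simp only [Fin.sum_univ_two, Fin.val_zero, Fin.val_one]
    unfold yb at *
    norm_num
    linarith

end Cfsg.Agent.H7Class
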