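import Cfsg.Agent.H7Class.Decomp
import Cfsg.Agent.Orthogonal.Spinor

/-!
# The involution of a summand and its spinor norm
-/

set_option autoImplicit false

namespace Cfsg.Agent.H7Class

open Cfsg.Agent.Orthogonal Module
open QuadraticMap (polar)

universe v

variable {F : Type*} [Field F] [Finite F] {V V₁ V₂ : Type v} [AddCommGroup V] [Module F V] [FiniteDimensional F V]
  [AddCommGroup V₁] [Module F V₁] [AddCommGroup V₂] [Module F V₂] {Q : QuadraticForm F V}

omit [Finite F] in
theorem refl_list_apply (l : List V) (hl : l.Pairwise fun a b => polar Q a b = 0) (x : V) :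
    (((l.map (rO Q)).prod : O Q) : V ≃ₗ[F] V) x = x - (l.map fun v => ((Q v)⁻¹ * polar Q v x) • v).sum := by
  induction l with
  | nil => simp
  | cons a t ih =>
    rw [List.pairwise_cons] at hl
    rw [List.map_cons, List.prod_cons, Subgroup.coe_mul, mul_app, ih hl.2, rO_app, List.map_cons, List.sum_cons]
    have hsum : polar Q a (t.map fun v => ((Q v)⁻¹ * polar Q v x) • v).sum = 0 := by
      rw [← polarBilin_apply', map_list_sum, List.map_map]
      refine List.sum_eq_zero fun y hy => ?_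
      obtain ⟨v, hv, rfl⟩ := List.mem_map.1 hy
      simp only [Function.comp_apply, map_smul, polarBilin_apply', hl.1 v hv, smul_zero]
    rw [QuadraticMap.polar_sub_right, hsum, sub_zero]
    abel

/-- The diagonal of an orthogonal basis. -/
def Diag (X : Str F (1 : F) V₁) {m : ℕ} (b : Basis (Fin m) F V₁) : Prop :=
  (∀ i j, i ≠ j → X.B (b i) (b j) = 0) ∧ ∀ i, X.B (b i) (b i) ≠ 0

omit [Finite F] in
theorem exists_diag (h2 : (2 : F) ≠ 0) [FiniteDimensional F V₁] (X : Str F (1 : F) V₁) :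
    ∃ b : Basis (Fin (finrank F V₁)) F V₁, Diag X b := by
  letI : Invertible (2 : F) := invertibleOfNonzero h2
  obtain ⟨b, hb⟩ := LinearMap.BilinForm.exists_orthogonal_basis (B := X.B)
    ⟨fun u v => by simpa using X.sym u v⟩
  refine ⟨b, fun i j h => hb h, fun i hi => ?_⟩
  refine b.ne_zero i (X.nd _ fun v => ?_)
  rw [← b.sum_repr v, map_sum]
  refine Finset.sum_eq_zero fun j _ => ?_
  rw [map_smul]
  by_cases h : i = j
  · subst h; rw [hi, smul_zero]
  · rw [hb h, smul_zero]

/-- Minus one on a summand. -/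
theorem exists_neg_piece (hQ : Nondeg Q) (h2 : (2 : F) ≠ 0) {X : Str F (1 : F) V}
    (hB : ∀ u v, X.B u v = polar Q u v) {X₁ : Str F (1 : F) V₁} {X₂ : Str F (1 : F) V₂} (i : Iso X (X₁.prod X₂))
    {m : ℕ} {b : Basis (Fin m) F V₁} (hb : Diag X₁ b) :
    ∃ z : O Q, (∀ x, (z : V ≃ₗ[F] V) (X.T x) = X.T ((z : V ≃ₗ[F] V) x)) ∧
      detSign Q hQ h2 z = (-1) ^ m ∧
      spinor Q hQ h2 z = sqSign (∏ j, 2⁻¹ * X₁.B (b j) (b j)) := by
  set c : Fin m → V := fun j => i.e.symm (b j, 0) with hc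
  have hpol : ∀ j u w, polar Q (c j) (i.e.symm (u, w)) = X₁.B (b j) u := by
    intro j u w
    rw [← hB, ← i.map_B, hc, LinearEquiv.apply_symm_apply, LinearEquiv.apply_symm_apply, Str.prod_B]
    simp
  have hq : ∀ j, Q (c j) = 2⁻¹ * X₁.B (b j) (b j) := fun j => by
    have h := hpol j (b j) 0
    rw [show i.e.symm (b j, 0) = c j from rfl, polar_self'] at h
    rw [← h, inv_mul_cancel_left₀ h2]
  have hne : ∀ j, Q (c j) ≠ 0 := fun j => by rw [hq]; exact mul_ne_zero (inv_ne_zero h2) (hb.2 j)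
  set l := List.ofFn c with hl'
  have hl : ∀ v ∈ l, Q v ≠ 0 := fun v hv => by
    obtain ⟨j, rfl⟩ := List.mem_ofFn.1 hv
    exact hne j
  have hpw : l.Pairwise fun a b => polar Q a b = 0 := by
    rw [hl', List.pairwise_ofFn]
    intro j k hjk
    rw [hpol]
    exact hb.1 j k hjk.ne
  refine ⟨(l.map (rO Q)).prod, ?_, ?_, ?_⟩
  · have key : ∀ u w, (((l.map (rO Q)).prod : O Q) : V ≃ₗ[F] V) (i.e.symm (u, w)) = i.e.symm (-u, w) := by
      intro u w
      rw [refl_list_apply l hpw, hl', List.map_ofFn, List.sum_ofFn]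
      simp only [Function.comp_apply, hpol, hq]
      have hu : ∑ j, ((2⁻¹ * X₁.B (b j) (b j))⁻¹ * X₁.B (b j) u) • b j = (2 : F) • u := by
        conv_rhs => rw [← b.sum_repr u, Finset.smul_sum]
        refine Finset.sum_congr rfl fun j _ => ?_
        have hju : X₁.B (b j) u = b.repr u j * X₁.B (b j) (b j) := by
          conv_lhs => rw [← b.sum_repr u, map_sum]
          rw [Finset.sum_eq_single j (fun k _ hk => by rw [map_smul, hb.1 j k (Ne.symm hk), smul_zero])
            (fun h => absurd (Finset.mem_univ j) h), map_smul, smul_eq_mul]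
        rw [hju, smul_smul]
        congr 1
        have := hb.2 j
        field_simp
      have hs : ∑ j, ((2⁻¹ * X₁.B (b j) (b j))⁻¹ * X₁.B (b j) u) • c j = i.e.symm ((2 : F) • u, 0) := by
        rw [← hu, hc]
        have e : ((∑ j, ((2⁻¹ * X₁.B (b j) (b j))⁻¹ * X₁.B (b j) u) • b j, (0 : V₂)) : V₁ × V₂) =
            ∑ j, ((2⁻¹ * X₁.B (b j) (b j))⁻¹ * X₁.B (b j) u) • ((b j, 0) : V₁ × V₂) :=
          Prod.ext (by simp [Prod.fst_sum]) (by simp [Prod.snd_sum])
        rw [e, map_sum]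
        simp only [map_smul]
      rw [hs, ← map_sub, Prod.mk_sub_mk, sub_zero, two_smul]
      congr 2
      abel
    intro x
    obtain ⟨⟨u, w⟩, rfl⟩ := i.e.symm.surjective x
    have hT : ∀ u w, X.T (i.e.symm (u, w)) = i.e.symm (X₁.T u, X₂.T w) := fun u w => by
      apply i.e.injective
      rw [i.map_T, LinearEquiv.apply_symm_apply, LinearEquiv.apply_symm_apply, Str.prod_T]
    rw [hT, key, key, hT, map_neg]
  · rw [detSign_list hQ h2 hl, List.length_ofFn]
  · rw [spinor_list hQ h2 hl, hl', List.map_ofFn, List.prod_ofFn]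
    congr 1
    exact Finset.prod_congr rfl fun j _ => hq j

omit [Finite F] in
/-- A scaled basis. -/
theorem Diag.twist {X : Str F (1 : F) V₁} {Y : Str F (1 : F) V₂} {η : F} (hη : η ≠ 0)
    (a : Iso Y (X.scale η hη)) {m : ℕ} {b : Basis (Fin m) F V₁} (hb : Diag X b) :
    Diag Y (b.map a.e.symm) ∧ ∀ j, Y.B (b.map a.e.symm j) (b.map a.e.symm j) = η * X.B (b j) (b j) := by
  have h : ∀ j k, Y.B (b.map a.e.symm j) (b.map a.e.symm k) = η * X.B (b j) (b k) := fun j k => by
    rw [Basis.map_apply, Basis.map_apply, ← a.map_B, LinearEquiv.apply_symm_apply, LinearEquiv.apply_symm_apply,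
      Str.scale_B]
  exact ⟨⟨fun j k hjk => by rw [h, hb.1 j k hjk, mul_zero], fun j => by rw [h]; exact mul_ne_zero hη (hb.2 j)⟩,
    fun j => h j j⟩

end Cfsg.Agent.H7Class
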