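import Cfsg.Agent.H7Class.Mat
import Cfsg.Agent.H7Class.OddBound
import Cfsg.Agent.H7Class.Index
import Cfsg.Agent.H7Class.Reflect
import Cfsg.Agent.H77.ClassNumber

/-!
# Class numbers in odd dimension
-/

set_option autoImplicit false

namespace Cfsg.Agent.H7Class

open Matrix Cfsg.Agent.H58.FormSim Cfsg.Agent.Orthogonal

/-- Forgetting the square class. -/
def Key.forget {F : Type*} [Field F] (k : Key F) : Key F := ⟨k.g, k.e, false⟩

universe v

theorem decomp_flip_pair {F : Type*} [Field F] [Finite F] (h2 : (2 : F) ≠ 0) {ε : F} {V : Type v} [AddCommGroup V]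
    [Module F V] [FiniteDimensional F V] {k : Key F} (hslot : k.IsSlot ε) {L : List (Key F)} {X : Str F ε V}
    (h : Decomp (k :: k :: L) X) : Decomp (k.flip :: k.flip :: L) X := by
  obtain ⟨V₁, V₂, i₁, i₂, m₁, m₂, X₁, X₂, h1, h3, ⟨i⟩⟩ := h
  obtain ⟨V₃, V₄, i₃, i₄, m₃, m₄, X₃, X₄, h4, h5, ⟨j⟩⟩ := h3
  haveI := (finite_fst i).1
  haveI := (finite_fst i).2
  haveI := (finite_fst j).1
  obtain ⟨a⟩ := iso_of_isPiece h2 h4 h1
  obtain ⟨η, hη0, -, hsq, x, y, hxy⟩ := exists_nonsquare_twist (F := F) h2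
  have hp := isPiece_scale h1 hslot hη0 hsq
  let Y := X₁.scale η hη0
  refine ⟨V₁, V₁ × V₄, i₁, inferInstance, m₁, inferInstance, Y, Y.prod X₄, hp,
    ⟨V₁, V₄, i₁, i₄, m₁, m₄, Y, X₄, hp, h5, ⟨Iso.refl _⟩⟩, ⟨?_⟩⟩
  exact i.trans ((Iso.prod (Iso.refl X₁) (j.trans (Iso.prod a.symm (Iso.refl X₄)))).trans
    ((Iso.prodAssoc X₁ X₁ X₄).symm.trans ((Iso.prod (Iso.scaleTwo X₁ hη0 hxy).symm (Iso.refl X₄)).trans
      (Iso.prodAssoc Y Y X₄))))

section

variable {F : Type*} [Field F] [Fintype F] {ι : Type} [Fintype ι] [DecidableEq ι] (Q : QuadraticForm F (ι → F))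

theorem isometry_gram (h2 : (2 : F) ≠ 0) (g : GL ι F) : g ∈ Cfsg.isometryGroup F (⇑Q) ↔
    (g : Matrix ι ι F)ᵀ * H58.FormClass.gram Q * (g : Matrix ι ι F) = H58.FormClass.gram Q := by
  rw [Cfsg.Agent.Orthogonal.mem_isometryGroup_iff]
  refine ⟨fun h => bf_inj fun u v => ?_, fun h v => mul_left_cancel₀ h2 ?_⟩
  · rw [← bf_mulVec, H58.FormClass.bf_gram, H58.FormClass.bf_gram, QuadraticMap.polar, QuadraticMap.polar,
      ← Matrix.mulVec_add, h, h, h]
  · rw [← H58.FormClass.bf_gram_self, ← H58.FormClass.bf_gram_self, bf_mulVec, h]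

variable (hQ : Orthogonal.Nondeg Q) (h2 : (2 : F) ≠ 0)

/-- The structure of an isometry. -/
noncomputable def strOf (g : ↥(Cfsg.isometryGroup F (⇑Q))) : Str F (1 : F) (ι → F) :=
  matStr (H58.FormClass.gram Q) (by rw [H58.FormClass.gram_transpose, one_smul]) (H58.FormClass.gram_det hQ)
    ((g : GL ι F) : Matrix ι ι F) ((isometry_gram Q h2 _).1 g.2)

theorem strOf_B (g : ↥(Cfsg.isometryGroup F (⇑Q))) (u v : ι → F) :
    (strOf Q hQ h2 g).B u v = QuadraticMap.polar Q u v := by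
  rw [strOf, matStr_B, H58.FormClass.bf_gram]

theorem strOf_T (g : ↥(Cfsg.isometryGroup F (⇑Q))) (v : ι → F) :
    (strOf Q hQ h2 g).T v = ((g : GL ι F) : Matrix ι ι F) *ᵥ v := rfl

theorem isConj_of_strOf (g h : ↥(Cfsg.isometryGroup F (⇑Q))) (i : Iso (strOf Q hQ h2 g) (strOf Q hQ h2 h)) :
    IsConj g h := by
  obtain ⟨M, h1, h3⟩ := exists_conj_of_iso i
  refine isConj_iff.2 ⟨⟨M, (isometry_gram Q h2 M).2 h1⟩, mul_inv_eq_iff_eq_mul.2 (Subtype.ext (Units.ext ?_))⟩
  exact h3

/-- Minus the identity. -/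
def negI : ↥(Cfsg.isometryGroup F (⇑Q)) :=
  ⟨-1, (Cfsg.Agent.Orthogonal.mem_isometryGroup_iff _ _).2 fun v => by
    rw [Units.val_neg, Units.val_one, Matrix.neg_mulVec, Matrix.one_mulVec, QuadraticMap.map_neg]⟩

theorem negI_comm (g : ↥(Cfsg.isometryGroup F (⇑Q))) : negI Q * g = g * negI Q :=
  Subtype.ext (show (-1 : GL ι F) * (g : GL ι F) = (g : GL ι F) * -1 by rw [neg_mul, mul_neg, one_mul, mul_one])

theorem negI_sq : negI Q * negI Q = 1 :=
  Subtype.ext (show (-1 : GL ι F) * -1 = 1 by rw [neg_mul_neg, one_mul])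

/-- The sign of the determinant on the matrix group. -/
noncomputable def dsG : ↥(Cfsg.isometryGroup F (⇑Q)) →* ℤˣ :=
  (detSign Q hQ h2).comp (toO Q).toMonoidHom

/-- The spinor norm on the matrix group. -/
noncomputable def spG : ↥(Cfsg.isometryGroup F (⇑Q)) →* ℤˣ :=
  (spinor Q hQ h2).comp (toO Q).toMonoidHom

/-- The character with kernel `± Ω`. -/
noncomputable def psi : ↥(Cfsg.isometryGroup F (⇑Q)) →* ℤˣ :=
  if spG Q hQ h2 (negI Q) = 1 then spG Q hQ h2 else spG Q hQ h2 * dsG Q hQ h2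

variable {n : ℕ} (hdim : Fintype.card ι = 2 * n + 1)

include hdim in
theorem dsG_negI : dsG Q hQ h2 (negI Q) = -1 := by
  rcases Int.units_eq_one_or (dsG Q hQ h2 (negI Q)) with h | h
  · exfalso
    rw [dsG, MonoidHom.comp_apply, detSign_eq_one_iff] at h
    have e : (((toO Q (negI Q)) : (ι → F) ≃ₗ[F] (ι → F)) : (ι → F) →ₗ[F] (ι → F)) = -1 :=
      LinearMap.ext fun v => by
        show ((-1 : GL ι F) : Matrix ι ι F) *ᵥ v = -v
        rw [Units.val_neg, Units.val_one, Matrix.neg_mulVec, Matrix.one_mulVec]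
    rw [MulEquiv.coe_toMonoidHom, e] at h
    rw [← neg_one_smul F (1 : (ι → F) →ₗ[F] (ι → F)), LinearMap.det_smul, map_one, mul_one,
      Module.finrank_fintype_fun_eq_card, hdim, Odd.neg_one_pow ⟨n, rfl⟩] at h
    exact h2 (by linear_combination -h)
  · exact h

include hdim in
theorem psi_negI : psi Q hQ h2 (negI Q) = 1 := by
  unfold psi
  split_ifs with h
  · exact h
  · rw [MonoidHom.mul_apply, dsG_negI Q hQ h2 hdim, (Int.units_eq_one_or _).resolve_left h]
    decide

theorem psi_of_det {z : ↥(Cfsg.isometryGroup F (⇑Q))} (hz : dsG Q hQ h2 z = -1) :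
    psi Q hQ h2 z = spG Q hQ h2 z * spG Q hQ h2 (negI Q) := by
  unfold psi
  split_ifs with h
  · rw [h, mul_one]
  · rw [MonoidHom.mul_apply, hz, (Int.units_eq_one_or (spG Q hQ h2 (negI Q))).resolve_left h]

include hdim in
theorem psi_index (hn : 1 ≤ n) : (psi Q hQ h2).ker.index = 2 := by
  obtain ⟨ν, hν⟩ := exists_not_isSquare h2
  have hν0 : ν ≠ 0 := fun h => hν (by rw [h]; exact IsSquare.zero)
  have hfr : 2 ≤ Module.finrank F (ι → F) := by rw [Module.finrank_fintype_fun_eq_card, hdim]; omega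
  obtain ⟨u, hu⟩ := hQ.exists_value hfr 1
  obtain ⟨w, hw⟩ := hQ.exists_value hfr ν
  have hu0 : Q u ≠ 0 := by rw [hu]; exact one_ne_zero
  have hw0 : Q w ≠ 0 := by rw [hw]; exact hν0
  have key : ∀ v, Q v ≠ 0 → psi Q hQ h2 ((toO Q).symm (rO Q v)) = sqSign (Q v) * spG Q hQ h2 (negI Q) := by
    intro v hv
    rw [psi_of_det]
    · congr 1
      rw [spG, MonoidHom.comp_apply, MulEquiv.coe_toMonoidHom, MulEquiv.apply_symm_apply, spinor_rO hQ h2 hv]
    · rw [dsG, MonoidHom.comp_apply, MulEquiv.coe_toMonoidHom, MulEquiv.apply_symm_apply, detSign_rO hQ h2 hv]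
  have hsurj : Function.Surjective (psi Q hQ h2) := by
    intro s
    rcases Int.units_eq_one_or s with rfl | rfl
    · exact ⟨1, map_one _⟩
    rcases Int.units_eq_one_or (spG Q hQ h2 (negI Q)) with h | h
    · exact ⟨_, (key w hw0).trans (by rw [h, mul_one, hw, sqSign_of_not_isSquare hν])⟩
    · exact ⟨_, (key u hu0).trans (by rw [h, hu, sqSign_of_isSquare IsSquare.one, one_mul])⟩
  rw [Subgroup.index_ker, MonoidHom.range_eq_top.2 hsurj, Subgroup.card_top]
  simp

theorem mem_omega (g : ↥(Cfsg.isometryGroup F (⇑Q))) :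
    g ∈ Cfsg.Omega F (⇑Q) ↔ dsG Q hQ h2 g = 1 ∧ spG Q hQ h2 g = 1 := by
  rw [mem_omega_iff, mem_commutator_iff hQ h2]
  rfl

include hdim in
/-- The kernel is twice the commutator subgroup. -/
theorem classes_ker : Nat.card (ConjClasses ↥(psi Q hQ h2).ker) = 2 * Nat.card (ConjClasses ↥(Cfsg.Omega F (⇑Q))) := by
  classical
  set D := dsG Q hQ h2 with hD
  let σ : ↥(Cfsg.isometryGroup F (⇑Q)) → ↥(Cfsg.isometryGroup F (⇑Q)) := fun g => if D g = 1 then g else negI Q * g
  have hσmul : ∀ a b, σ (a * b) = σ a * σ b := by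
    intro a b
    simp only [σ, map_mul]
    rcases Int.units_eq_one_or (D a) with ha | ha <;> rcases Int.units_eq_one_or (D b) with hb | hb <;>
      simp only [ha, hb, mul_one, one_mul, if_true, show (-1 : ℤˣ) ≠ 1 by decide, if_false,
        show (-1 : ℤˣ) * -1 = 1 by decide]
    · rw [← mul_assoc, negI_comm, mul_assoc]
    · rw [mul_assoc]
    · rw [mul_assoc (negI Q), ← mul_assoc a, ← negI_comm Q a, ← mul_assoc, ← mul_assoc, negI_sq, one_mul]
  have hσΩ : ∀ g, g ∈ (psi Q hQ h2).ker → σ g ∈ Cfsg.Omega F (⇑Q) := by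
    intro g hg
    rw [MonoidHom.mem_ker] at hg
    rw [mem_omega Q hQ h2]
    rcases Int.units_eq_one_or (D g) with h | h
    · simp only [σ, h, if_true]
      refine ⟨h, ?_⟩
      unfold psi at hg
      split_ifs at hg with hc
      · exact hg
      · rw [MonoidHom.mul_apply, show dsG Q hQ h2 g = 1 from h, mul_one] at hg
        exact hg
    · simp only [σ, h, show (-1 : ℤˣ) ≠ 1 by decide, if_false]
      refine ⟨by rw [map_mul, dsG_negI Q hQ h2 hdim, show dsG Q hQ h2 g = -1 from h]; decide, ?_⟩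
      rw [map_mul, mul_comm, ← psi_of_det Q hQ h2 h, hg]
  let e : ↥(psi Q hQ h2).ker →* ↥(Cfsg.Omega F (⇑Q)) × ℤˣ :=
    { toFun := fun g => (⟨σ g, hσΩ g g.2⟩, D g)
      map_one' := Prod.ext (Subtype.ext (by simp [σ])) (map_one D)
      map_mul' := fun a b => Prod.ext (Subtype.ext (hσmul a b)) (map_mul D _ _) }
  have hbij : Function.Bijective e := by
    constructor
    · intro a b h
      have h1 : σ a = σ b := congrArg (fun p => (p.1 : ↥(Cfsg.isometryGroup F (⇑Q)))) h
      have h3 : D a = D b := congrArg Prod.snd h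
      simp only [σ, h3] at h1
      split_ifs at h1
      · exact Subtype.ext h1
      · exact Subtype.ext (mul_left_cancel h1)
    · rintro ⟨⟨w, hw⟩, s⟩
      obtain ⟨hwd, hws⟩ := (mem_omega Q hQ h2 w).1 hw
      have hwK : psi Q hQ h2 w = 1 := by
        unfold psi
        split_ifs
        · exact hws
        · rw [MonoidHom.mul_apply, hws, hwd, one_mul]
      rcases Int.units_eq_one_or s with rfl | rfl
      · refine ⟨⟨w, hwK⟩, Prod.ext (Subtype.ext ?_) hwd⟩
        show σ w = w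
        simp [σ, hD, hwd]
      · refine ⟨⟨negI Q * w, by rw [MonoidHom.mem_ker, map_mul, psi_negI Q hQ h2 hdim, hwK, one_mul]⟩,
          Prod.ext (Subtype.ext ?_) ?_⟩
        · show σ (negI Q * w) = w
          simp only [σ, hD, map_mul, dsG_negI Q hQ h2 hdim, hwd, mul_one, show (-1 : ℤˣ) ≠ 1 by decide, if_false]
          rw [← mul_assoc, negI_sq, one_mul]
        · show D (negI Q * w) = -1
          rw [map_mul, hD, dsG_negI Q hQ h2 hdim, hwd, mul_one]
  let E := MulEquiv.ofBijective e hbij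
  have h1 := commProb_def' ↥(psi Q hQ h2).ker
  have h3 : commProb ↥(psi Q hQ h2).ker = commProb (↥(Cfsg.Omega F (⇑Q)) × ℤˣ) := by
    rw [commProb_def', commProb_def', Nat.card_congr E.toEquiv]
    congr 2
    refine Nat.card_congr (Equiv.ofBijective (ConjClasses.map E.toMonoidHom) ⟨?_, ConjClasses.map_surjective E.surjective⟩)
    intro a b
    obtain ⟨x, rfl⟩ := ConjClasses.exists_rep a
    obtain ⟨y, rfl⟩ := ConjClasses.exists_rep b
    intro hxy
    have := MonoidHom.map_isConj E.symm.toMonoidHom (ConjClasses.mk_eq_mk_iff_isConj.1 hxy)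
    simp only [MulEquiv.coe_toMonoidHom, MulEquiv.symm_apply_apply] at this
    exact ConjClasses.mk_eq_mk_iff_isConj.2 this
  rw [commProb_prod, commProb_def', commProb_def', commProb_def', Nat.card_congr E.toEquiv, Nat.card_prod] at h3
  have hZ : Nat.card (ConjClasses ℤˣ) = Nat.card ℤˣ := by
    refine Nat.card_congr (Equiv.ofBijective ConjClasses.mk ⟨fun a b h => ?_, ConjClasses.exists_rep⟩).symm
    exact isConj_iff_eq.1 (ConjClasses.mk_eq_mk_iff_isConj.1 h)
  have h4 : Nat.card ℤˣ = 2 := by simp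
  rw [hZ, h4] at h3
  have hpos : (0 : ℚ) < Nat.card ↥(Cfsg.Omega F (⇑Q)) := Nat.cast_pos.2 Nat.card_pos
  rw [← @Nat.cast_inj ℚ]
  push_cast at h3 ⊢
  field_simp at h3
  linarith

/-! ### The split classes -/

include hdim in
theorem flip_false {x x' : ↥(Cfsg.isometryGroup F (⇑Q))}
    (hx : ∀ y, Commute x y → y ∈ (psi Q hQ h2).ker) (hx' : ∀ y, Commute x' y → y ∈ (psi Q hQ h2).ker)
    {k : Key F} (hs : k.IsSlot (1 : F)) {R R' : List (Key F)} (hX : Decomp (k :: R) (strOf Q hQ h2 x))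
    (hY : Decomp (k.flip :: R') (strOf Q hQ h2 x')) : False := by
  obtain ⟨V₁, V₂, i₁, i₂, m₁, m₂, X₁, X₂, hp, -, ⟨i⟩⟩ := hX
  obtain ⟨W₁, W₂, j₁, j₂, n₁, n₂, Y₁, Y₂, hp', -, ⟨j⟩⟩ := hY
  haveI := (finite_fst i).1
  haveI := (finite_fst j).1
  obtain ⟨η, hη0, hηns, hsq, -⟩ := exists_nonsquare_twist (F := F) h2
  obtain ⟨a⟩ := iso_of_isPiece h2 (isPiece_scale hp hs hη0 hsq) hp'
  obtain ⟨b, hb⟩ := exists_diag h2 X₁
  obtain ⟨hb', hb''⟩ := hb.twist hη0 a
  have hm : Odd (Module.finrank F V₁) := by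
    obtain ⟨-, c, hg, -, -⟩ := id hs
    rw [finrank_piece hp, hg, Polynomial.natDegree_X_sub_C, mul_one]
    exact sign_odd h2 hs
  have key : ∀ (x : ↥(Cfsg.isometryGroup F (⇑Q))), (∀ y, Commute x y → y ∈ (psi Q hQ h2).ker) →
      ∀ (z : Orthogonal.O Q), (∀ v, (z : (ι → F) ≃ₗ[F] (ι → F)) ((strOf Q hQ h2 x).T v) =
        (strOf Q hQ h2 x).T ((z : (ι → F) ≃ₗ[F] (ι → F)) v)) → detSign Q hQ h2 z = -1 →
      spinor Q hQ h2 z * spG Q hQ h2 (negI Q) = 1 := by
    intro x hx z hcomm hdet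
    have hz : Commute x ((toO Q).symm z) := by
      refine Subtype.ext (Units.ext (Matrix.ext_iff_mulVec.2 fun v => ?_))
      simp only [Subgroup.coe_mul, Units.val_mul, ← Matrix.mulVec_mulVec, toO_symm_apply]
      exact (hcomm v).symm
    have h := MonoidHom.mem_ker.1 (hx _ hz)
    rw [psi_of_det] at h
    · simpa [spG] using h
    · simpa [dsG] using hdet
  obtain ⟨z, z1, z2, z3⟩ := exists_neg_piece hQ h2 (strOf_B Q hQ h2 x) i hb
  obtain ⟨w, w1, w2, w3⟩ := exists_neg_piece hQ h2 (strOf_B Q hQ h2 x') j hb'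
  have e1 := key x hx z z1 (by rw [z2, hm.neg_one_pow])
  have e3 := key x' hx' w w1 (by rw [w2, hm.neg_one_pow])
  rw [z3] at e1
  rw [w3] at e3
  set P := ∏ l, 2⁻¹ * X₁.B (b l) (b l)
  have hP : P ≠ 0 := Finset.prod_ne_zero_iff.2 fun l _ => mul_ne_zero (inv_ne_zero h2) (hb.2 l)
  have hW : ∏ l, 2⁻¹ * Y₁.B (b.map a.e.symm l) (b.map a.e.symm l) = η ^ Module.finrank F V₁ * P := by
    rw [Finset.prod_congr rfl fun l _ => show 2⁻¹ * Y₁.B (b.map a.e.symm l) (b.map a.e.symm l)
      = η * (2⁻¹ * X₁.B (b l) (b l)) by rw [hb'' l]; ring, Finset.prod_mul_distrib, Finset.prod_const,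
      Finset.card_univ, Fintype.card_fin]
  obtain ⟨r, hr⟩ := hm
  have hns : ¬ IsSquare (η ^ Module.finrank F V₁) := by
    rintro ⟨t, ht⟩
    rw [hr] at ht
    exact hηns ⟨t / η ^ r, by field_simp; linear_combination ht⟩
  rw [hW, sqSign_mul h2 (pow_ne_zero _ hη0) hP, sqSign_of_not_isSquare hns, mul_assoc, e1] at e3
  exact absurd e3 (by decide)

include hdim in
theorem slot_of_perm {g : ↥(Cfsg.isometryGroup F (⇑Q))} {L : List (Key F)}
    (hL : Decomp L (strOf Q hQ h2 g)) {k : Key F} (hk : k ∈ L) : ∃ R, Decomp (k :: R) (strOf Q hQ h2 g) := by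
  classical
  exact ⟨L.erase k, decomp_perm (List.perm_cons_erase hk) _ hL⟩

include hdim in
/-- The count of the split classes. -/
theorem split_le (h3 : Fintype.card F = 3) (hn : 2 ≤ n) :
    ((splitClasses (psi Q hQ h2).ker).ncard : ℚ) ≤ (Fintype.card F : ℚ) ^ n * (4988 / 1000) := by
  classical
  choose L hL hgood using fun g => exists_normal h2 (Or.inl rfl) (strOf Q hQ h2 g)
  have hrep : ∀ c : ↥(splitClasses (psi Q hQ h2).ker), ∃ x, ConjClasses.mk x = c.1 ∧
      x ∈ (psi Q hQ h2).ker ∧ ∀ y, Commute x y → y ∈ (psi Q hQ h2).ker := fun c => c.2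
  choose r hr hrK hrC using hrep
  have hfr : Module.finrank F (ι → F) = 2 * n + 1 := by rw [Module.finrank_fintype_fun_eq_card, hdim]
  have hN : ∀ g, Normal (1 : F) (2 * n + 1) (L g : Multiset (Key F)) := fun g =>
    normal_of_decomp (hL g) hfr (hgood g)
  -- keys with equal data have equal classes
  have huniq : ∀ c c', ∀ k ∈ L (r c), ∀ k' ∈ L (r c'), k.g = k'.g → k.e = k'.e → k = k' := by
    intro c c' k hk k' hk' hg he
    obtain ⟨g, e, b⟩ := k
    obtain ⟨g', e', b'⟩ := k'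
    obtain rfl : g = g' := hg
    obtain rfl : e = e' := he
    by_contra hne
    have hbb : b' = !b := by
      cases b <;> cases b' <;> simp_all
    subst hbb
    have hslot : Key.IsSlot (1 : F) (⟨g, e, b⟩ : Key F) := by
      cases b
      · exact ((hN _).valid _ (Multiset.mem_coe.2 hk')).slot_of_flag rfl
      · exact ((hN _).valid _ (Multiset.mem_coe.2 hk)).slot_of_flag rfl
    obtain ⟨R, hR⟩ := slot_of_perm Q hQ h2 hdim (hL (r c)) hk
    obtain ⟨R', hR'⟩ := slot_of_perm Q hQ h2 hdim (hL (r c')) hk'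
    exact flip_false Q hQ h2 hdim (hrC c) (hrC c') hslot hR hR'
  let Φ : ↥(splitClasses (psi Q hQ h2).ker) → Multiset (Key F) := fun c =>
    (L (r c) : Multiset (Key F)).map Key.forget
  have hinj : Function.Injective Φ := by
    intro c c' h
    set S : Set (Key F) := {k | k ∈ L (r c) ∨ k ∈ L (r c')}
    have hS : Set.InjOn Key.forget S := by
      rintro k (hk | hk) k' (hk' | hk') e
      · exact huniq c c k hk k' hk' (congrArg Key.g e :) (congrArg Key.e e :)
      · exact huniq c c' k hk k' hk' (congrArg Key.g e :) (congrArg Key.e e :)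
      · exact huniq c' c k hk k' hk' (congrArg Key.g e :) (congrArg Key.e e :)
      · exact huniq c' c' k hk k' hk' (congrArg Key.g e :) (congrArg Key.e e :)
    haveI : Nonempty (Key F) := ⟨⟨0, 0, false⟩⟩
    have hback : ∀ d : ↥(splitClasses (psi Q hQ h2).ker), (∀ k ∈ L (r d), k ∈ S) →
        (Φ d).map (Function.invFunOn Key.forget S) = (L (r d) : Multiset (Key F)) := fun d hd => by
      rw [Multiset.map_map]
      conv_rhs => rw [← Multiset.map_id (L (r d) : Multiset (Key F))]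
      exact Multiset.map_congr rfl fun k hk => hS.leftInvOn_invFunOn (hd k (Multiset.mem_coe.1 hk))
    have hLL : (L (r c) : Multiset (Key F)) = L (r c') := by
      rw [← hback c fun k hk => Or.inl hk, ← hback c' fun k hk => Or.inr hk, h]
    obtain ⟨i⟩ := decomp_unique h2 _ _ _ (decomp_perm (Multiset.coe_eq_coe.1 hLL) _ (hL (r c))) (hL (r c'))
    refine Subtype.ext ?_
    rw [← hr c, ← hr c', ConjClasses.mk_eq_mk_iff_isConj]
    exact isConj_of_strOf Q hQ h2 _ _ i
  haveI : Fintype ↥(splitClasses (psi Q hQ h2).ker) := Fintype.ofFinite _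
  have hcard := card_le_odd_cand h2 h3 hn (Finset.univ.image Φ) ?_ ?_ ?_
  · rwa [Finset.card_image_of_injective _ hinj, Finset.card_univ, ← Nat.card_eq_fintype_card,
      Nat.card_coe_set_eq] at hcard
  · intro M hM
    obtain ⟨c, -, rfl⟩ := Finset.mem_image.1 hM
    refine ⟨fun k hk => ?_, fun k hk M' h => ?_, ?_⟩
    · obtain ⟨k', hk', rfl⟩ := Multiset.mem_map.1 hk
      obtain ⟨he, h⟩ := (hN _).valid _ hk'
      refine ⟨he, ?_⟩
      rcases h with ⟨-, h⟩ | ⟨-, h⟩ | ⟨-, h⟩ | h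
      · exact Or.inl ⟨rfl, h⟩
      · exact Or.inr (Or.inl ⟨rfl, h⟩)
      · exact Or.inr (Or.inr (Or.inl ⟨rfl, h⟩))
      · exact Or.inr (Or.inr (Or.inr h))
    · have hmem : k ∈ Φ c := h ▸ Multiset.mem_cons_self _ _
      obtain ⟨k', -, rfl⟩ := Multiset.mem_map.1 hmem
      exact absurd hk (by simp [Key.forget])
    · rw [← (hN (r c)).weight]
      simp only [Φ, Multiset.map_map]
      rfl
  · intro M hM k hk
    obtain ⟨c, -, rfl⟩ := Finset.mem_image.1 hM
    obtain ⟨k', -, rfl⟩ := Multiset.mem_map.1 hk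
    rfl
  · intro M hM i c'
    obtain ⟨c, -, rfl⟩ := Finset.mem_image.1 hM
    have hpolys : ∀ e, polys (Φ c) e = polys (L (r c) : Multiset (Key F)) e := fun e => by
      simp only [polys, Φ, Multiset.filter_map, Multiset.map_map]
      rfl
    set g := Polynomial.X - Polynomial.C (cs c' : F)
    have hcount : mult (Φ c) ((i : ℕ) + 1) c' = (L (r c)).count ⟨g, (i : ℕ) + 1, false⟩ +
        (L (r c)).count ⟨g, (i : ℕ) + 1, true⟩ := by
      rw [mult, hpolys, count_polys, Multiset.coe_count, Multiset.coe_count]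
    rw [hcount]
    by_contra hgt
    have h2' : ∃ k : Key F, k.g = g ∧ k.e = (i : ℕ) + 1 ∧ 2 ≤ (L (r c)).count k := by
      by_contra hno
      push Not at hno
      have a1 := hno ⟨g, (i : ℕ) + 1, false⟩ rfl rfl
      have a3 := hno ⟨g, (i : ℕ) + 1, true⟩ rfl rfl
      have hF : (⟨g, (i : ℕ) + 1, false⟩ : Key F) ∈ L (r c) := List.count_pos_iff.1 (by omega)
      have hT : (⟨g, (i : ℕ) + 1, true⟩ : Key F) ∈ L (r c) := List.count_pos_iff.1 (by omega)
      exact absurd (congrArg Key.flag (huniq c c _ hF _ hT rfl rfl)) (by simp)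
    obtain ⟨k, hg, he, hk2⟩ := h2'
    have hk1 : k ∈ L (r c) := List.count_pos_iff.1 (by omega)
    have hp1 : (L (r c)).Perm (k :: (L (r c)).erase k) := List.perm_cons_erase hk1
    have hk3 : k ∈ (L (r c)).erase k := List.count_pos_iff.1 (by rw [List.count_erase_self]; omega)
    have hd := decomp_perm (hp1.trans ((List.perm_cons_erase hk3).cons k)) _ (hL (r c))
    have hslot : k.IsSlot (1 : F) := ((hN _).valid k (Multiset.mem_coe.2 hk1)).slot (by
      rw [hg]; exact Polynomial.natDegree_X_sub_C _)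
    exact flip_false Q hQ h2 hdim (hrC c) (hrC c) hslot hd (decomp_flip_pair h2 hslot hd)

include hQ h2 hdim in
/-- Twice the class number is at most the number of normal multisets. -/
theorem classes_le_odd (hq : 3 ≤ Fintype.card F) {y : ℚ} (hy : 0 < y) (hy1 : y ≤ 1)
    (hqy : 1 ≤ (Fintype.card F : ℚ) * y ^ 2) :
    2 * (Nat.card (ConjClasses ↥(Cfsg.isometryGroup F (⇑Q))) : ℚ) ≤ (Fintype.card F : ℚ) ^ n *
      (1786 / 1000 * ((∏ i ∈ Finset.range (2 * n + 1), gf 1 y i) / (2 * y))) := by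
  classical
  haveI : Fintype (ConjClasses ↥(Cfsg.isometryGroup F (⇑Q))) := Fintype.ofFinite _
  have hfr : Module.finrank F (ι → F) = 2 * n + 1 := by rw [Module.finrank_fintype_fun_eq_card, hdim]
  obtain ⟨Φ, hΦ, hN⟩ := exists_key_map h2 (Or.inl rfl) (strOf Q hQ h2) (isConj_of_strOf Q hQ h2) hfr
  set A := Finset.univ.image Φ with hA
  have hAN : ∀ M ∈ A, Normal (1 : F) (2 * n + 1) M ∧
      ∃ g L, Decomp L (strOf Q hQ h2 g) ∧ (L : Multiset (Key F)) = M := fun M hM => by
    obtain ⟨c, -, rfl⟩ := Finset.mem_image.1 hM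
    exact hN c
  have hslot : ∀ M, Normal (1 : F) (2 * n + 1) M → HasSlot (1 : F) (proj M) := by
    intro M hM
    by_contra hno
    have : Even (M.map fun k => k.e * k.g.natDegree).sum := by
      refine Multiset.sum_induction _ _ (fun a b => Even.add) Even.zero fun a ha => ?_
      obtain ⟨k, hk, rfl⟩ := Multiset.mem_map.1 ha
      refine Even.mul_left ((hM.valid k hk).pal h2 fun hd => hno ?_).2.2 _
      exact ⟨(k.g, k.e), Multiset.mem_map_of_mem _ hk, (hM.valid k hk).slot hd⟩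
    rw [hM.weight] at this
    exact absurd this (by simp [parity_simps])
  have hflip : ∀ M ∈ A, flipM (1 : F) M ∉ A := by
    intro M hM hM'
    obtain ⟨hMN, g, L, hL, rfl⟩ := hAN M hM
    obtain ⟨-, g', L', hL', e'⟩ := hAN _ hM'
    obtain ⟨R, h1, h3⟩ := flipM_eq (hslot _ hMN)
    obtain ⟨R, rfl⟩ : ∃ R' : List (Key F), (R' : Multiset (Key F)) = R := Quot.exists_rep R
    rw [Multiset.cons_coe, Multiset.coe_eq_coe] at h1
    rw [← e', Multiset.cons_coe, Multiset.coe_eq_coe] at h3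
    exact not_isometric_of_flip h2 (pick_spec (hslot _ hMN)).2 (decomp_perm h1 _ hL) (decomp_perm h3 _ hL')
      ⟨LinearEquiv.refl F _, fun u v => by rw [strOf_B]; exact (strOf_B Q hQ h2 g u v).symm⟩
  have hinj : Set.InjOn (flipM (1 : F)) A := fun M hM M' hM' h => by
    rw [← flipM_flipM (hAN M hM).1 (hslot _ (hAN M hM).1), h, flipM_flipM (hAN M' hM').1 (hslot _ (hAN M' hM').1)]
  have hdisj : Disjoint A (A.image (flipM (1 : F))) := Finset.disjoint_right.2 fun M hM => by
    obtain ⟨M', hM', rfl⟩ := Finset.mem_image.1 hM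
    exact hflip M' hM'
  have hall := card_le_odd_all h2 hq hy hy1 hqy (A ∪ A.image (flipM (1 : F))) fun M hM => by
    rcases Finset.mem_union.1 hM with hM | hM
    · exact (hAN M hM).1
    · obtain ⟨M', hM', rfl⟩ := Finset.mem_image.1 hM
      exact normal_flipM (hAN M' hM').1 (hslot _ (hAN M' hM').1)
  rw [Finset.card_union_of_disjoint hdisj, Finset.card_image_of_injOn hinj, Nat.cast_add] at hall
  have hcard : Nat.card (ConjClasses ↥(Cfsg.isometryGroup F (⇑Q))) = A.card := by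
    rw [hA, Finset.card_image_of_injective _ hΦ, Finset.card_univ, Nat.card_eq_fintype_card]
  rw [hcard]
  linarith

include hQ hdim in
/-- The upper bound for `Ω` in odd dimension. -/
theorem omega_upper (hodd : Odd (Fintype.card F)) (hn : 2 ≤ n) :
    10 * Nat.card (ConjClasses ↥(Cfsg.Omega F (⇑Q))) ≤ 73 * Fintype.card F ^ n := by
  have h2 := two_ne_zero_of_odd hodd
  have hq := three_le_card hodd
  have hK := classes_ker Q hQ h2 hdim
  have hKQ : (Nat.card (ConjClasses ↥(psi Q hQ h2).ker) : ℚ) = 2 * (Nat.card (ConjClasses ↥(Cfsg.Omega F (⇑Q))) : ℚ) := by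
    exact_mod_cast hK
  have hpow : (0 : ℚ) ≤ (Fintype.card F : ℚ) ^ n := by positivity
  rw [← @Nat.cast_le ℚ]
  push_cast
  rcases Nat.lt_or_ge (Fintype.card F) 5 with h5 | h5
  · have h3 : Fintype.card F = 3 := by
      obtain ⟨t, ht⟩ := hodd
      omega
    have hI := two_mul_classes (psi Q hQ h2).ker (psi_index Q hQ h2 hdim (by omega))
    have hI' : 2 * (Nat.card (ConjClasses ↥(psi Q hQ h2).ker) : ℚ) =
        (Nat.card (ConjClasses ↥(Cfsg.isometryGroup F (⇑Q))) : ℚ) +
          3 * ((splitClasses (psi Q hQ h2).ker).ncard : ℚ) := by exact_mod_cast hI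
    have hk := classes_le_odd Q hQ h2 hdim hq (y := yb) (by unfold yb; norm_num) (by unfold yb; norm_num)
      (by rw [h3]; unfold yb; norm_num)
    have hs := split_le Q hQ h2 hdim h3 hn
    have hb : (1786 / 1000 * ((∏ i ∈ Finset.range (2 * n + 1), gf 1 yb i) / (2 * yb)) : ℚ) ≤ 2824 / 100 := by
      have := prod_gf_one_sharp (2 * n + 1)
      unfold yb at *
      norm_num
      linarith
    have := mul_le_mul_of_nonneg_left hb hpow
    linarith
  · haveI : Fintype ↥(Cfsg.isometryGroup F (⇑Q)) := Fintype.ofFinite _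
    have hI := H77.kcard_subgroup_le (psi Q hQ h2).ker
    rw [psi_index Q hQ h2 hdim (by omega)] at hI
    have hI' : (Nat.card (ConjClasses ↥(psi Q hQ h2).ker) : ℚ) ≤
        2 * (Nat.card (ConjClasses ↥(Cfsg.isometryGroup F (⇑Q))) : ℚ) := by exact_mod_cast hI
    have h5' : (5 : ℚ) ≤ (Fintype.card F : ℚ) := by exact_mod_cast h5
    have hk := classes_le_odd Q hQ h2 hdim hq (y := y5) (by unfold y5; norm_num) (by unfold y5; norm_num)
      (by unfold y5; norm_num; linarith)
    have hb : (1786 / 1000 * ((∏ i ∈ Finset.range (2 * n + 1), gf 1 y5 i) / (2 * y5)) : ℚ) ≤ 143 / 10 := by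
      have := prod_gf5 (2 * n + 1)
      unfold y5 at *
      norm_num
      linarith
    have := mul_le_mul_of_nonneg_left hb hpow
    linarith

end

end Cfsg.Agent.H7Class
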