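import Cfsg.Agent.H7Class.Lower
import Cfsg.Agent.H7Class.OddUpper

/-!
# Many classes in odd dimension
-/

set_option autoImplicit false

namespace Cfsg.Agent.H7Class

open Polynomial Matrix Cfsg.Agent.H58.FormSim

variable {F : Type*} [Field F] [Fintype F] {ι : Type} [Fintype ι] [DecidableEq ι] {n : ℕ}

omit [Fintype F] in
theorem Realized.extend_one {r : F[X]} {δ : F} (h : Realized r δ ι) {c : F} (hc : c * c = 1) :
    Realized ((Polynomial.X - Polynomial.C c) * r) δ (ι ⊕ Unit) := by
  obtain ⟨H, A, hH, hd, hA, hf⟩ := h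
  refine ⟨fromBlocks H 0 0 (1 : Matrix Unit Unit F), fromBlocks A 0 0 (c • (1 : Matrix Unit Unit F)), ?_, ?_, ?_, ?_⟩
  · rw [fromBlocks_transpose, hH, transpose_zero, transpose_zero, transpose_one]
  · rw [det_fromBlocks_zero₂₁, hd, det_one, mul_one]
  · rw [fromBlocks_transpose, fromBlocks_multiply, fromBlocks_multiply]
    simp [hA, smul_smul, hc]
  · rw [charpoly_fromBlocks_zero₂₁, hf, mul_comm, smul_one_eq_diagonal, charpoly_diagonal]
    simp

/-- The lower bound for the orthogonal group in odd dimension. -/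
theorem odd_lower (hodd : Odd (Fintype.card F)) (hdim : Fintype.card ι = 2 * n + 1)
    (Q : QuadraticForm F (ι → F)) (hQ : Cfsg.Agent.Orthogonal.Nondeg Q) :
    2 * Fintype.card F ^ n ≤ Nat.card (ConjClasses ↥(Cfsg.isometryGroup F (⇑Q))) := by
  classical
  have h2 := two_ne_zero_of_odd hodd
  obtain ⟨p, _⟩ := CharP.exists F
  haveI : Fact p.Prime := ⟨CharP.char_is_prime F p⟩
  choose g hgp hga using fun a : Fin n → F => H54.SympSS.exists_coeff (n := n) p a
  let pal : (Fin n → F) → F[X] := fun a => (g a : Matrix (Fin n ⊕ Fin n) (Fin n ⊕ Fin n) F).charpoly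
  have pdeg : ∀ a, (pal a).natDegree = 2 * n := fun a => by
    simp only [pal]; rw [Matrix.charpoly_natDegree_eq_dim, Fintype.card_sum, Fintype.card_fin, two_mul]
  have hpal : ∀ a, Pal (pal a) := fun a =>
    pal_of_coeff (Matrix.charpoly_monic _) (pdeg a) (H54.SympSS.coeff_charpoly_reciprocal p (g a))
  have hach : ∀ (a : Fin n → F) (c : Fin 2), ∃ x : ↥(Cfsg.isometryGroup F (⇑Q)),
      (((x : GL ι F) : Matrix ι ι F)).charpoly = (Polynomial.X - Polynomial.C (cs c)) * pal a := by
    intro a c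
    obtain ⟨d, hd, hdd⟩ : ∃ d : F, d ≠ 0 ∧
        ((pal a).eval 1 * (pal a).eval (-1) ≠ 0 → d = (pal a).eval 1 * (pal a).eval (-1)) := by
      by_cases h : (pal a).eval 1 * (pal a).eval (-1) = 0
      · exact ⟨1, one_ne_zero, fun h' => absurd h h'⟩
      · exact ⟨_, h, fun _ => rfl⟩
    obtain ⟨H, A, hH, hHd, hA, hAc⟩ := ((exists_realized p n (hpal a) (pdeg a) h2 d hd hdd).extend_one (cs_sq c)).reindex
      (Fintype.equivOfCardEq (β := ι) (by simp [hdim]; omega))
    have hd₀ : (H58.FormClass.gram Q).det ≠ 0 := H58.FormClass.gram_det hQ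
    have hc := (H58.FormClass.congr_odd h2 hH (hHd ▸ hd) hdim).trans
      (H58.FormClass.congr_odd h2 (H58.FormClass.gram_transpose Q) hd₀ hdim).symm
    obtain ⟨A', hA', hA'c⟩ := exists_isometry_of_congr hc hA
    have hdet : A'.det ≠ 0 := fun h0 => by
      have := congrArg Matrix.det hA'
      rw [det_mul, h0, mul_zero] at this
      exact hd₀ this.symm
    exact ⟨⟨Matrix.GeneralLinearGroup.mkOfDetNeZero A' hdet, (isometry_gram Q h2 _).2 hA'⟩, hA'c.trans hAc⟩
  choose x hx using hach
  have hinj : Function.Injective fun ac : (Fin n → F) × Fin 2 => ConjClasses.mk (x ac.1 ac.2) := by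
    rintro ⟨a, c⟩ ⟨a', c'⟩ h
    obtain ⟨z, hz⟩ := isConj_iff.1 (ConjClasses.mk_eq_mk_iff_isConj.1 h)
    have h1 : (Polynomial.X - Polynomial.C (cs c : F)) * pal a = (Polynomial.X - Polynomial.C (cs c')) * pal a' := by
      rw [← hx a c, ← hx a' c', ← hz]
      simp [Matrix.coe_units_inv, Matrix.charpoly_units_conj]
    have hrev : ∀ d : F, d * d = 1 →
        (Polynomial.X - Polynomial.C d).reverse = Polynomial.C (-d) * (Polynomial.X - Polynomial.C d) := by
      intro d hd
      have hd0 : d ≠ 0 := left_ne_zero_of_mul_eq_one hd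
      have h1 := star'_X_sub_C hd0
      rw [inv_eq_of_mul_eq_one_left hd] at h1
      conv_rhs => arg 2; rw [← h1, star']
      rw [← mul_assoc, ← Polynomial.C_mul]
      simp [hd0]
    obtain rfl : c = c' := by
      by_contra hne
      have hcs : (cs c : F) = -cs c' := by
        fin_cases c <;> fin_cases c' <;> first | exact absurd rfl hne | simp [cs]
      have h3 := congrArg Polynomial.reverse h1
      rw [reverse_mul_of_domain, reverse_mul_of_domain, (hpal a).2.1, (hpal a').2.1, hrev _ (cs_sq c),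
        hrev _ (cs_sq c'), mul_assoc, mul_assoc, ← h1, hcs, neg_neg, map_neg, neg_mul] at h3
      have h4 : (Polynomial.C ((2 : F) * cs c') * ((Polynomial.X - Polynomial.C (cs c : F)) * pal a)) = 0 := by
        rw [hcs, map_mul, map_neg, map_ofNat]; linear_combination h3
      have hne0 : Polynomial.C ((2 : F) * cs c') ≠ 0 :=
        Polynomial.C_ne_zero.2 (mul_ne_zero h2 (left_ne_zero_of_mul_eq_one (cs_sq c')))
      exact mul_ne_zero (X_sub_C_ne_zero _) (hpal a).1.ne_zero ((mul_eq_zero.1 h4).resolve_left hne0)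
    have h5 : pal a = pal a' := mul_left_cancel₀ (X_sub_C_ne_zero _) h1
    refine Prod.ext (funext fun j => ?_) rfl
    show a j = a' j
    rw [← hga a j, ← hga a' j]
    exact congrArg (fun f : F[X] => f.coeff ((j : ℕ) + 1)) h5
  have h := Nat.card_le_card_of_injective _ hinj
  rw [Nat.card_prod, Nat.card_fun, Nat.card_eq_fintype_card, Nat.card_eq_fintype_card, Nat.card_eq_fintype_card,
    Fintype.card_fin, Fintype.card_fin, mul_comm] at h
  exact h

/-- The lower bound for `Ω`. -/
theorem omega_lower (hodd : Odd (Fintype.card F)) (hn : 1 ≤ n) (hdim : Fintype.card ι = 2 * n + 1)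
    (Q : QuadraticForm F (ι → F)) (hQ : Cfsg.Agent.Orthogonal.Nondeg Q) :
    Fintype.card F ^ n ≤ 2 * Nat.card (ConjClasses ↥(Cfsg.Omega F (⇑Q))) := by
  have h2 := two_ne_zero_of_odd hodd
  haveI : Fintype ↥(Cfsg.isometryGroup F (⇑Q)) := Fintype.ofFinite _
  have h := (H77.le_kcard_subgroup (psi Q hQ h2).ker).1
  rw [psi_index Q hQ h2 hdim hn, classes_ker Q hQ h2 hdim] at h
  have := odd_lower hodd hdim Q hQ
  omega

end Cfsg.Agent.H7Class
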