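import Cfsg.Agent.H7Class.Star

/-!
# Keys, pieces and the splitting of a structure into pieces
-/

set_option autoImplicit false

namespace Cfsg.Agent.H7Class

open Polynomial

universe v

variable {F : Type*} [Field F] {ε : F}
  {V W : Type v} [AddCommGroup V] [Module F V] [AddCommGroup W] [Module F W]

/-- The data of a piece: a self-dual polynomial, an exponent and a sign. -/
structure Key (F : Type*) [Field F] where
  g : F[X]
  e : ℕ
  flag : Bool

/-- A pair of dual primes. -/
def KPair (k : Key F) (X : Str F ε V) : Prop :=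
  k.flag = false ∧ ∃ (f : F[X]) (v w : V), k.g = f * star' f ∧ Irreducible f ∧ f.Monic ∧ f.coeff 0 ≠ 0 ∧
    star' f ≠ f ∧ Gen2 X v w (f ^ k.e) (star' f ^ k.e) ∧
    (∀ h l, X.B (X.ev h v) (X.ev l v) = 0) ∧ ∀ h l, X.B (X.ev h w) (X.ev l w) = 0

/-- A self-dual prime of degree at least two. -/
def KSelf (k : Key F) (X : Str F ε V) : Prop :=
  k.flag = false ∧ Irreducible k.g ∧ k.g.Monic ∧ k.g.coeff 0 ≠ 0 ∧ 2 ≤ k.g.natDegree ∧ star' k.g = k.g ∧
    ∃ v : V, Gen1 X v (k.g ^ k.e)

/-- Two generators with alternating socle form. -/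
def KHyp (k : Key F) (X : Str F ε V) : Prop :=
  k.flag = false ∧ ∃ (c : F) (v w : V), k.g = (Polynomial.X - C c) ^ 2 ∧ c * c = 1 ∧
    ε * (-1) ^ (k.e - 1) = -1 ∧ Gen2 X v w ((Polynomial.X - C c) ^ k.e) ((Polynomial.X - C c) ^ k.e) ∧
    (∀ u, X.B (X.ev ((Polynomial.X - C c) ^ (k.e - 1)) u) u = 0) ∧
    X.B (X.ev ((Polynomial.X - C c) ^ (k.e - 1)) v) w ≠ 0

/-- One generator with a square class. -/
def KSgn (k : Key F) (X : Str F ε V) : Prop :=
  ∃ (c : F) (v : V), k.g = Polynomial.X - C c ∧ c * c = 1 ∧ ε * (-1) ^ (k.e - 1) = 1 ∧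
    Gen1 X v ((Polynomial.X - C c) ^ k.e) ∧
    X.B (X.ev ((Polynomial.X - C c) ^ (k.e - 1)) v) v ≠ 0 ∧
    (k.flag = true ↔ ¬ IsSquare (X.B (X.ev ((Polynomial.X - C c) ^ (k.e - 1)) v) v))

/-- The pieces. -/
def IsPiece (k : Key F) (X : Str F ε V) : Prop :=
  k.e ≠ 0 ∧ (KPair k X ∨ KSelf k X ∨ KHyp k X ∨ KSgn k X)

theorem ne_dual_pair {f : F[X]} (hm : f.Monic) (hi : Irreducible f) (h0 : f.coeff 0 ≠ 0) (hne : star' f ≠ f) :
    IsCoprime f (star' f) :=
  hi.coprime_iff_not_dvd.2 fun h => hne (eq_of_monic_of_associated (star'_monic h0) hm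
    ((hi.associated_of_dvd (irreducible_star' hi hm h0) h)).symm)

theorem not_irreducible_mul {f g : F[X]} (hf : Irreducible f) (hg : Irreducible g) : ¬ Irreducible (f * g) :=
  fun h => (h.isUnit_or_isUnit rfl).elim hf.not_isUnit hg.not_isUnit

theorem pair_ne_sq {f : F[X]} {c : F} (hm : f.Monic) (hi : Irreducible f) (h0 : f.coeff 0 ≠ 0)
    (hne : star' f ≠ f) : f * star' f ≠ (Polynomial.X - C c) ^ 2 := by
  intro h
  have hp := irreducible_X_sub_C c
  have h1 : f ∣ (Polynomial.X - C c) ^ 2 := ⟨_, h.symm⟩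
  have h2 : star' f ∣ (Polynomial.X - C c) ^ 2 := ⟨_, by rw [← h, mul_comm]⟩
  refine hne ((eq_of_monic_of_associated (star'_monic h0) (monic_X_sub_C c) ?_).trans
    (eq_of_monic_of_associated hm (monic_X_sub_C c) ?_).symm)
  · exact (irreducible_star' hi hm h0).associated_of_dvd hp ((irreducible_star' hi hm h0).prime.dvd_of_dvd_pow h2)
  · exact hi.associated_of_dvd hp (hi.prime.dvd_of_dvd_pow h1)

/-- Pieces of equal keys are isomorphic. -/
theorem iso_of_isPiece [Finite F] [FiniteDimensional F V] (h2 : (2 : F) ≠ 0) {k : Key F} {X : Str F ε V}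
    {Y : Str F ε W} (hX : IsPiece k X) (hY : IsPiece k Y) : Nonempty (Iso Y X) := by
  obtain ⟨he, hX⟩ := hX
  obtain ⟨-, hY⟩ := hY
  have hneg : (-1 : F) ≠ 1 := fun h => h2 (by linear_combination -h)
  rcases hX with ⟨-, f, v, w, hg, hi, hm, h0, hne, G, a1, a2⟩ | ⟨-, hi, hm, h0, hd, hs, v, G⟩ |
      ⟨-, c, v, w, hg, hc, hsign, G, a1, a2⟩ | ⟨c, v, hg, hc, hsign, G, a1, a2⟩ <;>
    rcases hY with ⟨-, f', v', w', hg', hi', hm', h0', hne', G', b1, b2⟩ | ⟨-, hi', hm', h0', hd', hs', v', G'⟩ |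
      ⟨-, c', v', w', hg', hc', hsign', G', b1, b2⟩ | ⟨c', v', hg', hc', hsign', G', b1, b2⟩
  · have hff : f' = f ∨ f' = star' f := by
      have h : f' ∣ f * star' f := ⟨_, hg.symm.trans hg'⟩
      rcases hi'.prime.dvd_or_dvd h with h | h
      · exact Or.inl (eq_of_monic_of_associated hm' hm (hi'.associated_of_dvd hi h))
      · exact Or.inr (eq_of_monic_of_associated hm' (star'_monic h0)
          (hi'.associated_of_dvd (irreducible_star' hi hm h0) h))
    rcases hff with rfl | rfl
    · exact iso_pair (ne_dual_pair hm hi h0 hne) G G' a1 a2 b1 b2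
    · rw [star'_star' hm h0] at G'
      exact iso_pair (ne_dual_pair hm hi h0 hne) G G'.swap a1 a2 b2 b1
  · exact absurd (hg ▸ hi') (not_irreducible_mul hi (irreducible_star' hi hm h0))
  · exact absurd (hg.symm.trans hg') (pair_ne_sq hm hi h0 hne)
  · exact absurd ((hg' ▸ irreducible_X_sub_C c' : Irreducible k.g)) (hg ▸ not_irreducible_mul hi (irreducible_star' hi hm h0))
  · exact absurd (hg' ▸ hi) (not_irreducible_mul hi' (irreducible_star' hi' hm' h0'))
  · exact iso_self h2 hi hd hs h0 he G G'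
  · exact absurd (hg' ▸ hi) (by rw [pow_two]; exact not_irreducible_mul (irreducible_X_sub_C c') (irreducible_X_sub_C c'))
  · rw [hg', natDegree_X_sub_C] at hd; omega
  · exact absurd (hg'.symm.trans hg) (pair_ne_sq hm' hi' h0' hne')
  · exact absurd (hg ▸ hi') (by rw [pow_two]; exact not_irreducible_mul (irreducible_X_sub_C c) (irreducible_X_sub_C c))
  · obtain rfl : c' = c := by
      have h1 := congrArg (fun p => p.eval c') (hg.symm.trans hg')
      simp only [eval_pow, eval_sub, eval_X, eval_C, sub_self] at h1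
      rw [zero_pow two_ne_zero] at h1
      exact sub_eq_zero.1 ((pow_eq_zero_iff two_ne_zero).1 h1)
    exact iso_hyp h2 he G G' a1 b1 a2 b2
  · rw [hsign] at hsign'; exact absurd hsign' hneg
  · exact absurd ((hg ▸ irreducible_X_sub_C c : Irreducible k.g)) (hg' ▸ not_irreducible_mul hi' (irreducible_star' hi' hm' h0'))
  · rw [hg, natDegree_X_sub_C] at hd'; omega
  · rw [hsign'] at hsign; exact absurd hsign hneg
  · obtain rfl : c' = c := by
      have h1 := congrArg (fun p => p.eval c') (hg.symm.trans hg')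
      simp only [eval_sub, eval_X, eval_C, sub_self] at h1
      exact sub_eq_zero.1 h1
    exact iso_sgn h2 he G G' a1 b1 (not_iff_not.1 (b2.symm.trans a2))

/-! ### Subspaces -/

/-- The span of one generator. -/
noncomputable def span1 (X : Str F ε V) (v : V) : Submodule F V := LinearMap.range (evalAt X v)

/-- The span of two generators. -/
noncomputable def span2 (X : Str F ε V) (v w : V) : Submodule F V :=
  LinearMap.range ((evalAt X v).coprod (evalAt X w))

theorem mem_span1 {X : Str F ε V} {v u : V} : u ∈ span1 X v ↔ ∃ h, X.ev h v = u := Iff.rfl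

theorem mem_span2 {X : Str F ε V} {v w u : V} : u ∈ span2 X v w ↔ ∃ h l, X.ev h v + X.ev l w = u :=
  ⟨fun ⟨p, hp⟩ => ⟨p.1, p.2, hp⟩, fun ⟨h, l, e⟩ => ⟨(h, l), e⟩⟩

theorem span1_inv (X : Str F ε V) (v : V) (h : F[X]) {u : V} (hu : u ∈ span1 X v) : X.ev h u ∈ span1 X v := by
  obtain ⟨l, rfl⟩ := mem_span1.1 hu
  exact mem_span1.2 ⟨h * l, X.ev_mul h l v⟩

theorem span2_inv (X : Str F ε V) (v w : V) (h : F[X]) {u : V} (hu : u ∈ span2 X v w) :
    X.ev h u ∈ span2 X v w := by
  obtain ⟨l, m, rfl⟩ := mem_span2.1 hu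
  exact mem_span2.2 ⟨h * l, h * m, by rw [map_add, X.ev_mul, X.ev_mul]⟩

theorem Str.restrict_ev [FiniteDimensional F V] (X : Str F ε V) (Z : Submodule F V) (hT : ∀ v ∈ Z, X.T v ∈ Z)
    (hnd : ∀ u ∈ Z, (∀ v ∈ Z, X.B u v = 0) → u = 0) (h : F[X]) (u : Z) :
    ((X.restrict Z hT hnd).ev h u : V) = X.ev h u := by
  induction h using Polynomial.induction_on generalizing u with
  | C c => rw [Str.ev_C, X.ev_C]; rfl
  | add p q hp hq => rw [Str.ev_add, X.ev_add, Submodule.coe_add, hp, hq]
  | monomial n c ih =>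
    rw [pow_succ, ← mul_assoc, Str.ev_mul, ih, X.ev_mul (C c * _) _ _, Str.ev_X, X.ev_X]
    rfl

/-- A non-degenerate invariant subspace is a summand. -/
theorem exists_complement [FiniteDimensional F V] (X : Str F ε V) (Z : Submodule F V) (hT : ∀ v ∈ Z, X.T v ∈ Z)
    (hnd : ∀ u ∈ Z, (∀ v ∈ Z, X.B u v = 0) → u = 0) :
    ∃ (W' : Submodule F V) (Y : Str F ε W'), Module.finrank F Z + Module.finrank F W' = Module.finrank F V ∧
      Nonempty (Iso X ((X.restrict Z hT hnd).prod Y)) := by
  set Wc := LinearMap.BilinForm.orthogonal X.B Z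
  have href : LinearMap.IsRefl X.B := fun u v h => X.sym_zero h
  have hres : (X.B.restrict Z).Nondegenerate :=
    ⟨fun u h => Subtype.ext (hnd u u.2 fun v hv => h ⟨v, hv⟩),
      fun u h => Subtype.ext (hnd u u.2 fun v hv => X.sym_zero (h ⟨v, hv⟩))⟩
  have hcompl : IsCompl Z Wc := LinearMap.BilinForm.isCompl_orthogonal_of_restrict_nondegenerate href hres
  have hWT : ∀ v ∈ Wc, X.T v ∈ Wc := by
    intro v hv z hz
    have hsurj : ∃ z' ∈ Z, X.T z' = z := by
      obtain ⟨z', hz'⟩ := (X.restrict Z hT hnd).T.surjective ⟨z, hz⟩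
      exact ⟨z', z'.2, congrArg Subtype.val hz'⟩
    obtain ⟨z', hz', rfl⟩ := hsurj
    show X.B (X.T z') (X.T v) = 0
    rw [X.inv]; exact hv z' hz'
  have hWnd : ∀ u ∈ Wc, (∀ v ∈ Wc, X.B u v = 0) → u = 0 := by
    intro u hu h
    refine X.nd u fun x => ?_
    obtain ⟨z, hz, w, hw, rfl⟩ := Submodule.mem_sup.1 (hcompl.sup_eq_top.symm ▸ Submodule.mem_top (x := x))
    rw [map_add, X.sym_zero (hu z hz), h w hw, add_zero]
  refine ⟨Wc, X.restrict Wc hWT hWnd, ?_, ⟨Iso.symm ?_⟩⟩
  · exact Submodule.finrank_add_eq_of_isCompl hcompl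
  · exact
      { e := Submodule.prodEquivOfIsCompl Z Wc hcompl
        map_T := fun u => by
          simp [Submodule.coe_prodEquivOfIsCompl', Str.prod_T]
          rfl
        map_B := fun u u' => by
          simp only [Submodule.coe_prodEquivOfIsCompl', Str.prod_B]
          show X.B ((u.1 : V) + u.2) (u'.1 + u'.2) = X.B (u.1 : V) u'.1 + X.B (u.2 : V) u'.2
          have h1 : X.B (u.1 : V) (u'.2 : V) = 0 := u'.2.2 u.1 u.1.2
          have h2 : X.B (u.2 : V) (u'.1 : V) = 0 := X.sym_zero (u.2.2 u'.1 u'.1.2)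
          rw [map_add, map_add, LinearMap.add_apply, LinearMap.add_apply, h1, h2]
          ring }

/-! ### The splitting -/

variable [Finite F]

/-- On the socle the adjoint of a power of `X ∓ 1` acts by a sign. -/
theorem evi_socle [FiniteDimensional F V] [Finite V] (X : Str F ε V) {c : F} (hc : c * c = 1) :
    ∀ (n : ℕ) (z : V), X.ev (Polynomial.X - C c) (X.ev ((Polynomial.X - C c) ^ n) z) = 0 →
      X.evi ((Polynomial.X - C c) ^ n) z = (-1 : F) ^ n • X.ev ((Polynomial.X - C c) ^ n) z := by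
  intro n
  induction n with
  | zero => intro z _; simp [Str.evi, Str.ev]
  | succ n ih =>
    intro z hz
    have hTi : ∀ y, X.evi (Polynomial.X - C c) y = -c • X.T.symm (X.ev (Polynomial.X - C c) y) := by
      intro y
      simp [Str.evi, Str.ev, Module.algebraMap_end_apply, smul_sub, smul_smul, hc]
      abel
    have hz' : X.ev (Polynomial.X - C c) (X.ev ((Polynomial.X - C c) ^ n)
        (X.ev (Polynomial.X - C c) z)) = 0 := by
      rw [← X.ev_mul ((Polynomial.X - C c) ^ n), ← pow_succ]; exact hz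
    have e1 : X.evi ((Polynomial.X - C c) ^ (n + 1)) z =
        X.evi (Polynomial.X - C c) (X.evi ((Polynomial.X - C c) ^ n) z) := by
      rw [Str.evi, pow_succ', map_mul, Module.End.mul_apply]; rfl
    have e2 : ∀ (p q : F[X]) y, X.evi p (X.ev q y) = X.ev q (X.evi p y) := by
      intro p q y
      rw [← X.ev_adjPoly, X.ev_comm]
    rw [e1, hTi, ← e2, ih _ hz', ← X.ev_mul, ← pow_succ]
    set y := X.ev ((Polynomial.X - C c) ^ (n + 1)) z with hy
    have hTy : X.T y = c • y := by
      have : X.ev (Polynomial.X - C c) y = 0 := hz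
      rwa [X.ev_sub, X.ev_X, X.ev_C, sub_eq_zero] at this
    have hTsy : X.T.symm y = c • y := by
      rw [LinearEquiv.symm_apply_eq, map_smul, hTy, smul_smul, hc, one_smul]
    rw [map_smul, hTsy, pow_succ' (-1 : F)]
    simp only [smul_smul]
    congr 1
    linear_combination -((-1 : F) ^ n) * hc

theorem exists_split' [FiniteDimensional F V] [Nontrivial V] (hε : ε = 1 ∨ ε = -1)
    (X : Str F ε V) : ∃ (k : Key F) (Z : Submodule F V) (hT : ∀ v ∈ Z, X.T v ∈ Z)
      (hnd : ∀ u ∈ Z, (∀ v ∈ Z, X.B u v = 0) → u = 0), Z ≠ ⊥ ∧ IsPiece k (X.restrict Z hT hnd) := by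
  classical
  haveI : Finite V := Module.finite_of_finite F
  set μ := minpoly F (X.T : Module.End F V)
  have hint : IsIntegral F (X.T : Module.End F V) := Algebra.IsIntegral.isIntegral _
  have hμ0 : μ ≠ 0 := minpoly.ne_zero hint
  obtain ⟨f, hm, hi, hfμ⟩ := exists_monic_irreducible_factor μ (minpoly.not_isUnit F _)
  have h0 : f.coeff 0 ≠ 0 := coeff_zero_of_dvd hfμ X.minpoly_coeff_zero
  obtain ⟨e, m, hfm, hem⟩ := WfDvdMonoid.max_power_factor hμ0 hi
  have he : e ≠ 0 := by
    rintro rfl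
    rw [pow_zero, one_mul] at hem
    exact hfm (hem ▸ hfμ)
  obtain ⟨e', rfl⟩ : ∃ e', e = e' + 1 := ⟨e - 1, by omega⟩
  set s := f ^ e'
  have hse : f * s = f ^ (e' + 1) := (pow_succ' f e').symm
  obtain ⟨v0, hv0⟩ : ∃ v0, X.ev (s * m) v0 ≠ 0 := by
    by_contra h
    push Not at h
    have h1 : μ ∣ s * m := minpoly.dvd F _ (LinearMap.ext h)
    have hm0 : m ≠ 0 := fun hm0 => hμ0 (by rw [hem, hm0, mul_zero])
    rw [hem, ← hse, mul_assoc] at h1
    have := natDegree_le_of_dvd h1 (mul_ne_zero (pow_ne_zero _ hi.ne_zero) hm0)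
    rw [natDegree_mul hi.ne_zero (mul_ne_zero (pow_ne_zero _ hi.ne_zero) hm0)] at this
    have := hi.natDegree_pos
    have h' : f.natDegree + (s * m).natDegree ≤ (s * m).natDegree := ‹_›
    omega
  have hkill : ∀ x, X.ev (f ^ (e' + 1) * m) x = 0 := fun x => by rw [← hem]; exact X.ev_minpoly x
  set f' := star' f with hf'def
  have hm' : f'.Monic := star'_monic h0
  have hi' : Irreducible f' := irreducible_star' hi hm h0
  have hf'0 : f'.coeff 0 ≠ 0 := by
    rw [hf'def, coeff_zero_star', hm.leadingCoeff, mul_one]; exact inv_ne_zero h0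
  have hf'' : star' f' = f := star'_star' hm h0
  have hμ' : μ = f' ^ (e' + 1) * star' m := by
    have h := X.star'_minpoly
    change star' μ = μ at h
    rw [← h, hem, star'_mul, star'_pow]
  obtain ⟨v, hv, hsv⟩ : ∃ v, X.ev (f ^ (e' + 1)) v = 0 ∧ X.ev s v ≠ 0 :=
    ⟨X.ev m v0, by rw [← X.ev_mul]; exact hkill v0, by rw [← X.ev_mul]; exact hv0⟩
  by_cases hself : f' = f
  swap
  · -- a pair of dual primes
    have hannv := X.ann_iff (e := e' + 1) hi e'.succ_ne_zero hv (by simpa using hsv)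
    have hcop' : IsCoprime (f' ^ (e' + 1)) (star' m) := (hi'.coprime_iff_not_dvd.2 fun h => hfm (by
      have hm0' : m.coeff 0 ≠ 0 := by
        have := X.minpoly_coeff_zero
        rw [show minpoly F (X.T : Module.End F V) = μ from rfl, hem, mul_coeff_zero] at this
        exact right_ne_zero_of_mul this
      have := star'_dvd h
      rw [hf'', star', coeff_zero_star', star', reverse_mul_of_domain, reverse_C, ← mul_assoc, ← C_mul,
        Polynomial.reverse, Polynomial.reverse] at this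
      have hnd : (reflect m.natDegree m).natDegree = m.natDegree := by
        have := reverse_natDegree m
        rwa [natTrailingDegree_eq_zero.2 (Or.inr hm0'), Nat.sub_zero] at this
      rw [hnd, reflect_reflect] at this
      refine ((isUnit_C.2 (isUnit_iff_ne_zero.2 ?_)).dvd_mul_left).1 this
      have : m.leadingCoeff ≠ 0 := leadingCoeff_ne_zero.2 fun h => hm0' (by rw [h, coeff_zero])
      positivity)).pow_left
    obtain ⟨w0, hw0⟩ : ∃ w0, X.B (X.ev s v) w0 ≠ 0 := by
      by_contra h; push Not at h; exact hsv (X.nd _ h)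
    obtain ⟨α, β, hab⟩ := hcop'
    have hsv' : X.ev (star' (f' ^ (e' + 1))) (X.ev s v) = 0 := by
      rw [star'_pow, hf'', ← X.ev_mul, mul_comm, X.ev_mul, hv, map_zero]
    obtain ⟨w, hw, hβ⟩ : ∃ w, X.ev (f' ^ (e' + 1)) w = 0 ∧ X.B (X.ev s v) w ≠ 0 := by
      refine ⟨X.ev (β * star' m) w0, ?_, fun h => hw0 ?_⟩
      · rw [← X.ev_mul, mul_left_comm, ← hμ', X.ev_mul, X.ev_minpoly, map_zero]
      have e1 : w0 = X.ev (f' ^ (e' + 1)) (X.ev α w0) + X.ev (β * star' m) w0 := by
        rw [← X.ev_mul, ← X.ev_add, mul_comm, hab, X.ev_one]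
      have hp0 : (f' ^ (e' + 1)).coeff 0 ≠ 0 := by
        rw [coeff_zero_eq_eval_zero, eval_pow, ← coeff_zero_eq_eval_zero]; exact pow_ne_zero _ hf'0
      rw [e1, map_add, h, add_zero]
      exact X.sym_zero (X.orth hp0 hsv' _)
    have htw : X.ev (f' ^ e') w ≠ 0 := by
      intro h
      apply hβ
      have hp0 : (f ^ e').coeff 0 ≠ 0 := by
        rw [coeff_zero_eq_eval_zero, eval_pow, ← coeff_zero_eq_eval_zero]; exact pow_ne_zero _ h0
      exact X.orth hp0 (by rw [star'_pow]; exact h) v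
    have hannw := X.ann_iff (e := e' + 1) hi' e'.succ_ne_zero hw (by simpa using htw)
    have hcop : IsCoprime (f ^ (e' + 1)) (f' ^ (e' + 1)) := (ne_dual_pair hm hi h0 hself).pow
    have hind : ∀ h l, X.ev h v + X.ev l w = 0 → f ^ (e' + 1) ∣ h ∧ f' ^ (e' + 1) ∣ l := by
      intro h l hl
      have h1 : X.ev (f' ^ (e' + 1) * h) v = 0 := by
        have := congrArg (X.ev (f' ^ (e' + 1))) hl
        rw [map_add, map_zero, ← X.ev_mul, ← X.ev_mul, (hannw _).2 (dvd_mul_right _ _), add_zero] at this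
        exact this
      have h3 := hcop.dvd_of_dvd_mul_left ((hannv _).1 h1)
      rw [(hannv h).2 h3, zero_add] at hl
      exact ⟨h3, (hannw _).1 hl⟩
    have iso_v : ∀ h l, X.B (X.ev h v) (X.ev l v) = 0 := by
      intro h l
      obtain ⟨α', β', hab'⟩ := hcop
      have e1 : X.ev l v = X.ev (f' ^ (e' + 1)) (X.ev (β' * l) v) := by
        rw [← X.ev_mul, ← sub_eq_zero, ← X.ev_sub, hannv]
        exact ⟨α' * l, by linear_combination -l * hab'⟩
      have hp0 : (f' ^ (e' + 1)).coeff 0 ≠ 0 := by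
        rw [coeff_zero_eq_eval_zero, eval_pow, ← coeff_zero_eq_eval_zero]; exact pow_ne_zero _ hf'0
      rw [e1]
      exact X.sym_zero (X.orth hp0 (by rw [star'_pow, hf'', ← X.ev_mul]; exact (hannv _).2 (dvd_mul_right _ _)) _)
    have iso_w : ∀ h l, X.B (X.ev h w) (X.ev l w) = 0 := by
      intro h l
      obtain ⟨α', β', hab'⟩ := hcop
      have e1 : X.ev l w = X.ev (f ^ (e' + 1)) (X.ev (α' * l) w) := by
        rw [← X.ev_mul, ← sub_eq_zero, ← X.ev_sub, hannw]
        exact ⟨β' * l, by linear_combination -l * hab'⟩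
      have hp0 : (f ^ (e' + 1)).coeff 0 ≠ 0 := by
        rw [coeff_zero_eq_eval_zero, eval_pow, ← coeff_zero_eq_eval_zero]; exact pow_ne_zero _ h0
      rw [e1]
      exact X.sym_zero (X.orth hp0 (by rw [star'_pow, ← X.ev_mul]; exact (hannw _).2 (dvd_mul_right _ _)) _)
    let Z := span2 X v w
    have hT : ∀ u ∈ Z, X.T u ∈ Z := fun u hu => by rw [← X.ev_X]; exact span2_inv X v w _ hu
    have hvZ : ∀ h, X.ev h v ∈ Z := fun h => mem_span2.2 ⟨h, 0, by rw [X.ev_zero, add_zero]⟩
    have hwZ : ∀ h, X.ev h w ∈ Z := fun h => mem_span2.2 ⟨0, h, by rw [X.ev_zero, zero_add]⟩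
    have hnd : ∀ u ∈ Z, (∀ z ∈ Z, X.B u z = 0) → u = 0 := by
      intro u hu hperp
      obtain ⟨h, l, rfl⟩ := mem_span2.1 hu
      have hh : X.ev h v = 0 := by
        by_contra hne
        obtain ⟨c, hc⟩ := X.socle hi e'.succ_ne_zero hv (by simpa using hsv) hne (q := s) (by rw [hse]; exact hv)
        apply hβ
        rw [← hc, X.adj']
        have := hperp _ (hwZ (X.adjPoly c))
        rwa [map_add, LinearMap.add_apply, iso_w, add_zero] at this
      rw [hh, zero_add] at hperp ⊢
      by_contra hne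
      -- a dual witness
      have hq : X.ev (f' * X.adjPoly s) w = 0 := by
        rw [mul_comm, X.ev_mul]
        refine X.nd' _ fun x => ?_
        rw [← X.adj', X.sym]
        have : X.B (X.ev f' w) (X.ev s x) = 0 := by
          have h4 : X.ev (star' s) (X.ev f' w) = 0 := by rw [star'_pow, ← X.ev_mul, ← pow_succ]; exact hw
          have hp0 : s.coeff 0 ≠ 0 := by
            show (f ^ e').coeff 0 ≠ 0
            rw [coeff_zero_eq_eval_zero, eval_pow, ← coeff_zero_eq_eval_zero]; exact pow_ne_zero _ h0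
          exact X.sym_zero (X.orth hp0 h4 x)
        rw [this, mul_zero]
      obtain ⟨c, hc⟩ := X.socle hi' e'.succ_ne_zero hw (by simpa using htw) hne hq
      apply hβ
      rw [X.adj', ← hc]
      apply X.sym_zero
      rw [X.adj']
      exact hperp _ (hvZ _)
    refine ⟨⟨f * f', e' + 1, false⟩, Z, hT, hnd, ?_, e'.succ_ne_zero, Or.inl ⟨rfl, f,
      ⟨v, mem_span2.2 ⟨1, 0, by rw [X.ev_one, X.ev_zero, add_zero]⟩⟩,
      ⟨w, mem_span2.2 ⟨0, 1, by rw [X.ev_one, X.ev_zero, zero_add]⟩⟩, rfl, hi, hm, h0, hself, ⟨fun u => ?_,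
        fun h l => ?_⟩, fun h l => ?_, fun h l => ?_⟩⟩
    · intro hbot
      have : X.ev s v = 0 := (Submodule.mem_bot F).1 (hbot ▸ hvZ s)
      exact hsv this
    · obtain ⟨h, l, e1⟩ := mem_span2.1 u.2
      exact ⟨h, l, Subtype.ext (by rw [Submodule.coe_add, Str.restrict_ev, Str.restrict_ev]; exact e1)⟩
    · rw [← Subtype.coe_inj, Submodule.coe_add, Str.restrict_ev, Str.restrict_ev, Submodule.coe_zero]
      exact ⟨hind h l, fun hd => by rw [(hannv _).2 hd.1, (hannw _).2 hd.2, add_zero]⟩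
    · show X.B ((X.restrict Z hT hnd).ev h _ : V) ((X.restrict Z hT hnd).ev l _ : V) = 0
      rw [Str.restrict_ev, Str.restrict_ev]; exact iso_v h l
    · show X.B ((X.restrict Z hT hnd).ev h _ : V) ((X.restrict Z hT hnd).ev l _ : V) = 0
      rw [Str.restrict_ev, Str.restrict_ev]; exact iso_w h l
  -- self-dual prime
  have hcop : IsCoprime (f ^ (e' + 1)) m := (hi.coprime_iff_not_dvd.2 hfm).pow_left
  obtain ⟨α, β, hab⟩ := hcop
  have hp0 : ∀ n, (f ^ n).coeff 0 ≠ 0 := fun n => by
    rw [coeff_zero_eq_eval_zero, eval_pow, ← coeff_zero_eq_eval_zero]; exact pow_ne_zero _ h0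
  -- projection to the primary part
  have proj : ∀ (z x : V), X.ev f z = 0 →
      X.ev (f ^ (e' + 1)) (X.ev (β * m) x) = 0 ∧ X.B z x = X.B z (X.ev (β * m) x) := by
    intro z x hz
    refine ⟨by rw [← X.ev_mul, mul_left_comm, X.ev_mul, hkill, map_zero], ?_⟩
    have e1 : x = X.ev (f ^ (e' + 1)) (X.ev α x) + X.ev (β * m) x := by
      rw [← X.ev_mul, ← X.ev_add, mul_comm, hab, X.ev_one]
    conv_lhs => rw [e1, map_add]
    rw [X.sym_zero (X.orth (hp0 _) (by rw [star'_pow, ← hf'def, hself, pow_succ, X.ev_mul, hz, map_zero]) _),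
      zero_add]
  by_cases hex : ∃ (h : F[X]) (u : V), X.ev (f ^ (e' + 1)) u = 0 ∧ X.B (X.ev (s * h) u) u ≠ 0
  · obtain ⟨h, u, hu, hhu⟩ := hex
    have hsu : X.ev s u ≠ 0 := fun h' => hhu (by rw [mul_comm, X.ev_mul, h', map_zero, map_zero,
      LinearMap.zero_apply])
    have hann := X.ann_iff (e := e' + 1) hi e'.succ_ne_zero hu (by simpa using hsu)
    let Z := span1 X u
    have hT : ∀ z ∈ Z, X.T z ∈ Z := fun z hz => by rw [← X.ev_X]; exact span1_inv X u _ hz
    have hnd : ∀ z ∈ Z, (∀ z' ∈ Z, X.B z z' = 0) → z = 0 := by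
      intro z hz hperp
      obtain ⟨l, rfl⟩ := mem_span1.1 hz
      by_contra hne
      obtain ⟨c, hc⟩ := X.socle hi e'.succ_ne_zero hu (by simpa using hsu) hne (q := s * h)
        (by rw [← mul_assoc, hse, mul_comm, X.ev_mul, hu, map_zero])
      apply hhu
      rw [← hc, X.adj']
      exact hperp _ (mem_span1.2 ⟨_, rfl⟩)
    have huZ : u ∈ Z := mem_span1.2 ⟨1, X.ev_one u⟩
    have hne : Z ≠ ⊥ := fun hbot => hsu (by
      rw [(Submodule.mem_bot F).1 (show u ∈ (⊥ : Submodule F V) from hbot ▸ huZ), map_zero])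
    have G : Gen1 (X.restrict Z hT hnd) ⟨u, huZ⟩ (f ^ (e' + 1)) := by
      refine ⟨fun z => ?_, fun l => ?_⟩
      · obtain ⟨l, e1⟩ := mem_span1.1 z.2
        exact ⟨l, Subtype.ext (by rw [Str.restrict_ev]; exact e1)⟩
      · rw [← Subtype.coe_inj, Str.restrict_ev, Submodule.coe_zero]
        exact hann l
    by_cases hd : 2 ≤ f.natDegree
    · exact ⟨⟨f, e' + 1, false⟩, Z, hT, hnd, hne, e'.succ_ne_zero,
        Or.inr (Or.inl ⟨rfl, hi, hm, h0, hd, hself, _, G⟩)⟩
    obtain ⟨c, rfl⟩ : ∃ c, f = Polynomial.X - C c := by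
      have h1 : f.natDegree = 1 := le_antisymm (by omega) hi.natDegree_pos
      refine ⟨-f.coeff 0, ?_⟩
      rw [map_neg, sub_neg_eq_add]
      exact hm.eq_X_add_C h1
    have hc : c * c = 1 := by
      have hc0 : c ≠ 0 := by simpa using h0
      have := congrArg (fun p => p.coeff 0) ((star'_X_sub_C hc0).symm.trans hself)
      simp at this
      field_simp at this
      linear_combination -this
    have hs1 : ∀ z, X.ev ((Polynomial.X - C c) ^ (e' + 1)) z = 0 →
        ∀ g, X.ev (s * g) z = g.eval c • X.ev s z := by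
      intro z hz g
      obtain ⟨d, hd'⟩ : Polynomial.X - C c ∣ g - C (g.eval c) := X_sub_C_dvd_sub_C_eval
      rw [← X.ev_C, ← X.ev_mul, ← sub_eq_zero, ← X.ev_sub]
      refine X.ev_eq_zero_of_dvd ⟨d, ?_⟩ hz
      rw [← hse]
      linear_combination s * hd'
    have hsq : X.B (X.ev s u) u ≠ 0 := fun h' => hhu (by
      rw [hs1 u hu, map_smul, LinearMap.smul_apply, h', smul_zero])
    have hsign : ε * (-1) ^ e' = 1 := by
      have hflip : X.B (X.ev s u) u = ε * (-1) ^ e' * X.B (X.ev s u) u := by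
        conv_lhs => rw [X.sym, X.adjPoly_right, X.ev_adjPoly]
        rw [mul_assoc]
        congr 1
        rw [evi_socle X hc e' u (by rw [← X.ev_mul, hse]; exact hu), map_smul, LinearMap.smul_apply, smul_eq_mul]
      have : (ε * (-1) ^ e' - 1) * X.B (X.ev s u) u = 0 := by linear_combination -hflip
      exact sub_eq_zero.1 ((mul_eq_zero.1 this).resolve_right hsq)
    have hB : (X.restrict Z hT hnd).B ((X.restrict Z hT hnd).ev s ⟨u, huZ⟩) ⟨u, huZ⟩ = X.B (X.ev s u) u := by
      show X.B ((X.restrict Z hT hnd).ev s _ : V) u = _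
      rw [Str.restrict_ev]
    refine ⟨⟨Polynomial.X - C c, e' + 1, decide (¬ IsSquare (X.B (X.ev s u) u))⟩, Z, hT, hnd, hne,
      e'.succ_ne_zero, Or.inr (Or.inr (Or.inr ⟨c, _, rfl, hc, ?_, G, ?_, ?_⟩))⟩
    · simpa using hsign
    · simp only [Nat.add_sub_cancel]; rw [hB]; exact hsq
    · simp only [Nat.add_sub_cancel]; rw [hB, decide_eq_true_iff]
  · push Not at hex
    -- the socle form is alternating
    have hdvd : ∀ h, f ^ (e' + 1) ∣ s * h + C ε * X.adjPoly (s * h) := by
      intro h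
      refine (X.ann_iff (e := e' + 1) hi e'.succ_ne_zero hv (by simpa using hsv) _).1 ?_
      refine X.nd _ fun x => ?_
      have hfk : X.ev f (X.ev (s * h + C ε * X.adjPoly (s * h)) v) = 0 := by
        have h1 : X.ev f (X.ev (s * h) v) = 0 := by
          rw [← X.ev_mul, ← mul_assoc, hse, mul_comm, X.ev_mul, hv, map_zero]
        have h3 : X.ev f (X.ev (X.adjPoly (s * h)) v) = 0 := by
          refine X.nd' _ fun y => ?_
          have h4 : X.ev (star' s) (X.ev f v) = 0 := by
            rw [star'_pow, ← hf'def, hself, ← X.ev_mul, ← pow_succ]; exact hv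
          rw [X.ev_comm, ← X.adj', mul_comm, X.ev_mul, X.ev_comm, X.orth (hp0 _) h4]
        rw [X.ev_add, map_add, h1, zero_add, X.ev_mul, X.ev_C, map_smul, h3, smul_zero]
      obtain ⟨hyU, hyx⟩ := proj _ x hfk
      rw [hyx]
      set y := X.ev (β * m) x
      have hpol := hex h (v + y) (by rw [map_add, hv, hyU, add_zero])
      simp only [map_add, LinearMap.add_apply, hex h v hv, hex h y hyU, zero_add, add_zero] at hpol
      rw [X.ev_add, X.ev_mul (C ε), X.ev_C, map_add, map_smul, LinearMap.add_apply, LinearMap.smul_apply,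
        smul_eq_mul]
      rw [X.sym (X.ev (s * h) y) v, X.adjPoly_right] at hpol
      linear_combination hpol
    have hεsq : ε * ε = 1 := by rcases hε with rfl | rfl <;> ring
    have hfix : ∀ h, f ∣ h - X.adjPoly h := by
      intro h
      have h1 := hdvd h
      have h3 := (hdvd 1).mul_left (X.adjPoly h)
      rw [mul_one] at h3
      have hadj : X.adjPoly (s * h) = X.adjPoly s * X.adjPoly h := by simp [Str.adjPoly]
      rw [hadj] at h1
      have h4 := dvd_sub h1 h3
      rw [show s * h + C ε * (X.adjPoly s * X.adjPoly h) - X.adjPoly h * (s + C ε * X.adjPoly s)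
        = s * (h - X.adjPoly h) by ring, ← hse, mul_comm f] at h4
      exact (mul_dvd_mul_iff_left (pow_ne_zero _ hi.ne_zero)).1 h4
    obtain ⟨c, rfl⟩ : ∃ c, f = Polynomial.X - C c := by
      have h1 : f ∣ (Polynomial.X - C 1) * (Polynomial.X + C 1) := by
        have ha : f ∣ Polynomial.X ^ (X.invExp + 1) - 1 := by
          have := (X.ann_iff (e := e' + 1) hi e'.succ_ne_zero hv (by simpa using hsv) (Polynomial.X ^ (X.invExp + 1) - 1)).1
            (by rw [X.ev_sub, X.ev_order, X.ev_one, sub_self])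
          exact (dvd_pow_self f e'.succ_ne_zero).trans this
        have hb := (hfix Polynomial.X).mul_left Polynomial.X
        simp only [Str.adjPoly, X_comp] at hb
        have := dvd_add hb ha
        rw [show (Polynomial.X : F[X]) * (Polynomial.X - Polynomial.X ^ X.invExp) + (Polynomial.X ^ (X.invExp + 1) - 1)
          = (Polynomial.X - C 1) * (Polynomial.X + C 1) by rw [C_1]; ring] at this
        exact this
      rcases hi.prime.dvd_or_dvd h1 with h | h
      · exact ⟨1, eq_of_monic_of_associated hm (monic_X_sub_C 1) (hi.associated_of_dvd (irreducible_X_sub_C 1) h)⟩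
      · refine ⟨-1, eq_of_monic_of_associated hm (monic_X_sub_C _) ?_⟩
        rw [map_neg, sub_neg_eq_add]
        refine hi.associated_of_dvd ?_ h
        rw [← sub_neg_eq_add, ← map_neg]; exact irreducible_X_sub_C _
    have hc : c * c = 1 := by
      have hc0 : c ≠ 0 := by simpa using h0
      have := congrArg (fun p => p.coeff 0) ((star'_X_sub_C hc0).symm.trans hself)
      simp at this
      field_simp at this
      linear_combination -this
    have hsign : ε * (-1) ^ e' = -1 := by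
      have h1 : X.ev (s * 1 + C ε * X.adjPoly (s * 1)) v = 0 :=
        X.ev_eq_zero_of_dvd (hdvd 1) hv
      rw [mul_one, X.ev_add, X.ev_mul, X.ev_C, X.ev_adjPoly,
        evi_socle X hc e' v (by rw [← X.ev_mul, hse]; exact hv), smul_smul] at h1
      have h3 : (1 + ε * (-1) ^ e') • X.ev s v = 0 := by rw [add_smul, one_smul]; exact h1
      linear_combination (smul_eq_zero.1 h3).resolve_right hsv
    have halt : ∀ u, X.ev ((Polynomial.X - C c) ^ (e' + 1)) u = 0 → X.B (X.ev s u) u = 0 := by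
      intro u hu
      have := hex 1 u hu
      rwa [mul_one] at this
    obtain ⟨w0, hw0⟩ : ∃ w0, X.B (X.ev s v) w0 ≠ 0 := by
      by_contra h; push Not at h; exact hsv (X.nd _ h)
    obtain ⟨hwU', hwx⟩ := proj (X.ev s v) w0 (by rw [← X.ev_mul, hse]; exact hv)
    rw [hwx] at hw0
    obtain ⟨w, hwU, hw0⟩ : ∃ w, X.ev ((Polynomial.X - C c) ^ (e' + 1)) w = 0 ∧ X.B (X.ev s v) w ≠ 0 :=
      ⟨_, hwU', hw0⟩
    have hsw : X.B (X.ev s w) v = -X.B (X.ev s v) w := by
      have := halt (v + w) (by rw [map_add, hv, hwU, add_zero])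
      simp only [map_add, LinearMap.add_apply, halt v hv, halt w hwU, zero_add, add_zero] at this
      exact eq_neg_of_add_eq_zero_left this
    have hsw0 : X.ev s w ≠ 0 := fun h => by
      rw [h, map_zero, LinearMap.zero_apply] at hsw
      exact hw0 (neg_eq_zero.1 hsw.symm)
    have hannv := X.ann_iff (e := e' + 1) hi e'.succ_ne_zero hv (by simpa using hsv)
    have hannw := X.ann_iff (e := e' + 1) hi e'.succ_ne_zero hwU (by simpa using hsw0)
    have hs1 : ∀ z, X.ev ((Polynomial.X - C c) ^ (e' + 1)) z = 0 →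
        ∀ g, X.ev (s * g) z = g.eval c • X.ev s z := by
      intro z hz g
      obtain ⟨d, hd'⟩ : Polynomial.X - C c ∣ g - C (g.eval c) := X_sub_C_dvd_sub_C_eval
      rw [← X.ev_C, ← X.ev_mul, ← sub_eq_zero, ← X.ev_sub]
      refine X.ev_eq_zero_of_dvd ⟨d, ?_⟩ hz
      rw [← hse]
      linear_combination s * hd'
    -- elements of the socle of the span
    have hsocle : ∀ p q, X.ev ((Polynomial.X - C c) * p) v + X.ev ((Polynomial.X - C c) * q) w = 0 →
        (∀ z ∈ span2 X v w, X.B (X.ev p v + X.ev q w) z = 0) →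
        X.ev p v + X.ev q w = 0 := by
      intro p q hpq hperp
      have hp : s ∣ p ∧ s ∣ q := by
        have hsum : X.ev (s * ((Polynomial.X - C c) * p)) v = 0 ∧
            X.ev (s * ((Polynomial.X - C c) * q)) w = 0 := by
          constructor <;> rw [← mul_assoc, mul_comm s, hse, mul_comm, X.ev_mul]
          · rw [hv, map_zero]
          · rw [hwU, map_zero]
        -- descend along the powers
        suffices ∀ i ≤ e', (Polynomial.X - C c) ^ i ∣ p ∧ (Polynomial.X - C c) ^ i ∣ q from this e' le_rfl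
        intro i
        induction i with
        | zero => intro _; simp
        | succ i ih =>
          intro hi'
          obtain ⟨⟨p₁, hp₁⟩, q₁, hq₁⟩ := ih (by omega)
          have h5 := congrArg (X.ev ((Polynomial.X - C c) ^ (e' - 1 - i))) hpq
          have hexp : ∀ r, (Polynomial.X - C c) ^ (e' - 1 - i) * ((Polynomial.X - C c) * ((Polynomial.X - C c) ^ i * r)) = s * r := by
            intro r
            rw [← mul_assoc, ← mul_assoc, ← pow_succ, ← pow_add]
            congr 2
            omega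
          rw [map_add, map_zero, ← X.ev_mul, ← X.ev_mul, hp₁, hq₁, hexp, hexp, hs1 v hv, hs1 w hwU] at h5
          have hp0' : p₁.eval c = 0 := by
            have := congrArg (fun z => X.B z w) h5
            simp only [map_add, map_smul, LinearMap.add_apply, LinearMap.smul_apply, map_zero, LinearMap.zero_apply,
              halt w hwU, mul_zero, add_zero, smul_eq_mul] at this
            exact (mul_eq_zero.1 this).resolve_right hw0
          have hq0' : q₁.eval c = 0 := by
            have := congrArg (fun z => X.B z v) h5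
            simp only [map_add, map_smul, LinearMap.add_apply, LinearMap.smul_apply, map_zero, LinearMap.zero_apply,
              halt v hv, mul_zero, zero_add, smul_eq_mul, hsw] at this
            exact (mul_eq_zero.1 this).resolve_right (neg_ne_zero.2 hw0)
          rw [hp₁, hq₁, pow_succ]
          exact ⟨mul_dvd_mul_left _ (dvd_iff_isRoot.2 hp0'), mul_dvd_mul_left _ (dvd_iff_isRoot.2 hq0')⟩
      obtain ⟨⟨p₁, rfl⟩, q₁, rfl⟩ := hp
      have h5 := hperp w (mem_span2.2 ⟨0, 1, by rw [X.ev_zero, X.ev_one, zero_add]⟩)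
      have h6 := hperp v (mem_span2.2 ⟨1, 0, by rw [X.ev_one, X.ev_zero, add_zero]⟩)
      rw [hs1 v hv, hs1 w hwU] at h5 h6 ⊢
      simp only [map_add, map_smul, LinearMap.add_apply, LinearMap.smul_apply, smul_eq_mul, halt w hwU,
        halt v hv, mul_zero, add_zero, zero_add, hsw] at h5 h6
      rw [(mul_eq_zero.1 h5).resolve_right hw0, (mul_eq_zero.1 h6).resolve_right (neg_ne_zero.2 hw0),
        zero_smul, zero_smul, add_zero]
    have hnd' : ∀ u ∈ span2 X v w, (∀ z ∈ span2 X v w, X.B u z = 0) → u = 0 := by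
      intro u hu hperp
      by_contra hne
      obtain ⟨p, q, rfl⟩ := mem_span2.1 hu
      obtain ⟨i, hi1, hi2⟩ := X.exists_bottom (f := Polynomial.X - C c) (e := e' + 1) hne (by
        rw [map_add, ← X.ev_mul, ← X.ev_mul, (hannv _).2 (dvd_mul_right _ _), (hannw _).2 (dvd_mul_right _ _),
          add_zero])
      apply hi1
      rw [map_add, ← X.ev_mul, ← X.ev_mul]
      refine hsocle _ _ (by simpa only [map_add, ← X.ev_mul, ← mul_assoc] using hi2) fun z hz => ?_
      rw [X.ev_mul, X.ev_mul, ← map_add, X.adj']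
      exact hperp _ (span2_inv X v w _ hz)
    have hind : ∀ p q, X.ev p v + X.ev q w = 0 →
        (Polynomial.X - C c) ^ (e' + 1) ∣ p ∧ (Polynomial.X - C c) ^ (e' + 1) ∣ q := by
      intro p q hpq
      suffices hvz : X.ev p v = 0 by
        rw [hvz, zero_add] at hpq
        exact ⟨(hannv _).1 hvz, (hannw _).1 hpq⟩
      by_contra hne
      obtain ⟨d, hd⟩ := X.socle hi e'.succ_ne_zero hv (by simpa using hsv) hne (q := s) (by rw [hse]; exact hv)
      have h5 := congrArg (X.ev d) hpq
      rw [map_add, map_zero, hd, ← X.ev_mul] at h5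
      have hk : s ∣ d * q := by
        have h7 := congrArg (X.ev (Polynomial.X - C c)) h5
        rw [map_add, map_zero, ← X.ev_mul, hse, hv, zero_add, ← X.ev_mul, hannw, ← hse] at h7
        exact (mul_dvd_mul_iff_left hi.ne_zero).1 h7
      obtain ⟨r, hr⟩ := hk
      rw [hr, hs1 w hwU] at h5
      have := congrArg (fun z => X.B z w) h5
      simp only [map_add, map_smul, LinearMap.add_apply, LinearMap.smul_apply, map_zero, LinearMap.zero_apply,
        halt w hwU, smul_zero, add_zero] at this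
      exact hw0 this
    let Z := span2 X v w
    have hT : ∀ u ∈ Z, X.T u ∈ Z := fun u hu => by rw [← X.ev_X]; exact span2_inv X v w _ hu
    refine ⟨⟨(Polynomial.X - C c) ^ 2, e' + 1, false⟩, Z, hT, hnd', ?_, e'.succ_ne_zero, Or.inr (Or.inr (Or.inl
      ⟨rfl, c, ⟨v, mem_span2.2 ⟨1, 0, by rw [X.ev_one, X.ev_zero, add_zero]⟩⟩,
        ⟨w, mem_span2.2 ⟨0, 1, by rw [X.ev_one, X.ev_zero, zero_add]⟩⟩, rfl, hc, by simpa using hsign,
        ⟨fun u => ?_, fun p q => ?_⟩, fun u => ?_, ?_⟩))⟩
    · intro hbot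
      exact hsv ((Submodule.mem_bot F).1 (hbot ▸ mem_span2.2 ⟨s, 0, by rw [X.ev_zero, add_zero]⟩))
    · obtain ⟨p, q, e1⟩ := mem_span2.1 u.2
      exact ⟨p, q, Subtype.ext (by rw [Submodule.coe_add, Str.restrict_ev, Str.restrict_ev]; exact e1)⟩
    · rw [← Subtype.coe_inj, Submodule.coe_add, Str.restrict_ev, Str.restrict_ev, Submodule.coe_zero]
      exact ⟨hind p q, fun hd => by rw [(hannv _).2 hd.1, (hannw _).2 hd.2, add_zero]⟩
    · show X.B ((X.restrict Z hT hnd').ev _ u : V) u = 0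
      rw [Str.restrict_ev, Nat.add_sub_cancel]
      obtain ⟨p, q, e1⟩ := mem_span2.1 u.2
      refine halt _ ?_
      rw [← e1, map_add, ← X.ev_mul, ← X.ev_mul, (hannv _).2 (dvd_mul_right _ _),
        (hannw _).2 (dvd_mul_right _ _), add_zero]
    · show X.B ((X.restrict Z hT hnd').ev _ _ : V) w ≠ 0
      rw [Str.restrict_ev, Nat.add_sub_cancel]
      exact hw0

theorem exists_split [FiniteDimensional F V] [Nontrivial V] (_ : (2 : F) ≠ 0) (hε : ε = 1 ∨ ε = -1)
    (X : Str F ε V) : ∃ (k : Key F) (Z : Submodule F V) (hT : ∀ v ∈ Z, X.T v ∈ Z)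
      (hnd : ∀ u ∈ Z, (∀ v ∈ Z, X.B u v = 0) → u = 0), Z ≠ ⊥ ∧ IsPiece k (X.restrict Z hT hnd) :=
  exists_split' hε X

end Cfsg.Agent.H7Class
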