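import Cfsg.Agent.H7Class.Unique

/-!
# The normalised reversal and annihilators
-/

set_option autoImplicit false

namespace Cfsg.Agent.H7Class

open Polynomial

variable {F : Type*} [Field F] {ε : F} {V : Type*} [AddCommGroup V] [Module F V]

theorem star'_monic {f : F[X]} (h0 : f.coeff 0 ≠ 0) : (star' f).Monic := by
  rw [Monic, star', leadingCoeff_mul, leadingCoeff_C, reverse_leadingCoeff,
    trailingCoeff_eq_coeff_zero h0, inv_mul_cancel₀ h0]

theorem natDegree_star' {f : F[X]} (h0 : f.coeff 0 ≠ 0) : (star' f).natDegree = f.natDegree := by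
  rw [star', natDegree_C_mul (inv_ne_zero h0), reverse_natDegree,
    natTrailingDegree_eq_zero.2 (Or.inr h0), Nat.sub_zero]

theorem coeff_zero_star' (f : F[X]) : (star' f).coeff 0 = (f.coeff 0)⁻¹ * f.leadingCoeff := by
  rw [star', coeff_C_mul, coeff_zero_reverse]

theorem star'_mul (f g : F[X]) : star' (f * g) = star' f * star' g := by
  rw [star', star', star', reverse_mul_of_domain, mul_coeff_zero, mul_inv, C_mul]
  ring

theorem star'_one : star' (1 : F[X]) = 1 := by
  rw [star', coeff_one_zero, inv_one, C_1, one_mul, ← C_1, reverse_C]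

theorem star'_pow (f : F[X]) : ∀ n : ℕ, star' (f ^ n) = star' f ^ n
  | 0 => by rw [pow_zero, pow_zero, star'_one]
  | n + 1 => by rw [pow_succ, pow_succ, star'_mul, star'_pow f n]

theorem star'_star' {f : F[X]} (hm : f.Monic) (h0 : f.coeff 0 ≠ 0) : star' (star' f) = f := by
  have h : f.reverse.reverse = f := by
    rw [Polynomial.reverse, Polynomial.reverse]
    have : (reflect f.natDegree f).natDegree = f.natDegree := by
      have := reverse_natDegree f
      rwa [natTrailingDegree_eq_zero.2 (Or.inr h0), Nat.sub_zero] at this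
    rw [this, reflect_reflect]
  have h1 : (star' f).reverse = C (f.coeff 0)⁻¹ * f := by
    rw [star', reverse_mul_of_domain, reverse_C, h]
  rw [star', coeff_zero_star', hm.leadingCoeff, mul_one, inv_inv, h1, ← mul_assoc, ← C_mul,
    mul_inv_cancel₀ h0, C_1, one_mul]

theorem coeff_zero_of_dvd {f g : F[X]} (h : f ∣ g) (h0 : g.coeff 0 ≠ 0) : f.coeff 0 ≠ 0 := by
  obtain ⟨c, rfl⟩ := h
  rw [mul_coeff_zero] at h0
  exact left_ne_zero_of_mul h0

theorem star'_dvd {f g : F[X]} (h : f ∣ g) : star' f ∣ star' g := by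
  obtain ⟨c, rfl⟩ := h
  exact ⟨star' c, star'_mul f c⟩

theorem irreducible_star' {f : F[X]} (hf : Irreducible f) (hm : f.Monic) (h0 : f.coeff 0 ≠ 0) :
    Irreducible (star' f) := by
  refine (irreducible_iff_lt_natDegree_lt (star'_monic h0).ne_zero ?_).2 fun q hq hdeg hdvd => ?_
  · intro hu
    have := natDegree_eq_zero_of_isUnit hu
    rw [natDegree_star' h0] at this
    exact hf.natDegree_pos.ne' this
  · rw [natDegree_star' h0, Finset.mem_Ioc] at hdeg
    have hs0 : (star' f).coeff 0 ≠ 0 := by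
      rw [coeff_zero_star', hm.leadingCoeff, mul_one]; exact inv_ne_zero h0
    have hq0 := coeff_zero_of_dvd hdvd hs0
    have h1 := star'_dvd hdvd
    rw [star'_star' hm h0] at h1
    exact (irreducible_iff_lt_natDegree_lt hm.ne_zero hf.not_isUnit).1 hf (star' q) (star'_monic hq0)
      (by rw [natDegree_star' hq0, Finset.mem_Ioc]; exact hdeg) h1

theorem star'_X_sub_C {c : F} (hc : c ≠ 0) : star' (X - C c) = X - C c⁻¹ := by
  have h : (X - C c : F[X]).reverse = 1 - C c * X := by
    ext i
    rw [coeff_reverse, natDegree_X_sub_C]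
    rcases i with _ | _ | i
    · simp [coeff_one]
    · simp [coeff_one, coeff_X, coeff_C]
    · rw [revAt_eq_self_of_lt (by omega)]
      simp [coeff_one, coeff_X, coeff_C]
  rw [star', h]
  simp only [coeff_sub, coeff_X_zero, coeff_C_zero, zero_sub, inv_neg, map_neg]
  rw [mul_sub, mul_one, ← mul_assoc, neg_mul, ← C_mul, inv_mul_cancel₀ hc, C_1]
  ring

namespace Str

variable (X : Str F ε V)

/-- The annihilator of an element killed by a prime power. -/
theorem ann_iff {f : F[X]} (hf : Irreducible f) {e : ℕ} {v : V} (he : e ≠ 0) (hv : X.ev (f ^ e) v = 0)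
    (hs : X.ev (f ^ (e - 1)) v ≠ 0) (h : F[X]) : X.ev h v = 0 ↔ f ^ e ∣ h := by
  classical
  refine ⟨fun hh => ?_, fun hd => X.ev_eq_zero_of_dvd hd hv⟩
  obtain ⟨i, hi, hd⟩ := (dvd_prime_pow hf.prime e).1 (EuclideanDomain.gcd_dvd_left (f ^ e) h)
  have hg : X.ev (EuclideanDomain.gcd (f ^ e) h) v = 0 := by
    rw [EuclideanDomain.gcd_eq_gcd_ab, X.ev_add, mul_comm, X.ev_mul, hv, map_zero, zero_add, mul_comm,
      X.ev_mul, hh, map_zero]
  rcases hi.eq_or_lt with rfl | hlt
  · exact hd.symm.dvd.trans (EuclideanDomain.gcd_dvd_right _ _)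
  · exact absurd (X.ev_eq_zero_of_dvd (hd.dvd.trans (pow_dvd_pow f (by omega))) hg) hs

/-- The socle is simple. -/
theorem socle {f : F[X]} (hf : Irreducible f) {e : ℕ} {v : V} (he : e ≠ 0) (hv : X.ev (f ^ e) v = 0)
    (hs : X.ev (f ^ (e - 1)) v ≠ 0) {h q : F[X]} (hh : X.ev h v ≠ 0) (hq : X.ev (f * q) v = 0) :
    ∃ c, X.ev c (X.ev h v) = X.ev q v := by
  classical
  have ha := X.ann_iff hf he hv hs
  have he' : f ^ e = f * f ^ (e - 1) := by rw [← pow_succ', Nat.sub_add_cancel (Nat.one_le_iff_ne_zero.2 he)]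
  obtain ⟨q', rfl⟩ : f ^ (e - 1) ∣ q := by
    have h1 := (ha _).1 hq
    rw [he'] at h1
    exact (mul_dvd_mul_iff_left hf.ne_zero).1 h1
  obtain ⟨i, hi, hd⟩ := (dvd_prime_pow hf.prime e).1 (EuclideanDomain.gcd_dvd_left (f ^ e) h)
  have hie : i < e := by
    refine lt_of_le_of_ne hi ?_
    rintro rfl
    exact hh ((ha _).2 (hd.symm.dvd.trans (EuclideanDomain.gcd_dvd_right _ _)))
  obtain ⟨d, hd'⟩ : EuclideanDomain.gcd (f ^ e) h ∣ f ^ (e - 1) :=
    hd.dvd.trans (pow_dvd_pow f (by omega))
  refine ⟨EuclideanDomain.gcdB (f ^ e) h * d * q', ?_⟩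
  rw [← X.ev_mul, eq_comm, ← sub_eq_zero, ← X.ev_sub, ha]
  refine ⟨EuclideanDomain.gcdA (f ^ e) h * d * q', ?_⟩
  rw [hd', EuclideanDomain.gcd_eq_gcd_ab]
  ring

/-- Every non-zero element killed by a power has a non-zero multiple killed by the prime. -/
theorem exists_bottom {f : F[X]} {e : ℕ} {u : V} (hu : u ≠ 0) (hk : X.ev (f ^ e) u = 0) :
    ∃ i, X.ev (f ^ i) u ≠ 0 ∧ X.ev (f * f ^ i) u = 0 := by
  induction e with
  | zero => rw [pow_zero, X.ev_one] at hk; exact absurd hk hu
  | succ e ih =>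
    by_cases h : X.ev (f ^ e) u = 0
    · exact ih h
    · exact ⟨e, h, by rw [← pow_succ']; exact hk⟩

/-- Orthogonality of kernels and images. -/
theorem orth {g : F[X]} (h0 : g.coeff 0 ≠ 0) {z : V} (hz : X.ev (star' g) z = 0) (x : V) :
    X.B (X.ev g x) z = 0 := by
  rw [X.adj, (X.evi_eq_zero_iff h0).2 hz, map_zero]

section Min

variable [FiniteDimensional F V]

theorem ev_minpoly (v : V) : X.ev (minpoly F (X.T : Module.End F V)) v = 0 := by
  rw [ev, minpoly.aeval, LinearMap.zero_apply]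

theorem minpoly_coeff_zero : (minpoly F (X.T : Module.End F V)).coeff 0 ≠ 0 := by
  intro h
  set μ := minpoly F (X.T : Module.End F V)
  obtain ⟨c, hc⟩ : Polynomial.X ∣ μ := X_dvd_iff.2 h
  have hint : IsIntegral F (X.T : Module.End F V) := Algebra.IsIntegral.isIntegral _
  have h1 : μ ∣ c := by
    refine minpoly.dvd F _ (LinearMap.ext fun v => ?_)
    have := X.ev_minpoly v
    rw [show minpoly F (X.T : Module.End F V) = Polynomial.X * c from hc, X.ev_mul, X.ev_X,
      LinearEquiv.map_eq_zero_iff] at this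
    exact this
  have hμ0 : μ ≠ 0 := minpoly.ne_zero hint
  have hc0 : c ≠ 0 := fun h0 => hμ0 (by rw [hc, h0, mul_zero])
  have := natDegree_le_of_dvd h1 hc0
  rw [hc, natDegree_X_mul hc0] at this
  omega

theorem star'_minpoly : star' (minpoly F (X.T : Module.End F V)) = minpoly F (X.T : Module.End F V) := by
  set μ := minpoly F (X.T : Module.End F V)
  have h0 := X.minpoly_coeff_zero
  have hint : IsIntegral F (X.T : Module.End F V) := Algebra.IsIntegral.isIntegral _
  refine minpoly.unique' F (X.T : Module.End F V) (star'_monic h0) ?_ fun q hq => ?_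
  · refine LinearMap.ext fun v => ?_
    show X.ev (star' μ) v = 0
    rw [← X.evi_eq_zero_iff h0]
    exact X.nd' _ fun u => by rw [← X.adj, X.ev_minpoly, map_zero, LinearMap.zero_apply]
  · by_cases hq0 : q = 0
    · exact Or.inl hq0
    · refine Or.inr fun h => ?_
      have := minpoly.degree_le_of_ne_zero F _ hq0 h
      have h2 : q.natDegree < μ.natDegree := by
        have := natDegree_lt_natDegree hq0 hq
        rwa [natDegree_star' h0] at this
      exact absurd (natDegree_le_natDegree this) (not_le.2 h2)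

end Min

end Str

end Cfsg.Agent.H7Class
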