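import Cfsg.Agent.H7Class.TwoBasic

/-!
# Moving the levels

For a unipotent of exponent `m = 2k + 1 - e` (`e ≤ 1`) the operator `topOp = N^e s^(k-e)` plays the role of
`N^(m-1)`; the levels `i` with `k < i + δ` vanish, the others are moved at will along a partner.
-/

set_option autoImplicit false
set_option linter.unusedSectionVars false

namespace Cfsg.Agent.H7Class.Two

open Polynomial

variable {F : Type*} [Field F] [CharP F 2] {δ : ℕ} {V : Type*} [AddCommGroup V] [Module F V]

namespace UStr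

variable (X : UStr F δ V)

/-- The replacement of `N^(m-1)`. -/
noncomputable def topOp (k e : ℕ) : Module.End F V := X.N ^ e * X.s ^ (k - e)

/-- Killed by the exponent `2k + 1 - e`. -/
def Kill (k e : ℕ) : Prop := e ≤ 1 ∧ e ≤ k ∧ ∀ u, (X.N ^ (2 * k + 1 - e)) u = 0

theorem t_pow_injective (n : ℕ) : Function.Injective (X.t ^ n : Module.End F V) := by
  induction n with
  | zero => exact fun a b h => h
  | succ n ih => intro a b h; rw [pow_succ', Module.End.mul_apply, Module.End.mul_apply] at h; exact ih (X.T.injective h)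

theorem t_s_pow (n : ℕ) (u : V) : (X.t ^ n) ((X.s ^ n) u) = (X.N ^ (2 * n)) u := by
  rw [← Module.End.mul_apply, ← X.commute_t_s.mul_pow, t_mul_s, ← pow_mul]

theorem N_s_zero_iff (a n : ℕ) (u : V) : (X.N ^ a) ((X.s ^ n) u) = 0 ↔ (X.N ^ (a + 2 * n)) u = 0 := by
  rw [pow_add, Module.End.mul_apply, ← t_s_pow, ← Module.End.mul_apply (X.N ^ a) (X.t ^ n),
    (X.commute_N_t.pow_pow a n).eq, Module.End.mul_apply]
  exact ⟨fun h => by rw [h, map_zero], fun h => X.t_pow_injective n (by rw [h, map_zero])⟩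

theorem topOp_zero_iff {k e : ℕ} (he : e ≤ 1) (hk : e ≤ k) (u : V) :
    X.topOp k e u = 0 ↔ (X.N ^ (2 * k - e)) u = 0 := by
  rw [topOp, Module.End.mul_apply, N_s_zero_iff, show e + 2 * (k - e) = 2 * k - e by omega]

variable {X} {k e : ℕ}

theorem Kill.N_s (h : X.Kill k e) {a n : ℕ} (hn : 2 * k + 1 - e ≤ a + 2 * n) (u : V) :
    (X.N ^ a) ((X.s ^ n) u) = 0 := by
  rw [N_s_zero_iff, show a + 2 * n = (a + 2 * n - (2 * k + 1 - e)) + (2 * k + 1 - e) by omega, pow_add,
    Module.End.mul_apply, h.2.2, map_zero]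

theorem Kill.fix (h : X.Kill k e) {n : ℕ} (hn : k ≤ n) (u : V) : X.T ((X.s ^ n) u) = (X.s ^ n) u := by
  have h1 : (X.N ^ 1) ((X.s ^ n) u) = 0 := h.N_s (by omega) u
  rw [pow_one, N_apply] at h1
  calc X.T ((X.s ^ n) u) = X.T ((X.s ^ n) u) + ((X.s ^ n) u + (X.s ^ n) u) := by
        rw [add_self_vec (F := F), add_zero]
    _ = (X.s ^ n) u := by rw [← add_assoc, h1, zero_add]

theorem Kill.lev_eq_zero (h : X.Kill k e) (hδ : δ ≤ 1) {i : ℕ} (hi : k < i + δ) (u : V) : X.lev i u = 0 := by
  obtain ⟨i', rfl⟩ : ∃ i', i = i' + 1 - δ := ⟨i + δ - 1, by omega⟩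
  rw [X.lev_eq hδ, h.fix (by omega), X.B_s_pow_self]

theorem Kill.topOp_symm (h : X.Kill k e) (u v : V) : X.B (X.topOp k e u) v = X.B u (X.topOp k e v) := by
  obtain ⟨he, hek, h3⟩ := h
  rcases (show e = 0 ∨ e = 1 by omega) with rfl | rfl
  · simp only [topOp, pow_zero, one_mul, tsub_zero]
    exact X.s_pow_adj k u v
  · simp only [topOp, pow_one, Module.End.mul_apply]
    rw [N_adj_comb, s_pow_adj]
    congr 1
    have hz : X.T (X.N ((X.s ^ (k - 1)) v)) = X.N ((X.s ^ (k - 1)) v) := by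
      have h1 : (X.N ^ 2) ((X.s ^ (k - 1)) v) = 0 := Kill.N_s ⟨he, hek, h3⟩ (by omega) v
      rw [pow_two, Module.End.mul_apply, N_apply] at h1
      calc X.T (X.N ((X.s ^ (k - 1)) v))
          = X.T (X.N ((X.s ^ (k - 1)) v)) + (X.N ((X.s ^ (k - 1)) v) + X.N ((X.s ^ (k - 1)) v)) := by
            rw [add_self_vec (F := F), add_zero]
        _ = _ := by rw [← add_assoc, h1, zero_add]
    have hc : ∀ z, (X.s ^ (k - 1)) (X.N z) = X.N ((X.s ^ (k - 1)) z) := fun z => by
      rw [← Module.End.mul_apply, ← (X.commute_N_s.pow_right (k - 1)).eq, Module.End.mul_apply]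
    rw [hc]
    apply X.T.injective
    rw [hz, ← X.t_apply, ← Module.End.mul_apply, ← X.commute_N_t.eq, Module.End.mul_apply, ← Module.End.mul_apply X.t,
      (X.commute_t_s.pow_right (k - 1)).eq, Module.End.mul_apply, t_apply, LinearEquiv.apply_symm_apply]

theorem Kill.topOp_self (h : X.Kill k e) (hδ : δ ≤ 1) (u : V) :
    X.B (X.topOp k e u) u = if e = 0 then 0 else X.lev (k - δ) u := by
  obtain ⟨he, hek, -⟩ := h
  rcases (show e = 0 ∨ e = 1 by omega) with rfl | rfl
  · simp only [topOp, pow_zero, one_mul, tsub_zero, if_true]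
    exact X.B_s_pow_self k u
  · rw [if_neg one_ne_zero, show k - δ = (k - 1) + 1 - δ by omega, X.lev_eq hδ, topOp, pow_one,
      Module.End.mul_apply, N_apply, map_add, LinearMap.add_apply, B_s_pow_self, add_zero]

theorem Kill.top_self_zero (h : X.Kill k e) (hδ : δ ≤ 1) {y : V} (hy : k - δ + δ = k → X.lev (k - δ) y = 0) :
    X.B (X.topOp k e y) y = 0 := by
  rw [h.topOp_self hδ]
  split_ifs with he
  · rfl
  · exact hy (by have := h.1; have := h.2.1; omega)

/-! ### Polynomials -/

variable (X) [Finite V] [FiniteDimensional F V]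

/-- The polynomial of `T + T⁻¹`. -/
noncomputable def sPoly : F[X] := Polynomial.X + Polynomial.X ^ X.invExp

theorem ev_sPoly : X.ev X.sPoly = X.s := by
  refine LinearMap.ext fun u => ?_
  rw [sPoly, Str.ev_add, Str.ev_X, s_apply]
  congr 1
  apply X.T.injective
  rw [LinearEquiv.apply_symm_apply, ← X.ev_X, ← X.ev_mul, ← pow_succ', X.ev_order]

/-- The polynomial of `T + 1`. -/
noncomputable def nPoly : F[X] := Polynomial.X + 1

theorem ev_nPoly : X.ev (nPoly (F := F)) = X.N := by
  refine LinearMap.ext fun u => ?_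
  rw [nPoly, Str.ev_add, Str.ev_X, Str.ev_one, N_apply]

theorem ev_mul' (p r : F[X]) : X.ev (p * r) = X.ev p * X.ev r := LinearMap.ext fun u => X.ev_mul p r u

theorem ev_pow' (p : F[X]) (n : ℕ) : X.ev (p ^ n) = X.ev p ^ n := by simp [Str.ev]

theorem ev_nPoly_sPoly (a n : ℕ) (u : V) : X.ev (nPoly ^ a * X.sPoly ^ n) u = (X.N ^ a) ((X.s ^ n) u) := by
  rw [ev_mul', ev_pow', ev_pow', ev_nPoly, ev_sPoly, Module.End.mul_apply]

variable {X}

theorem Kill.topOp_ev (_ : X.Kill k e) (h : F[X]) (u : V) : X.topOp k e (X.ev h u) = X.ev h (X.topOp k e u) := by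
  simp only [topOp, Module.End.mul_apply, ← X.ev_nPoly_sPoly]
  rw [X.ev_comm]

/-- The levels below `L` are moved at will by adding multiples of a partner `y`. -/
theorem Kill.adjust (hK : X.Kill k e) (hδ : δ ≤ 1) {x y : V} (L : ℕ)
    (hL : ∀ i < L, i + δ + e ≤ k ∧ (i + δ + e = k → X.lev (k - δ) y = 0))
    (htop : X.B (X.topOp k e x) y ≠ 0) (c : ℕ → F) :
    ∃ h : F[X], (∀ i, X.lev i (x + X.ev h y) = if i < L then c i else X.lev i x) ∧
      X.B (X.topOp k e (x + X.ev h y)) y = X.B (X.topOp k e x) y := by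
  suffices ∀ n, n ≤ L → ∃ h : F[X], (∀ i, L ≤ i + n → X.lev i (x + X.ev h y) = if i < L then c i else X.lev i x) ∧
      X.B (X.topOp k e (x + X.ev h y)) y = X.B (X.topOp k e x) y by
    obtain ⟨h, h1, h2⟩ := this L le_rfl
    exact ⟨h, fun i => h1 i (Nat.le_add_left _ _), h2⟩
  intro n
  induction n with
  | zero =>
    refine fun _ => ⟨0, fun i hi => ?_, by rw [X.ev_zero, add_zero]⟩
    rw [if_neg (by omega), X.ev_zero, add_zero]
  | succ n ih =>
    intro hn
    obtain ⟨h, h1, h2⟩ := ih (by omega)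
    set x' := x + X.ev h y with hx'
    set i₀ := L - (n + 1) with hi₀
    obtain ⟨hb, hz⟩ := hL i₀ (by omega)
    set j := k - e - (i₀ + δ) with hj
    set β := X.B (X.topOp k e x) y
    set cc := (c i₀ - X.lev i₀ x') / β
    set z := X.ev (C cc * (nPoly ^ e * X.sPoly ^ j)) y with hzdef
    have hzev : z = cc • (X.N ^ e) ((X.s ^ j) y) := by rw [hzdef, X.ev_mul, X.ev_C, ev_nPoly_sPoly]
    have hlev : ∀ i, i₀ ≤ i → X.lev i z = 0 ∧
        X.B ((X.s ^ (i + δ)) x') z = if i = i₀ then cc * β else 0 := by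
      intro i hi
      have he1 := hK.1
      refine ⟨?_, ?_⟩
      · rw [hzev, lev_smul, lev_N, lev_s]
        by_cases hlt : k < i + e + 2 * j + δ
        · rw [hK.lev_eq_zero hδ hlt, mul_zero]
        · have hij : i + δ + e = k ∧ j = 0 ∧ i = i₀ := by omega
          rw [show i + e + 2 * j = k - δ by omega, hz (by omega), mul_zero]
      · rw [hzev, map_smul, smul_eq_mul]
        have hc : ∀ w, X.B ((X.s ^ (i + δ)) x') ((X.N ^ e) ((X.s ^ j) w)) =
            X.B x' ((X.N ^ e) ((X.s ^ (i + δ + j)) w)) := fun w => by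
          rw [s_pow_adj, ← Module.End.mul_apply, ← (X.commute_N_s.pow_pow e (i + δ)).eq, Module.End.mul_apply,
            ← Module.End.mul_apply (X.s ^ (i + δ)), ← pow_add]
        rw [hc]
        split_ifs with hii
        · rw [show i + δ + j = k - e by omega, ← Module.End.mul_apply (X.N ^ e), ← topOp, ← hK.topOp_symm, h2]
        · rw [hK.N_s (by omega), map_zero, mul_zero]
    have hpair : X.B (X.topOp k e z) y = 0 := by
      rw [hzev, map_smul, map_smul, LinearMap.smul_apply]
      have he1 := hK.1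
      have hek := hK.2.1
      by_cases hzero : 2 * k + 1 - e ≤ e + e + 2 * (k - e + j)
      · have : X.topOp k e ((X.N ^ e) ((X.s ^ j) y)) = (X.N ^ (e + e)) ((X.s ^ (k - e + j)) y) := by
          rw [topOp, Module.End.mul_apply, pow_add X.N, pow_add X.s, Module.End.mul_apply, Module.End.mul_apply,
            ← Module.End.mul_apply (X.s ^ (k - e)), ← (X.commute_N_s.pow_pow e (k - e)).eq, Module.End.mul_apply]
        rw [this, hK.N_s hzero, map_zero, LinearMap.zero_apply, smul_zero]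
      · obtain ⟨rfl, hj0⟩ : e = 0 ∧ j = 0 := by omega
        rw [hj0]
        simp only [topOp, pow_zero, one_mul, tsub_zero, Module.End.one_apply, X.B_s_pow_self, smul_zero]
    refine ⟨h + C cc * (nPoly ^ e * X.sPoly ^ j), fun i hi => ?_, ?_⟩
    · rw [Str.ev_add, ← add_assoc, ← hx', ← hzdef, lev_add]
      obtain ⟨h3, h4⟩ := hlev i (by omega)
      rw [h3, h4, add_zero]
      split_ifs with h5 h6 h6
      · subst h5
        rw [div_mul_cancel₀ _ htop]
        ring
      · omega
      · rw [add_zero, h1 i (by omega), if_pos h6]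
      · rw [add_zero, h1 i (by omega), if_neg h6]
    · rw [Str.ev_add, ← add_assoc, ← hx', ← hzdef, map_add, map_add, LinearMap.add_apply, hpair, add_zero, h2]

end UStr

end Cfsg.Agent.H7Class.Two
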