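import Cfsg.Agent.H7Class.Split

/-!
# Levels of an isometry in characteristic two

A structure in characteristic two carries, besides the alternating form `B`, a quadratic map `q` with polar
`B (s^δ ·) ·`, where `s = T + T⁻¹`: for `δ = 1` this is `B (T ·) ·`, for `δ = 0` an invariant quadratic form.
Its pullbacks `lev i = q ∘ (T + 1)^i` are the levels.
-/

set_option autoImplicit false
set_option linter.unusedSectionVars false

namespace Cfsg.Agent.H7Class.Two

open Polynomial

variable {F : Type*} [Field F] [CharP F 2] {δ : ℕ}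
  {V W : Type*} [AddCommGroup V] [Module F V] [AddCommGroup W] [Module F W]

omit [CharP F 2] in
theorem add_self_vec [CharP F 2] (v : V) : v + v = 0 := by
  rw [← two_smul F v, show (2 : F) = 0 from CharTwo.two_eq_zero, zero_smul]

/-- The sum of an isometry and its inverse. -/
noncomputable def sop (X : Str F (1 : F) V) : Module.End F V :=
  (X.T : Module.End F V) + (X.T.symm : Module.End F V)

variable (F) in
/-- A structure with its quadratic map. -/
structure UStr (δ : ℕ) (V : Type*) [AddCommGroup V] [Module F V] extends Str F (1 : F) V where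
  alt : ∀ u, B u u = 0
  q : V → F
  q_smul : ∀ (c : F) u, q (c • u) = c ^ 2 * q u
  q_T : ∀ u, q (T u) = q u
  q_add : ∀ u v, q (u + v) = q u + q v + B ((sop toStr ^ δ) u) v
  q_N : ∀ u, q (((T : Module.End F V) + 1) ^ (1 - δ) <| u) = B (T u) u

namespace UStr

variable (X : UStr F δ V)

/-- `T + T⁻¹`. -/
noncomputable def s : Module.End F V := sop X.toStr

/-- `T + 1`. -/
noncomputable def N : Module.End F V := (X.T : Module.End F V) + 1

/-- The isometry as an endomorphism. -/
noncomputable def t : Module.End F V := (X.T : Module.End F V)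

theorem t_apply (u : V) : X.t u = X.T u := rfl

theorem N_apply (u : V) : X.N u = X.T u + u := rfl

theorem s_apply (u : V) : X.s u = X.T u + X.T.symm u := rfl

/-- The levels. -/
noncomputable def lev (i : ℕ) (u : V) : F := X.q ((X.N ^ i) u)

theorem B_comm (u v : V) : X.B u v = X.B v u := by rw [X.sym, one_mul]

theorem B_T_left (u v : V) : X.B (X.T u) v = X.B u (X.T.symm v) := by
  conv_lhs => rw [← X.T.apply_symm_apply v, X.inv]

theorem B_Tsymm_left (u v : V) : X.B (X.T.symm u) v = X.B u (X.T v) := by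
  rw [X.B_comm, ← X.B_T_left, X.B_comm]

theorem s_adj (u v : V) : X.B (X.s u) v = X.B u (X.s v) := by
  rw [s_apply, s_apply, map_add, map_add, LinearMap.add_apply, B_T_left, B_Tsymm_left, add_comm]

theorem s_pow_adj (n : ℕ) (u v : V) : X.B ((X.s ^ n) u) v = X.B u ((X.s ^ n) v) := by
  induction n generalizing u v with
  | zero => simp
  | succ n ih => rw [pow_succ', Module.End.mul_apply, s_adj, ih, ← Module.End.mul_apply, ← pow_succ]; rw [pow_succ']

theorem t_mul_s : X.t * X.s = X.N ^ 2 := by
  refine LinearMap.ext fun u => ?_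
  show X.T (X.T u + X.T.symm u) = (X.N ^ 2) u
  rw [pow_two, Module.End.mul_apply, N_apply, N_apply, map_add, map_add, LinearEquiv.apply_symm_apply]
  have := add_self_vec (F := F) (X.T u)
  linear_combination (norm := abel) -this

theorem commute_t_s : Commute X.t X.s := by
  refine LinearMap.ext fun u => ?_
  show X.T (X.T u + X.T.symm u) = X.T (X.T u) + X.T.symm (X.T u)
  rw [map_add, LinearEquiv.apply_symm_apply, LinearEquiv.symm_apply_apply]

theorem commute_N_t : Commute X.N X.t := (Commute.refl X.t).add_left (Commute.one_left _)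

theorem commute_N_s : Commute X.N X.s := X.commute_t_s.add_left (Commute.one_left _)

theorem B_s_pow_self (n : ℕ) (u : V) : X.B ((X.s ^ n) u) u = 0 := by
  obtain ⟨m, rfl⟩ | ⟨m, rfl⟩ := Nat.even_or_odd n
  · rw [pow_add, Module.End.mul_apply, s_pow_adj, X.alt]
  · rw [two_mul, add_assoc, pow_add, Module.End.mul_apply, s_pow_adj]
    rw [pow_succ', Module.End.mul_apply, X.B_comm]
    set z := (X.s ^ m) u
    rw [s_apply, map_add, ← X.B_Tsymm_left z z, X.B_comm (X.T.symm z), CharTwo.add_self_eq_zero]

theorem q_zero : X.q 0 = 0 := by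
  have := X.q_smul 0 0
  simpa using this

theorem lev_smul (i : ℕ) (c : F) (u : V) : X.lev i (c • u) = c ^ 2 * X.lev i u := by
  rw [lev, lev, map_smul, X.q_smul]

theorem lev_zero (i : ℕ) : X.lev i 0 = 0 := by rw [lev, map_zero, q_zero]

theorem lev_N (i j : ℕ) (u : V) : X.lev i ((X.N ^ j) u) = X.lev (i + j) u := by
  rw [lev, lev, pow_add, Module.End.mul_apply]

theorem lev_t (i : ℕ) (u : V) : X.lev i (X.T u) = X.lev i u := by
  rw [lev, lev, ← X.t_apply, ← Module.End.mul_apply, (X.commute_N_t.pow_left i).eq, Module.End.mul_apply, X.t_apply,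
    X.q_T]

theorem lev_t_pow (i j : ℕ) (u : V) : X.lev i ((X.t ^ j) u) = X.lev i u := by
  induction j with
  | zero => simp
  | succ j ih => rw [pow_succ', Module.End.mul_apply, X.t_apply, lev_t, ih]

theorem lev_s (i j : ℕ) (u : V) : X.lev i ((X.s ^ j) u) = X.lev (i + 2 * j) u := by
  rw [← X.lev_t_pow i j ((X.s ^ j) u), ← Module.End.mul_apply, ← X.commute_t_s.mul_pow, t_mul_s, ← pow_mul, lev_N]

theorem t_inv_adj (n : ℕ) (u v : V) : X.B ((X.t ^ n) u) ((X.t ^ n) v) = X.B u v := by
  induction n with
  | zero => simp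
  | succ n ih => rw [pow_succ', Module.End.mul_apply, Module.End.mul_apply, t_apply, t_apply, X.inv, ih]

theorem N_adj_comb (u v : V) : X.B (X.N u) v = X.B u (X.N (X.T.symm v)) := by
  rw [N_apply, N_apply, LinearEquiv.apply_symm_apply, map_add, map_add, LinearMap.add_apply, B_T_left, add_comm]

theorem B_s_N_N (n : ℕ) (u v : V) : X.B ((X.s ^ n) (X.N u)) (X.N v) = X.B ((X.s ^ (n + 1)) u) v := by
  rw [s_pow_adj, N_adj_comb, pow_succ', Module.End.mul_apply]
  have h : X.N (X.T.symm ((X.s ^ n) (X.N v))) = (X.s ^ (n + 1)) v := by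
    apply X.T.injective
    have e : X.T (X.N (X.T.symm ((X.s ^ n) (X.N v)))) = X.N ((X.s ^ n) (X.N v)) := by
      rw [N_apply, N_apply, map_add, LinearEquiv.apply_symm_apply]
      rfl
    rw [e, pow_succ', Module.End.mul_apply, ← X.t_apply (X.s _), ← Module.End.mul_apply X.t, t_mul_s, pow_two,
      Module.End.mul_apply]
    congr 1
    rw [← Module.End.mul_apply, ← (X.commute_N_s.pow_right n).eq, Module.End.mul_apply]
  rw [h, ← s_pow_adj, pow_succ', Module.End.mul_apply]

theorem lev_add (i : ℕ) (u v : V) : X.lev i (u + v) = X.lev i u + X.lev i v + X.B ((X.s ^ (i + δ)) u) v := by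
  rw [lev, lev, lev, map_add, X.q_add]
  congr 1
  show X.B ((X.s ^ δ) ((X.N ^ i) u)) ((X.N ^ i) v) = _
  induction i generalizing u v with
  | zero => simp
  | succ i ih =>
    rw [pow_succ, Module.End.mul_apply, Module.End.mul_apply, ih, B_s_N_N, Nat.succ_add]

theorem q_TN (u : V) : X.lev (1 - δ) u = X.B (X.T u) u := X.q_N u

/-- The levels are the diagonal values of `T s^i`. -/
theorem lev_eq (hδ : δ ≤ 1) (i : ℕ) (u : V) : X.lev (i + 1 - δ) u = X.B (X.T ((X.s ^ i) u)) u := by
  have h0 : ∀ (j : ℕ) (z : V), X.lev (j + (1 - δ)) z = X.B (X.T ((X.N ^ j) z)) ((X.N ^ j) z) := by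
    intro j z
    rw [add_comm, ← lev_N, X.q_TN]
  rw [show i + 1 - δ = i + (1 - δ) by omega, h0]
  induction i generalizing u with
  | zero => simp
  | succ i ih =>
    rw [pow_succ, Module.End.mul_apply, ih, pow_succ, Module.End.mul_apply,
      show X.T ((X.s ^ i) (X.N u)) = (X.s ^ i) (X.N (X.T u)) from ?_, B_s_N_N, pow_succ, Module.End.mul_apply]
    · rw [← X.t_apply u, ← X.t_apply ((X.s ^ i) (X.s u)), ← Module.End.mul_apply, ← Module.End.mul_apply X.t,
        (X.commute_t_s.pow_right i).eq, Module.End.mul_apply, Module.End.mul_apply]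
      congr 2
      rw [← Module.End.mul_apply X.s, ← X.commute_t_s.eq, Module.End.mul_apply]
    · rw [← X.t_apply, ← X.t_apply, ← Module.End.mul_apply, (X.commute_t_s.pow_right i).eq, Module.End.mul_apply,
        ← Module.End.mul_apply X.t, ← X.commute_N_t.eq, Module.End.mul_apply]

end UStr

end Cfsg.Agent.H7Class.Two
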