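import Mathlib

/-!
# Counting configurations of unipotent keys

A configuration is a list of items, the latest first.  The item at height `k` stores the numbers of `W k 0`
(`w0`, with `f` non-trivial), of `W (k+1) 1` (`w1`) and of `V (k+1)` (`c`, with `t` non-trivial).
-/

set_option autoImplicit false

namespace Cfsg.Agent.H7Class.Two.Count

/-- The numbers of one height. -/
structure Itm where
  w0 : ℕ
  f : ℕ
  w1 : ℕ
  c : ℕ
  t : ℕ
  deriving DecidableEq

/-- The weight of an item of height `k`. -/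
def iwt (k : ℕ) (i : Itm) : ℕ := (2 * k + 1) * i.w0 + (2 * k + 2) * i.w1 + (k + 1) * i.c

/-- The weight. -/
def lwt : List Itm → ℕ
  | [] => 0
  | i :: l => iwt l.length i + lwt l

/-- The number of non-trivial classes. -/
def lpar : List Itm → ℕ
  | [] => 0
  | i :: l => i.f + i.t + lpar l

/-- Presence of the largest `V`. -/
def lstate : List Itm → Bool
  | [] => false
  | i :: _ => decide (i.c ≠ 0)

/-- The choices of `(w0, f)`. -/
def pset (N : ℕ) (free : Bool) : Finset (ℕ × ℕ) :=
  if free then insert (0, 0) (Finset.Icc 1 N ×ˢ Finset.range 2) else Finset.range (N + 1) ×ˢ {0}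

/-- The choices of `(c, t)`. -/
def tset (e free : Bool) : Finset (ℕ × ℕ) :=
  if e then (if free then {1, 2} ×ˢ Finset.range 2 else {1, 2} ×ˢ {0}) else {(0, 0)}

/-- The items. -/
def items (N : ℕ) (P T : Finset (ℕ × ℕ)) : Finset Itm :=
  (P ×ˢ (Finset.range (N + 1) ×ˢ T)).map
    ⟨fun p => ⟨p.1.1, p.1.2, p.2.1, p.2.2.1, p.2.2.2⟩, fun a b h => by simpa [Prod.ext_iff, and_assoc] using h⟩

/-- The first items. -/
def initItems (N : ℕ) (t1 e : Bool) : Finset Itm := items N {(0, 0)} (tset e t1)

/-- The items following the state `e₀`. -/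
def stepItems (N : ℕ) (e₀ e : Bool) : Finset Itm := items N (pset N (!e₀ && !e)) (tset e (!e₀))

theorem mem_items {N : ℕ} {P T : Finset (ℕ × ℕ)} {i : Itm} :
    i ∈ items N P T ↔ (i.w0, i.f) ∈ P ∧ i.w1 ≤ N ∧ (i.c, i.t) ∈ T := by
  constructor
  · intro h
    obtain ⟨p, hp, rfl⟩ := Finset.mem_map.1 h
    obtain ⟨h1, h2⟩ := Finset.mem_product.1 hp
    obtain ⟨h2, h3⟩ := Finset.mem_product.1 h2
    exact ⟨h1, Nat.le_of_lt_succ (Finset.mem_range.1 h2), h3⟩
  · rintro ⟨h1, h2, h3⟩
    exact Finset.mem_map.2 ⟨((i.w0, i.f), i.w1, (i.c, i.t)),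
      Finset.mem_product.2 ⟨h1, Finset.mem_product.2 ⟨Finset.mem_range.2 (Nat.lt_succ_of_le h2), h3⟩⟩, rfl⟩

theorem tset_state {e free : Bool} {p : ℕ × ℕ} (h : p ∈ tset e free) : decide (p.1 ≠ 0) = e := by
  obtain ⟨a, b⟩ := p
  cases e <;> cases free <;> simp [tset, Finset.mem_product] at h ⊢ <;> omega

/-- The configurations; `t1` allows the class at height one, `b` is its state. -/
def confs (N : ℕ) (t1 b : Bool) : ℕ → Bool → Finset (List Itm)
  | 0, e => if e = b then (initItems N t1 e).image fun i => [i] else ∅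
  | j + 1, e => ((confs N t1 b j false ×ˢ stepItems N false e).image fun p => p.2 :: p.1) ∪
      ((confs N t1 b j true ×ˢ stepItems N true e).image fun p => p.2 :: p.1)

theorem confs_spec (N : ℕ) (t1 b : Bool) : ∀ (j : ℕ) (e : Bool), ∀ l ∈ confs N t1 b j e,
    l.length = j + 1 ∧ lstate l = e := by
  intro j
  induction j with
  | zero =>
    intro e l hl
    simp only [confs] at hl
    split_ifs at hl with h
    · obtain ⟨i, hi, rfl⟩ := Finset.mem_image.1 hl
      exact ⟨rfl, tset_state (mem_items.1 hi).2.2⟩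
    · simp at hl
  | succ j ih =>
    intro e l hl
    simp only [confs, Finset.mem_union, Finset.mem_image, Finset.mem_product] at hl
    rcases hl with ⟨p, ⟨h1, h2⟩, rfl⟩ | ⟨p, ⟨h1, h2⟩, rfl⟩ <;>
      exact ⟨congrArg Nat.succ (ih _ _ h1).1, tset_state (mem_items.1 h2).2.2⟩

theorem sum_confs_succ {M : Type*} [AddCommMonoid M] (N : ℕ) (t1 b : Bool) (j : ℕ) (e : Bool) (φ : List Itm → M) :
    ∑ l ∈ confs N t1 b (j + 1) e, φ l =
      ∑ i ∈ stepItems N false e, ∑ l ∈ confs N t1 b j false, φ (i :: l) +
        ∑ i ∈ stepItems N true e, ∑ l ∈ confs N t1 b j true, φ (i :: l) := by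
  have inj : ∀ s : Finset (List Itm × Itm), Set.InjOn (fun p : List Itm × Itm => p.2 :: p.1) s := fun s p _ p' _ h => by
    simp only [List.cons.injEq] at h
    exact Prod.ext h.2 h.1
  rw [confs, Finset.sum_union, Finset.sum_image (inj _), Finset.sum_image (inj _), Finset.sum_product_right,
    Finset.sum_product_right]
  rw [Finset.disjoint_left]
  intro l h1 h2
  simp only [Finset.mem_image, Finset.mem_product] at h1 h2
  obtain ⟨p, ⟨hp, -⟩, rfl⟩ := h1
  obtain ⟨p', ⟨hp', -⟩, h⟩ := h2
  rw [List.cons.injEq] at h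
  have e1 := (confs_spec N t1 b j _ _ hp).2
  have e2 := (confs_spec N t1 b j _ _ hp').2
  rw [h.2, e1] at e2
  exact Bool.false_ne_true e2

theorem sum_items {M : Type*} [AddCommMonoid M] (N : ℕ) (P T : Finset (ℕ × ℕ)) (φ : Itm → M) :
    ∑ i ∈ items N P T, φ i =
      ∑ p ∈ P, ∑ w ∈ Finset.range (N + 1), ∑ r ∈ T, φ ⟨p.1, p.2, w, r.1, r.2⟩ := by
  rw [items, Finset.sum_map, Finset.sum_product]
  exact Finset.sum_congr rfl fun p _ => Finset.sum_product _ _ _

/-! ### Signed sums -/

/-- The configurations with `W k 1` only. -/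
def only (N : ℕ) : ℕ → Finset (List Itm)
  | 0 => (items N {(0, 0)} {(0, 0)}).image fun i => [i]
  | j + 1 => (only N j ×ˢ items N {(0, 0)} {(0, 0)}).image fun p => p.2 :: p.1

theorem only_spec (N : ℕ) : ∀ j, ∀ l ∈ only N j, l.length = j + 1 := by
  intro j
  induction j with
  | zero =>
    intro l hl
    obtain ⟨i, -, rfl⟩ := Finset.mem_image.1 hl
    rfl
  | succ j ih =>
    intro l hl
    obtain ⟨p, hp, rfl⟩ := Finset.mem_image.1 hl
    exact congrArg Nat.succ (ih _ (Finset.mem_product.1 hp).1)

theorem signed_sum (N : ℕ) (b : Bool) : ∀ (j : ℕ) (e : Bool) (G : ℕ → ℚ),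
    ∑ l ∈ confs N true b j e, (-1) ^ lpar l * G (lwt l) =
      if e = false ∧ b = false then ∑ l ∈ only N j, G (lwt l) else 0 := by
  intro j
  induction j with
  | zero =>
    intro e G
    by_cases hb : e = b
    · subst hb
      rw [confs, if_pos rfl, Finset.sum_image fun _ _ _ _ h => List.singleton_injective h]
      cases e
      · rw [only, Finset.sum_image fun _ _ _ _ h => List.singleton_injective h, if_pos ⟨rfl, rfl⟩]
        refine Finset.sum_congr (by simp [initItems, tset]) fun i hi => ?_
        have := mem_items.1 hi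
        simp only [Finset.mem_singleton, Prod.mk.injEq] at this
        simp [lpar, this.1.2, this.2.2.2]
      · rw [if_neg (by simp), initItems, sum_items]
        simp [tset, Finset.sum_product, Finset.sum_range_succ, lpar, lwt, iwt]
    · rw [confs, if_neg hb, Finset.sum_empty, if_neg]
      rintro ⟨rfl, rfl⟩
      exact hb rfl
  | succ j ih =>
    intro e G
    rw [sum_confs_succ]
    have step : ∀ (e₀ : Bool) (i : Itm), ∑ l ∈ confs N true b j e₀, (-1 : ℚ) ^ lpar (i :: l) * G (lwt (i :: l)) =
        (-1) ^ (i.f + i.t) * if e₀ = false ∧ b = false then ∑ l ∈ only N j, G (iwt (j + 1) i + lwt l) else 0 := by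
      intro e₀ i
      rw [← ih e₀ fun w => G (iwt (j + 1) i + w), Finset.mul_sum]
      refine Finset.sum_congr rfl fun l hl => ?_
      rw [lpar, lwt, pow_add, (confs_spec _ _ _ _ _ _ hl).1, mul_assoc]
    simp only [step, Bool.true_eq_false, false_and, if_false, mul_zero, Finset.sum_const_zero, add_zero, true_and]
    cases b
    swap
    · simp
    simp only [if_true, and_true]
    cases e
    · rw [if_pos rfl, only, Finset.sum_image fun p _ p' _ h => by
        simp only [List.cons.injEq] at h; exact Prod.ext h.2 h.1, Finset.sum_product_right, stepItems, sum_items,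
        sum_items]
      have hP : ∀ H : ℕ × ℕ → ℚ, ∑ p ∈ pset N true, (-1 : ℚ) ^ p.2 * H (p.1, 0) = H (0, 0) := fun H => by
        rw [pset, if_pos rfl, Finset.sum_insert (by simp), Finset.sum_product]
        simp [Finset.sum_range_succ]
      simp only [tset, Bool.not_false, Bool.and_self, Bool.false_eq_true, if_false, Finset.sum_singleton, add_zero]
      have e1 : ∀ p ∈ pset N true, ∑ w ∈ Finset.range (N + 1),
          (-1 : ℚ) ^ p.2 * ∑ l ∈ only N j, G (iwt (j + 1) ⟨p.1, p.2, w, 0, 0⟩ + lwt l) =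
          (-1 : ℚ) ^ p.2 * ∑ w ∈ Finset.range (N + 1), ∑ l ∈ only N j, G (iwt (j + 1) ⟨p.1, 0, w, 0, 0⟩ + lwt l) :=
        fun p _ => by rw [Finset.mul_sum]; rfl
      rw [Finset.sum_congr rfl e1,
        hP fun p => ∑ w ∈ Finset.range (N + 1), ∑ l ∈ only N j, G (iwt (j + 1) ⟨p.1, p.2, w, 0, 0⟩ + lwt l)]
      refine Finset.sum_congr rfl fun w _ => Finset.sum_congr rfl fun l hl => ?_
      rw [lwt, only_spec _ _ _ hl]
    · rw [if_neg (by simp), stepItems, sum_items]
      refine Finset.sum_eq_zero fun p _ => Finset.sum_eq_zero fun w _ => ?_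
      simp [tset, Finset.sum_product, Finset.sum_range_succ, pow_add, iwt]

/-! ### Geometric sums -/

/-- `1/2`. -/
def half (k : ℕ) : ℚ := (1 / 2) ^ k

theorem geom_le {y : ℚ} (hy : 0 ≤ y) (hy1 : y < 1) (N : ℕ) : ∑ i ∈ Finset.range N, y ^ i ≤ 1 / (1 - y) := by
  rw [le_div_iff₀ (sub_pos.2 hy1), geom_sum_mul_neg]
  have := pow_nonneg hy N
  linarith

theorem geom_free {y : ℚ} (hy : 0 ≤ y) (hy1 : y < 1) (N : ℕ) :
    ∑ p ∈ pset N true, y ^ p.1 ≤ (1 + y) / (1 - y) := by
  rw [pset, if_pos rfl, Finset.sum_insert (by simp), Finset.sum_product]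
  simp only [Finset.sum_const, Finset.card_range, nsmul_eq_mul, ← Finset.mul_sum, pow_zero, Nat.cast_ofNat]
  have h := geom_le hy hy1 (N + 1)
  rw [Finset.sum_range_succ'] at h
  have h' : ∑ i ∈ Finset.Icc 1 N, y ^ i = ∑ i ∈ Finset.range N, y ^ (i + 1) := by
    rw [← Finset.Ico_add_one_right_eq_Icc, Finset.sum_Ico_eq_sum_range, Nat.add_sub_cancel]
    simp [add_comm]
  rw [h', le_div_iff₀ (sub_pos.2 hy1)]
  rw [le_div_iff₀ (sub_pos.2 hy1), pow_zero] at h
  linarith

theorem geom_bound {y : ℚ} (hy : 0 ≤ y) (hy1 : y < 1) (N : ℕ) (free : Bool) :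
    ∑ p ∈ pset N free, y ^ p.1 ≤ (1 + if free then y else 0) / (1 - y) := by
  cases free
  · rw [pset, if_neg (by simp), Finset.sum_product]
    simpa using geom_le hy hy1 (N + 1)
  · simpa using geom_free hy hy1 N

theorem half_lt {k : ℕ} (h : k ≠ 0) : half k < 1 := pow_lt_one₀ (by norm_num) (by norm_num) h

theorem half_nonneg (k : ℕ) : 0 ≤ half k := pow_nonneg (by norm_num) k

theorem sum_items_half (N k : ℕ) (P T : Finset (ℕ × ℕ)) :
    ∑ i ∈ items N P T, half (iwt k i) = (∑ p ∈ P, half (2 * k + 1) ^ p.1) *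
      ((∑ w ∈ Finset.range (N + 1), half (2 * k + 2) ^ w) * ∑ r ∈ T, half (k + 1) ^ r.1) := by
  rw [sum_items]
  rw [Finset.sum_mul]
  refine Finset.sum_congr rfl fun p _ => ?_
  rw [Finset.sum_mul, Finset.mul_sum]
  refine Finset.sum_congr rfl fun w _ => ?_
  rw [Finset.mul_sum, Finset.mul_sum]
  refine Finset.sum_congr rfl fun r _ => ?_
  simp only [half, iwt, ← pow_mul, ← pow_add]
  ring_nf

/-- The weight of the `V`s at a height. -/
def vb (k : ℕ) : ℚ := half (k + 1) + half (k + 1) ^ 2

theorem sum_tset (k : ℕ) (e free : Bool) :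
    ∑ r ∈ tset e free, half (k + 1) ^ r.1 = if e then (if free then 2 * vb k else vb k) else 1 := by
  cases e <;> cases free <;>
    simp [tset, vb, Finset.sum_product, Finset.sum_range_succ] <;> ring

/-- The bound for the items following `e₀`. -/
def stepVal (k : ℕ) (e₀ e : Bool) : ℚ :=
  ((1 + if (!e₀ && !e) then half (2 * k + 1) else 0) / (1 - half (2 * k + 1))) *
    (1 / (1 - half (2 * k + 2)) * if e then (if e₀ then vb k else 2 * vb k) else 1)

theorem sum_stepItems_le (N k : ℕ) (e₀ e : Bool) : ∑ i ∈ stepItems N e₀ e, half (iwt k i) ≤ stepVal k e₀ e := by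
  rw [stepItems, sum_items_half, stepVal, sum_tset]
  have hv : 0 ≤ vb k := by have := half_nonneg (k + 1); rw [vb]; positivity
  have h1 : half (2 * k + 1) < 1 := half_lt (by omega)
  refine mul_le_mul (geom_bound (half_nonneg _) h1 _ _) ?_
    (mul_nonneg (Finset.sum_nonneg fun _ _ => pow_nonneg (half_nonneg _) _) ?_) ?_
  · refine mul_le_mul (geom_le (half_nonneg _) (half_lt (by omega)) _) (le_of_eq ?_) ?_ ?_
    · cases e₀ <;> simp
    · split_ifs <;> first | positivity | linarith
    · exact div_nonneg zero_le_one (sub_nonneg.2 (half_lt (by omega)).le)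
  · split_ifs <;> first | positivity | linarith
  · refine div_nonneg ?_ (sub_nonneg.2 h1.le)
    split_ifs <;> linarith [half_nonneg (2 * k + 1)]

/-- The bound for the first items. -/
def initVal (t1 e : Bool) : ℚ := 4 / 3 * if e then (if t1 then 3 / 2 else 3 / 4) else 1

theorem sum_initItems_le (N : ℕ) (t1 e : Bool) : ∑ i ∈ initItems N t1 e, half (iwt 0 i) ≤ initVal t1 e := by
  rw [initItems, sum_items_half, sum_tset, initVal, Finset.sum_singleton, pow_zero, one_mul]
  refine mul_le_mul ((geom_le (half_nonneg _) (half_lt (by omega)) _).trans (le_of_eq (by norm_num [half])))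
    (le_of_eq (by cases e <;> cases t1 <;> norm_num [vb, half])) ?_ (by norm_num)
  cases e <;> cases t1 <;> norm_num [vb, half]

/-! ### The transfer -/

/-- The bounds of the two states. -/
def val (t1 b : Bool) : ℕ → ℚ × ℚ
  | 0 => if b then (0, initVal t1 true) else (initVal t1 false, 0)
  | j + 1 => ((val t1 b j).1 * stepVal (j + 1) false false + (val t1 b j).2 * stepVal (j + 1) true false,
      (val t1 b j).1 * stepVal (j + 1) false true + (val t1 b j).2 * stepVal (j + 1) true true)

theorem stepVal_nonneg (k : ℕ) (e₀ e : Bool) : 0 ≤ stepVal k e₀ e :=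
  (Finset.sum_nonneg fun _ _ => half_nonneg _).trans (sum_stepItems_le 0 k e₀ e)

theorem val_nonneg (t1 b : Bool) : ∀ j, 0 ≤ (val t1 b j).1 ∧ 0 ≤ (val t1 b j).2 := by
  intro j
  induction j with
  | zero => cases b <;> cases t1 <;> simp [val, initVal] <;> norm_num
  | succ j ih =>
    constructor <;>
      exact add_nonneg (mul_nonneg ih.1 (stepVal_nonneg _ _ _)) (mul_nonneg ih.2 (stepVal_nonneg _ _ _))

theorem sum_confs_le (N : ℕ) (t1 b : Bool) : ∀ (j : ℕ) (e : Bool),
    ∑ l ∈ confs N t1 b j e, half (lwt l) ≤ if e then (val t1 b j).2 else (val t1 b j).1 := by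
  intro j
  induction j with
  | zero =>
    intro e
    by_cases hb : e = b
    · subst hb
      rw [confs, if_pos rfl, Finset.sum_image fun _ _ _ _ h => List.singleton_injective h]
      refine le_of_le_of_eq (le_of_eq_of_le (Finset.sum_congr rfl fun i _ => ?_) (sum_initItems_le N t1 e)) ?_
      · simp [lwt]
      · cases e <;> simp [val]
    · rw [confs, if_neg hb, Finset.sum_empty]
      have := val_nonneg t1 b 0
      split_ifs <;> tauto
  | succ j ih =>
    intro e
    rw [sum_confs_succ]
    have step : ∀ e₀, ∑ i ∈ stepItems N e₀ e, ∑ l ∈ confs N t1 b j e₀, half (lwt (i :: l)) ≤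
        (if e₀ then (val t1 b j).2 else (val t1 b j).1) * stepVal (j + 1) e₀ e := by
      intro e₀
      have e1 : ∀ i, ∑ l ∈ confs N t1 b j e₀, half (lwt (i :: l)) =
          half (iwt (j + 1) i) * ∑ l ∈ confs N t1 b j e₀, half (lwt l) := fun i => by
        rw [Finset.mul_sum]
        refine Finset.sum_congr rfl fun l hl => ?_
        rw [lwt, (confs_spec _ _ _ _ _ _ hl).1, half, half, half, pow_add]
      simp only [e1, ← Finset.sum_mul]
      rw [mul_comm]
      refine mul_le_mul (ih e₀) (sum_stepItems_le N (j + 1) e₀ e) (Finset.sum_nonneg fun _ _ => half_nonneg _) ?_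
      split_ifs <;> [exact (val_nonneg t1 b j).2; exact (val_nonneg t1 b j).1]
    refine (add_le_add (step false) (step true)).trans (le_of_eq ?_)
    cases e <;> simp [val]

/-- The tail. -/
def pot (j : ℕ) : ℚ := 1 + 4 * half (j + 1)

theorem val_tail {t1 b : Bool} {J : ℕ} (hJ : 11 ≤ J) {c : ℚ}
    (h : ((val t1 b J).1 + (val t1 b J).2) * pot J ≤ c) (j : ℕ) : (val t1 b j).1 + (val t1 b j).2 ≤ c := by
  have mono : Monotone fun j => (val t1 b j).1 + (val t1 b j).2 := by
    refine monotone_nat_of_le_succ fun i => ?_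
    have h0 := val_nonneg t1 b i
    have one_le : ∀ e₀, (1 : ℚ) ≤ stepVal (i + 1) e₀ false := fun e₀ => by
      have hy := half_nonneg (2 * (i + 1) + 1)
      have hy1 : half (2 * (i + 1) + 1) < 1 := half_lt (by omega)
      have hz := half_nonneg (2 * (i + 1) + 2)
      have hz1 : half (2 * (i + 1) + 2) < 1 := half_lt (by omega)
      rw [stepVal]
      refine one_le_mul_of_one_le_of_one_le ?_ ?_
      · rw [le_div_iff₀ (sub_pos.2 hy1)]
        split_ifs <;> linarith
      · simp only [Bool.false_eq_true, if_false, mul_one]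
        rw [le_div_iff₀ (sub_pos.2 hz1)]
        linarith
    simp only [val]
    nlinarith [one_le false, one_le true, stepVal_nonneg (i + 1) false true, stepVal_nonneg (i + 1) true true,
      mul_nonneg h0.1 (stepVal_nonneg (i + 1) false true), mul_nonneg h0.2 (stepVal_nonneg (i + 1) true true)]
  have key : ∀ i, ((val t1 b (J + i)).1 + (val t1 b (J + i)).2) * pot (J + i) ≤ c := by
    intro i
    induction i with
    | zero => exact h
    | succ i ih =>
      refine le_trans ?_ ih
      have h0 := val_nonneg t1 b (J + i)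
      set u := half (J + i + 2) with hu
      have hu0 : 0 ≤ u := half_nonneg _
      have hu1 : u ≤ 1 / 4096 :=
        (pow_le_pow_of_le_one (by norm_num) (by norm_num) (show 12 ≤ J + i + 2 by omega)).trans (by norm_num)
      have ey : half (2 * (J + i + 1) + 1) = 2 * u ^ 2 := by
        rw [hu, half, half, ← pow_mul,
          show (J + i + 2) * 2 = 2 * (J + i + 1) + 1 + 1 by ring, pow_succ]
        ring
      have ez : half (2 * (J + i + 1) + 2) = u ^ 2 := by
        rw [hu, half, half, ← pow_mul]; ring_nf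
      have hs : ∀ e₀, stepVal (J + i + 1) e₀ false + stepVal (J + i + 1) e₀ true ≤ 1 + 3 * u := by
        intro e₀
        simp only [stepVal, vb, ey, ez, show half (J + i + 1 + 1) = u from rfl]
        have hd : (0 : ℚ) < (1 - 2 * u ^ 2) * (1 - u ^ 2) := by nlinarith
        have d1 : 1 - 2 * u ^ 2 ≠ 0 := by nlinarith
        have d2 : 1 - u ^ 2 ≠ 0 := by nlinarith
        cases e₀
        · simp only [Bool.not_false, Bool.and_self, Bool.and_false, Bool.not_true, Bool.false_eq_true, if_true,
            if_false]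
          refine le_of_eq_of_le (b := (1 + 2 * u + 4 * u ^ 2) / ((1 - 2 * u ^ 2) * (1 - u ^ 2)))
            (by field_simp; ring) ?_
          rw [div_le_iff₀ hd]
          nlinarith [mul_nonneg hu0 hu0, mul_nonneg (mul_nonneg hu0 hu0) hu0]
        · simp only [Bool.not_true, Bool.false_and, Bool.false_eq_true, if_true, if_false]
          refine le_of_eq_of_le (b := (1 + u + u ^ 2) / ((1 - 2 * u ^ 2) * (1 - u ^ 2))) (by field_simp; ring) ?_
          rw [div_le_iff₀ hd]
          nlinarith [mul_nonneg hu0 hu0, mul_nonneg (mul_nonneg hu0 hu0) hu0]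
      have hp : pot (J + (i + 1)) = 1 + 4 * u := rfl
      have hp' : pot (J + i) = 1 + 8 * u := by
        rw [pot, hu, half, half, pow_succ (1 / 2 : ℚ) (J + i + 1)]; ring
      rw [← add_assoc, val] at *
      simp only at *
      rw [hp, hp']
      have e1 := hs false
      have e2 := hs true
      have e3 : 0 ≤ (1 + 8 * u) - (1 + 3 * u) * (1 + 4 * u) := by nlinarith
      nlinarith [mul_le_mul_of_nonneg_left e1 h0.1, mul_le_mul_of_nonneg_left e2 h0.2, mul_nonneg h0.1 e3,
        mul_nonneg h0.2 e3]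
  refine (mono (show j ≤ J + j by omega)).trans (le_trans ?_ (key j))
  exact le_mul_of_one_le_right (add_nonneg (val_nonneg _ _ _).1 (val_nonneg _ _ _).2)
    (le_add_of_nonneg_right (mul_nonneg (by norm_num) (half_nonneg _)))

theorem val_sp (j : ℕ) : ((val false false j).1 + (val false false j).2) +
    ((val false true j).1 + (val false true j).2) ≤ 76 / 10 := by
  refine (add_le_add (val_tail (t1 := false) (b := false) (J := 11) le_rfl le_rfl j)
    (val_tail (t1 := false) (b := true) (J := 11) le_rfl le_rfl j)).trans ?_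
  norm_num [val, stepVal, initVal, vb, half, pot]

/-- The bound for configurations with `W k 1` only. -/
def onlyVal : ℕ → ℚ
  | 0 => 4 / 3
  | j + 1 => onlyVal j * (1 / (1 - half (2 * (j + 1) + 2)))

theorem onlyVal_le (j : ℕ) : 0 ≤ onlyVal j ∧ onlyVal j ≤ 1453 / 1000 := by
  have hf : ∀ i, 0 < 1 - half (2 * (i + 1) + 2) := fun i => sub_pos.2 (half_lt (by omega))
  have hnn : ∀ i, 0 ≤ onlyVal i := by
    intro i
    induction i with
    | zero => norm_num [onlyVal]
    | succ i ih => exact mul_nonneg ih (div_nonneg zero_le_one (hf i).le)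
  have key : ∀ i, onlyVal (6 + i) * (1 + 2 * half (2 * (6 + i) + 2)) ≤ 1453 / 1000 := by
    intro i
    induction i with
    | zero => norm_num [onlyVal, half]
    | succ i ih =>
      refine le_trans ?_ ih
      rw [← add_assoc, onlyVal, mul_assoc]
      refine mul_le_mul_of_nonneg_left ?_ (hnn _)
      set u := half (2 * (6 + i + 1) + 2) with hu
      have hu0 : 0 ≤ u := half_nonneg _
      have hu1 : u ≤ 1 / 4096 :=
        (pow_le_pow_of_le_one (by norm_num) (by norm_num) (show 12 ≤ 2 * (6 + i + 1) + 2 by omega)).trans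
          (by norm_num)
      have e : half (2 * (6 + i) + 2) = 4 * u := by
        rw [hu, show 2 * (6 + i + 1) + 2 = 2 * (6 + i) + 2 + 2 by ring, half, half, pow_add]; ring
      rw [e, div_mul_eq_mul_div, div_le_iff₀ (by linarith)]
      nlinarith
  have mono : Monotone onlyVal := monotone_nat_of_le_succ fun i =>
    le_mul_of_one_le_right (hnn i) (by
      rw [le_div_iff₀ (hf i)]; linarith [half_nonneg (2 * (i + 1) + 2)])
  refine ⟨hnn j, (mono (show j ≤ 6 + j by omega)).trans (le_trans ?_ (key j))⟩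
  exact le_mul_of_one_le_right (hnn _) (le_add_of_nonneg_right (mul_nonneg (by norm_num) (half_nonneg _)))

theorem sum_only_le (N : ℕ) : ∀ j, ∑ l ∈ only N j, half (lwt l) ≤ onlyVal j := by
  intro j
  have hi : ∀ k, ∑ i ∈ items N {(0, 0)} {(0, 0)}, half (iwt k i) ≤ 1 / (1 - half (2 * k + 2)) := fun k => by
    rw [sum_items_half, Finset.sum_singleton, Finset.sum_singleton, pow_zero, pow_zero, one_mul, mul_one]
    exact geom_le (half_nonneg _) (half_lt (by omega)) _
  induction j with
  | zero =>
    rw [only, Finset.sum_image fun _ _ _ _ h => List.singleton_injective h]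
    refine le_of_eq_of_le (Finset.sum_congr rfl fun i _ => by simp [lwt]) ((hi 0).trans (le_of_eq ?_))
    norm_num [onlyVal, half]
  | succ j ih =>
    rw [only, Finset.sum_image fun p _ p' _ h => by
      simp only [List.cons.injEq] at h; exact Prod.ext h.2 h.1]
    have e : ∀ p ∈ only N j ×ˢ items N {(0, 0)} {(0, 0)}, half (lwt (p.2 :: p.1)) =
        half (lwt p.1) * half (iwt (j + 1) p.2) := fun p hp => by
      rw [lwt, only_spec _ _ _ (Finset.mem_product.1 hp).1, half, half, half, ← pow_add, add_comm]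
    rw [Finset.sum_congr rfl e, Finset.sum_product]
    simp only
    rw [← Finset.sum_mul_sum, onlyVal]
    exact mul_le_mul ih (hi _) (Finset.sum_nonneg fun _ _ => half_nonneg _) (onlyVal_le j).1

theorem val_ortho (j : ℕ) : ((val true true j).1 + (val true true j).2) +
    3 / 2 * ((val true false j).1 + (val true false j).2 + onlyVal j) ≤ 15 := by
  have h1 := val_tail (t1 := true) (b := true) (J := 11) le_rfl le_rfl j
  have h2 := val_tail (t1 := true) (b := false) (J := 11) le_rfl le_rfl j
  have h3 := (onlyVal_le j).2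
  refine (add_le_add h1 (mul_le_mul_of_nonneg_left (add_le_add h2 h3) (by norm_num))).trans ?_
  norm_num [val, stepVal, initVal, vb, half, pot]

end Cfsg.Agent.H7Class.Two.Count
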