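import Cfsg.Agent.H7Class.TwoPiece

/-!
# Decompositions of unipotent structures
-/

set_option autoImplicit false
set_option linter.unusedSectionVars false
set_option linter.style.haveILetI false

namespace Cfsg.Agent.H7Class.Two

open Polynomial
open UStr (nPoly Kill gen1_of gen2_of top_eq top_ev kill_iff ann_top)

universe v

variable {F : Type*} [Field F] [CharP F 2] [Finite F] {δ : ℕ}

section split

variable {V W : Type v} [AddCommGroup V] [Module F V] [FiniteDimensional F V] [AddCommGroup W] [Module F W]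
  {X : UStr F δ V} {k e : ℕ}

/-- Unipotence. -/
def Unip (X : UStr F δ V) : Prop := ∃ m, ∀ u, (X.N ^ m) u = 0

theorem restrict_ev' (X : UStr F δ V) (Z : Submodule F V) (hT : ∀ v ∈ Z, X.T v ∈ Z)
    (hnd : ∀ u ∈ Z, (∀ v ∈ Z, X.B u v = 0) → u = 0) (h : F[X]) (u : Z) :
    ((X.restrict Z hT hnd).ev h u : V) = X.ev h u := Str.restrict_ev X.toStr Z hT hnd h u

theorem restrict_N_pow (X : UStr F δ V) (Z : Submodule F V) (hT : ∀ v ∈ Z, X.T v ∈ Z)
    (hnd : ∀ u ∈ Z, (∀ v ∈ Z, X.B u v = 0) → u = 0) (n : ℕ) (u : Z) :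
    (((X.restrict Z hT hnd).N ^ n) u : V) = (X.N ^ n) u := by
  induction n generalizing u with
  | zero => rfl
  | succ n ih => rw [pow_succ', Module.End.mul_apply, pow_succ', Module.End.mul_apply, ← ih]; rfl

theorem restrict_topOp (X : UStr F δ V) (Z : Submodule F V) (hT : ∀ v ∈ Z, X.T v ∈ Z)
    (hnd : ∀ u ∈ Z, (∀ v ∈ Z, X.B u v = 0) → u = 0) (u : Z) :
    ((X.restrict Z hT hnd).topOp k e u : V) = X.topOp k e u := by
  rw [UStr.topOp, UStr.topOp, Module.End.mul_apply, Module.End.mul_apply, restrict_N_pow]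
  congr 1
  exact UStr.restrict_sop_pow X Z hT hnd (k - e) u

theorem restrict_lev (X : UStr F δ V) (Z : Submodule F V) (hT : ∀ v ∈ Z, X.T v ∈ Z)
    (hnd : ∀ u ∈ Z, (∀ v ∈ Z, X.B u v = 0) → u = 0) (i : ℕ) (u : Z) :
    (X.restrict Z hT hnd).lev i u = X.lev i u := by
  show X.q _ = X.q _
  rw [restrict_N_pow]

theorem UStr.Kill.restrict (hK : X.Kill k e) (Z : Submodule F V) (hT : ∀ v ∈ Z, X.T v ∈ Z)
    (hnd : ∀ u ∈ Z, (∀ v ∈ Z, X.B u v = 0) → u = 0) : (X.restrict Z hT hnd).Kill k e :=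
  ⟨hK.1, hK.2.1, fun u => Subtype.ext (by rw [restrict_N_pow]; exact hK.2.2 _)⟩

/-- A structure of dimension `2k` with a non-zero top level is a piece `V k _`. -/
theorem exists_isP_V (hδ : δ ≤ 1) (hK : X.Kill k 1) (hdim : Module.finrank F V = 2 * k)
    (h : ∃ u, X.lev (k - δ) u ≠ 0) : ∃ a, IsP (.V k a) X := by
  classical
  haveI : Finite V := Module.finite_of_finite F
  have hgen : ∀ u, X.lev (k - δ) u ≠ 0 → Gen1 X.toStr u (nPoly ^ (2 * k + 1 - 1)) := fun u hu =>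
    gen1_of hK (fun h0 => hu (by rw [← hK.B_top_self_V hδ, h0, map_zero, LinearMap.zero_apply]))
      (hdim.trans (by omega))
  have hk1 : 1 ≤ k := hK.2.1
  by_cases hall : δ + 1 ≤ k ∧ ∀ u, X.lev (k - δ) u ≠ 0 → X.lev (k - δ - 1) u ≠ 0
  · obtain ⟨u, hu⟩ := h
    exact ⟨true, ⟨hk1, fun _ => hall.1⟩, u, hgen u hu, hu, by simp, fun _ => hall.2⟩
  · obtain ⟨u, hu, hu'⟩ : ∃ u, X.lev (k - δ) u ≠ 0 ∧ (δ + 1 ≤ k → X.lev (k - δ - 1) u = 0) := by
      by_cases hk : δ + 1 ≤ k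
      · push Not at hall
        obtain ⟨u, hu, hu'⟩ := hall hk
        exact ⟨u, hu, fun _ => hu'⟩
      · obtain ⟨u, hu⟩ := h
        exact ⟨u, hu, fun h' => absurd h' hk⟩
    exact ⟨false, ⟨hk1, by simp⟩, u, hgen u hu, hu, fun _ => hu', by simp⟩

/-- A structure of dimension `2m` with alternating socle form is a piece `W k e _`. -/
theorem exists_isP_W (hδ : δ ≤ 1) (hK : X.Kill k e) (hdim : Module.finrank F V = 2 * (2 * k + 1 - e))
    (hv : ∃ v, X.topOp k e v ≠ 0) (halt : e = 1 → ∀ u, X.lev (k - δ) u = 0) : ∃ a, IsP (.W k e a) X := by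
  classical
  haveI : Finite V := Module.finite_of_finite F
  have hself : ∀ u, X.B (X.topOp k e u) u = 0 := fun u => by
    rw [hK.topOp_self hδ]
    split_ifs with he
    · rfl
    · exact halt (by have := hK.1; omega) u
  have hpair : ∀ u, X.topOp k e u ≠ 0 → ∃ w, X.B (X.topOp k e u) w ≠ 0 := fun u hu => by
    by_contra hc
    push Not at hc
    exact hu (X.nd _ hc)
  have hval : ∀ a : Bool, (a = true → e = 0 ∧ δ ≤ k) → UKey.Valid δ (.W k e a) := fun a ha =>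
    ⟨hK.1, hK.2.1, ha⟩
  by_cases hall : e = 0 ∧ δ ≤ k ∧ ∀ u, X.topOp k e u ≠ 0 → X.lev (k - δ) u ≠ 0
  · obtain ⟨v, hv⟩ := hv
    obtain ⟨w, hw⟩ := hpair v hv
    exact ⟨true, hval _ fun _ => ⟨hall.1, hall.2.1⟩, v, w, gen2_of hK (hself v) (hself w) hw hdim, hw,
      fun he => absurd he (by omega), by simp, fun _ => hall.2.2⟩
  · obtain ⟨v, hv, hv0⟩ : ∃ v, X.topOp k e v ≠ 0 ∧ (δ ≤ k → X.lev (k - δ) v = 0) := by
      by_cases hk : δ ≤ k
      · by_cases he : e = 0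
        · push Not at hall
          obtain ⟨u, hu, hu'⟩ := hall he hk
          exact ⟨u, hu, fun _ => hu'⟩
        · obtain ⟨v, hv⟩ := hv
          exact ⟨v, hv, fun _ => halt (by have := hK.1; omega) v⟩
      · obtain ⟨v, hv⟩ := hv
        exact ⟨v, hv, fun h' => absurd h' hk⟩
    obtain ⟨w, hw⟩ := hpair v hv
    exact ⟨false, hval _ (by simp), v, w, gen2_of hK (hself v) (hself w) hw hdim, hw,
      fun he => ⟨halt he v, halt he w⟩, fun _ => hv0, by simp⟩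

/-- The module of one generator with non-zero socle value is non-degenerate. -/
theorem span1_nd (hK : X.Kill k e) {v : V} (hv : X.B (X.topOp k e v) v ≠ 0) :
    ∀ u ∈ span1 X.toStr v, (∀ z ∈ span1 X.toStr v, X.B u z = 0) → u = 0 := by
  haveI : Finite V := Module.finite_of_finite F
  intro u hu hperp
  obtain ⟨h, rfl⟩ := mem_span1.1 hu
  refine X.ev_eq_zero_of_dvd ?_ ((kill_iff.1 hK).2.2 v)
  suffices ∀ i ≤ 2 * k + 1 - e, nPoly ^ i ∣ h from this _ le_rfl
  intro i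
  induction i with
  | zero => intro _; simp
  | succ i ih =>
    intro hi
    obtain ⟨h₁, rfl⟩ := ih (by omega)
    have h5 := hperp _ (mem_span1.2 ⟨X.adjPoly (nPoly ^ (2 * k - e - i)), rfl⟩)
    rw [← Str.adj', ← X.ev_mul, ← mul_assoc, ← pow_add, show 2 * k - e - i + i = 2 * k - e by omega, X.ev_mul,
      ← top_eq hK, top_ev hK, map_smul, LinearMap.smul_apply, smul_eq_mul] at h5
    rw [pow_succ, nPoly_eq]
    exact mul_dvd_mul_left _ (dvd_iff_isRoot.2 ((mul_eq_zero.1 h5).resolve_right hv))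

/-- The module of a hyperbolic pair is non-degenerate. -/
theorem span2_nd (hK : X.Kill k e) {v w : V} (hvv : X.B (X.topOp k e v) v = 0)
    (hww : X.B (X.topOp k e w) w = 0) (hvw : X.B (X.topOp k e v) w ≠ 0) :
    ∀ u ∈ span2 X.toStr v w, (∀ z ∈ span2 X.toStr v w, X.B u z = 0) → u = 0 := by
  haveI : Finite V := Module.finite_of_finite F
  intro u hu hperp
  obtain ⟨h, l, rfl⟩ := mem_span2.1 hu
  have key : ∀ g, X.ev g v ∈ span2 X.toStr v w ∧ X.ev g w ∈ span2 X.toStr v w := fun g =>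
    ⟨mem_span2.2 ⟨g, 0, by rw [X.ev_zero, add_zero]⟩, mem_span2.2 ⟨0, g, by rw [X.ev_zero, zero_add]⟩⟩
  suffices ∀ i ≤ 2 * k + 1 - e, nPoly ^ i ∣ h ∧ nPoly ^ i ∣ l by
    rw [X.ev_eq_zero_of_dvd (this _ le_rfl).1 ((kill_iff.1 hK).2.2 v),
      X.ev_eq_zero_of_dvd (this _ le_rfl).2 ((kill_iff.1 hK).2.2 w), add_zero]
  intro i
  induction i with
  | zero => intro _; simp
  | succ i ih =>
    intro hi
    obtain ⟨⟨h₁, rfl⟩, l₁, rfl⟩ := ih (by omega)
    have h6 := hperp _ (key (X.adjPoly (nPoly ^ (2 * k - e - i)))).2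
    have h7 := hperp _ (key (X.adjPoly (nPoly ^ (2 * k - e - i)))).1
    rw [← Str.adj', map_add, ← X.ev_mul, ← X.ev_mul, ← mul_assoc, ← mul_assoc, ← pow_add,
      show 2 * k - e - i + i = 2 * k - e by omega, X.ev_mul, X.ev_mul, ← top_eq hK, ← top_eq hK, top_ev hK,
      top_ev hK] at h6 h7
    simp only [map_add, map_smul, LinearMap.add_apply, LinearMap.smul_apply,
      hww, hvv, smul_eq_mul, mul_zero, add_zero, zero_add] at h6 h7
    rw [hK.topOp_symm w, X.B_comm] at h7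
    rw [pow_succ, nPoly_eq]
    exact ⟨mul_dvd_mul_left _ (dvd_iff_isRoot.2 ((mul_eq_zero.1 h6).resolve_right hvw)),
      mul_dvd_mul_left _ (dvd_iff_isRoot.2 ((mul_eq_zero.1 h7).resolve_right hvw))⟩

/-- A summand containing given vectors, classified. -/
theorem exists_piece_V (hδ : δ ≤ 1) (hK : X.Kill k 1) {v : V} (hv : X.lev (k - δ) v ≠ 0) :
    ∃ (Z : Submodule F V) (hT : ∀ x ∈ Z, X.T x ∈ Z) (hnd : ∀ x ∈ Z, (∀ y ∈ Z, X.B x y = 0) → x = 0)
      (a : Bool), Z = span1 X.toStr v ∧ IsP (.V k a) (X.restrict Z hT hnd) := by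
  haveI : Finite V := Module.finite_of_finite F
  have hB : X.B (X.topOp k 1 v) v ≠ 0 := by rw [hK.B_top_self_V hδ]; exact hv
  set Z := span1 X.toStr v with hZ
  have hT : ∀ x ∈ Z, X.T x ∈ Z := fun x hx => by rw [← X.ev_X]; exact span1_inv _ _ _ hx
  have hnd := span1_nd hK hB
  have hvZ : v ∈ Z := mem_span1.2 ⟨1, X.ev_one v⟩
  have hv' : (X.restrict Z hT hnd).topOp k 1 ⟨v, hvZ⟩ ≠ 0 := fun h => hB (by
    rw [← restrict_topOp X Z hT hnd ⟨v, hvZ⟩, h, Submodule.coe_zero, map_zero, LinearMap.zero_apply])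
  have hG : Gen1 (X.restrict Z hT hnd).toStr ⟨v, hvZ⟩ (nPoly ^ (2 * k + 1 - 1)) := by
    refine ⟨fun z => ?_, ann_top (hK.restrict Z hT hnd) hv'⟩
    obtain ⟨g, hg⟩ := mem_span1.1 z.2
    exact ⟨g, Subtype.ext (by rw [restrict_ev']; exact hg)⟩
  have hdim : Module.finrank F Z = 2 * k := by rw [finrank_gen1 hG, natDegree_nPoly_pow]; omega
  obtain ⟨a, ha⟩ := exists_isP_V hδ (hK.restrict Z hT hnd) hdim ⟨⟨v, hvZ⟩, by rw [restrict_lev]; exact hv⟩
  exact ⟨Z, hT, hnd, a, rfl, ha⟩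

theorem exists_piece_W (hδ : δ ≤ 1) (hK : X.Kill k e) {v w : V} (hvw : X.B (X.topOp k e v) w ≠ 0)
    (halt : e = 1 → ∀ u ∈ span2 X.toStr v w, X.lev (k - δ) u = 0) :
    ∃ (Z : Submodule F V) (hT : ∀ x ∈ Z, X.T x ∈ Z) (hnd : ∀ x ∈ Z, (∀ y ∈ Z, X.B x y = 0) → x = 0)
      (a : Bool), Z = span2 X.toStr v w ∧ IsP (.W k e a) (X.restrict Z hT hnd) := by
  haveI : Finite V := Module.finite_of_finite F
  have hvZ : v ∈ span2 X.toStr v w := mem_span2.2 ⟨1, 0, by rw [X.ev_one, X.ev_zero, add_zero]⟩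
  have hwZ : w ∈ span2 X.toStr v w := mem_span2.2 ⟨0, 1, by rw [X.ev_zero, X.ev_one, zero_add]⟩
  have hself : ∀ u ∈ span2 X.toStr v w, X.B (X.topOp k e u) u = 0 := fun u hu => by
    rw [hK.topOp_self hδ]
    split_ifs with he
    · rfl
    · exact halt (by have := hK.1; omega) u hu
  set Z := span2 X.toStr v w with hZ
  have hT : ∀ x ∈ Z, X.T x ∈ Z := fun x hx => by rw [← X.ev_X]; exact span2_inv _ _ _ _ hx
  have hnd := span2_nd hK (hself v hvZ) (hself w hwZ) hvw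
  have hK' := hK.restrict Z hT hnd
  have hB : ∀ a b : Z, (X.restrict Z hT hnd).B ((X.restrict Z hT hnd).topOp k e a) b
      = X.B (X.topOp k e (a : V)) (b : V) := fun a b => by rw [← restrict_topOp X Z hT hnd]; rfl
  have hG : Gen2 (X.restrict Z hT hnd).toStr ⟨v, hvZ⟩ ⟨w, hwZ⟩ (nPoly ^ (2 * k + 1 - e))
      (nPoly ^ (2 * k + 1 - e)) := by
    refine ⟨fun z => ?_, UStr.pair_indep hK' ?_ ?_ ?_⟩
    · obtain ⟨g, l, hg⟩ := mem_span2.1 z.2
      exact ⟨g, l, Subtype.ext (by rw [Submodule.coe_add, restrict_ev', restrict_ev']; exact hg)⟩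
    · rw [hB]; exact hself v hvZ
    · rw [hB]; exact hself w hwZ
    · rw [hB]; exact hvw
  have hdim : Module.finrank F Z = 2 * (2 * k + 1 - e) := by
    rw [finrank_gen2 hG, natDegree_nPoly_pow, two_mul (2 * k + 1 - e)]
  obtain ⟨a, ha⟩ := exists_isP_W hδ hK' hdim ⟨⟨v, hvZ⟩, fun h => hvw (by
    rw [← restrict_topOp X Z hT hnd ⟨v, hvZ⟩, h, Submodule.coe_zero, map_zero, LinearMap.zero_apply])⟩
    (fun he u => by rw [restrict_lev]; exact halt he u u.2)
  exact ⟨Z, hT, hnd, a, rfl, ha⟩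

/-- A pair killed by an odd exponent, not necessarily the exponent of the whole space. -/
theorem exists_piece_W_odd (hδ : δ ≤ 1) {k : ℕ} {v w : V} (kv : (X.N ^ (2 * k + 1)) v = 0)
    (kw : (X.N ^ (2 * k + 1)) w = 0) (hvv : X.B ((X.N ^ (2 * k)) v) v = 0) (hww : X.B ((X.N ^ (2 * k)) w) w = 0)
    (hvw : X.B ((X.N ^ (2 * k)) v) w ≠ 0) (hwv : X.B ((X.N ^ (2 * k)) w) v ≠ 0) :
    ∃ (Z : Submodule F V) (hT : ∀ x ∈ Z, X.T x ∈ Z) (hnd : ∀ x ∈ Z, (∀ y ∈ Z, X.B x y = 0) → x = 0)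
      (a : Bool), Z = span2 X.toStr v w ∧ IsP (.W k 0 a) (X.restrict Z hT hnd) := by
  haveI : Finite V := Module.finite_of_finite F
  have hev : ∀ (i : ℕ) (z : V), X.ev (nPoly ^ i) z = (X.N ^ i) z := fun i z => by rw [UStr.ev_pow', UStr.ev_nPoly]
  set Z := span2 X.toStr v w with hZ
  have hT : ∀ x ∈ Z, X.T x ∈ Z := fun x hx => by rw [← X.ev_X]; exact span2_inv _ _ _ _ hx
  have hlin : ∀ (g : F[X]) (z : V), (X.N ^ (2 * k + 1)) z = 0 →
      (X.N ^ (2 * k)) (X.ev g z) = g.eval 1 • (X.N ^ (2 * k)) z := by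
    intro g z hz
    obtain ⟨d, hd⟩ : (nPoly : F[X]) ∣ g - C (g.eval 1) := by rw [nPoly_eq]; exact X_sub_C_dvd_sub_C_eval
    rw [← hev, ← hev, ← X.ev_C, ← X.ev_mul, ← X.ev_mul, ← sub_eq_zero, ← X.ev_sub]
    refine X.ev_eq_zero_of_dvd ⟨d, ?_⟩ (by rw [hev]; exact hz : X.ev (nPoly ^ (2 * k + 1)) z = 0)
    rw [pow_succ]; linear_combination (nPoly : F[X]) ^ (2 * k) * hd
  have hind : ∀ h l : F[X], (∀ g, X.B (X.ev g (X.ev h v + X.ev l w)) v = 0 ∧
      X.B (X.ev g (X.ev h v + X.ev l w)) w = 0) → nPoly ^ (2 * k + 1) ∣ h ∧ nPoly ^ (2 * k + 1) ∣ l := by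
    intro h l hperp
    suffices ∀ i ≤ 2 * k + 1, nPoly ^ i ∣ h ∧ nPoly ^ i ∣ l from this _ le_rfl
    intro i
    induction i with
    | zero => intro _; simp
    | succ i ih =>
      intro hi
      obtain ⟨⟨h₁, rfl⟩, l₁, rfl⟩ := ih (by omega)
      obtain ⟨h7, h6⟩ := hperp (nPoly ^ (2 * k - i))
      rw [map_add, ← X.ev_mul, ← X.ev_mul, ← mul_assoc, ← mul_assoc, ← pow_add,
        show 2 * k - i + i = 2 * k by omega, X.ev_mul, X.ev_mul, hev, hev, hlin _ _ kv, hlin _ _ kw] at h6 h7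
      simp only [map_add, map_smul, LinearMap.add_apply, LinearMap.smul_apply,
        hww, hvv, smul_eq_mul, mul_zero, add_zero, zero_add] at h6 h7
      rw [pow_succ, nPoly_eq]
      exact ⟨mul_dvd_mul_left _ (dvd_iff_isRoot.2 ((mul_eq_zero.1 h6).resolve_right hvw)),
        mul_dvd_mul_left _ (dvd_iff_isRoot.2 ((mul_eq_zero.1 h7).resolve_right hwv))⟩
  have hvZ : v ∈ Z := mem_span2.2 ⟨1, 0, by rw [X.ev_one, X.ev_zero, add_zero]⟩
  have hwZ : w ∈ Z := mem_span2.2 ⟨0, 1, by rw [X.ev_zero, X.ev_one, zero_add]⟩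
  have hkill : ∀ h : F[X], nPoly ^ (2 * k + 1) ∣ h → X.ev h v = 0 ∧ X.ev h w = 0 := fun h hd =>
    ⟨X.ev_eq_zero_of_dvd hd (by rw [hev]; exact kv), X.ev_eq_zero_of_dvd hd (by rw [hev]; exact kw)⟩
  have hnd : ∀ x ∈ Z, (∀ y ∈ Z, X.B x y = 0) → x = 0 := by
    intro u hu hperp
    obtain ⟨h, l, rfl⟩ := mem_span2.1 hu
    obtain ⟨d1, d2⟩ := hind h l fun g => by
      constructor <;> rw [X.adj'] <;> refine hperp _ (span2_inv _ _ _ _ ?_) <;> assumption
    rw [(hkill h d1).1, (hkill l d2).2, add_zero]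
  have hK' : (X.restrict Z hT hnd).Kill k 0 := ⟨Nat.zero_le 1, Nat.zero_le k, fun u => Subtype.ext (by
    obtain ⟨h, l, e1⟩ := mem_span2.1 u.2
    rw [restrict_N_pow, ← e1, ← hev, map_add, ← X.ev_mul, ← X.ev_mul, Submodule.coe_zero, Nat.sub_zero,
      (hkill _ (dvd_mul_right _ h)).1, (hkill _ (dvd_mul_right _ l)).2, add_zero])⟩
  have hG : Gen2 (X.restrict Z hT hnd).toStr ⟨v, hvZ⟩ ⟨w, hwZ⟩ (nPoly ^ (2 * k + 1 - 0))
      (nPoly ^ (2 * k + 1 - 0)) := by
    refine ⟨fun z => ?_, fun h l => ?_⟩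
    · obtain ⟨g, l, hg⟩ := mem_span2.1 z.2
      exact ⟨g, l, Subtype.ext (by rw [Submodule.coe_add, restrict_ev', restrict_ev']; exact hg)⟩
    · rw [← Subtype.coe_inj, Submodule.coe_add, restrict_ev', restrict_ev', Submodule.coe_zero, Nat.sub_zero]
      refine ⟨fun h0 => hind h l fun g => ?_, fun hd => by rw [(hkill h hd.1).1, (hkill l hd.2).2, add_zero]⟩
      rw [show X.ev h v + X.ev l w = 0 from h0, map_zero, map_zero]
      exact ⟨rfl, rfl⟩
  have hdim : Module.finrank F Z = 2 * (2 * k + 1 - 0) := by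
    rw [finrank_gen2 hG, natDegree_nPoly_pow, two_mul (2 * k + 1 - 0)]
  obtain ⟨a, ha⟩ := exists_isP_W hδ hK' hdim ⟨⟨v, hvZ⟩, fun h => hvw (by
    have h' := congrArg Subtype.val h
    rw [top_eq hK', restrict_ev', Submodule.coe_zero, Nat.sub_zero, hev] at h'
    rw [h', map_zero, LinearMap.zero_apply])⟩ (fun he => absurd he (by omega))
  exact ⟨Z, hT, hnd, a, rfl, ha⟩

/-- A non-degenerate invariant subspace is a summand. -/
theorem exists_ucomplement (X : UStr F δ V) (Z : Submodule F V) (hT : ∀ v ∈ Z, X.T v ∈ Z)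
    (hnd : ∀ u ∈ Z, (∀ v ∈ Z, X.B u v = 0) → u = 0) :
    ∃ (W' : Submodule F V) (Y : UStr F δ W'), Module.finrank F Z + Module.finrank F W' = Module.finrank F V ∧
      ∃ i : UIso X ((X.restrict Z hT hnd).prod Y), ∀ z : Z, i.e z = (z, 0) := by
  set Wc := LinearMap.BilinForm.orthogonal X.B Z
  have href : LinearMap.IsRefl X.B := fun u v h => X.sym_zero h
  have hres : (X.B.restrict Z).Nondegenerate :=
    ⟨fun u h => Subtype.ext (hnd u u.2 fun v hv => h ⟨v, hv⟩),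
      fun u h => Subtype.ext (hnd u u.2 fun v hv => X.sym_zero (h ⟨v, hv⟩))⟩
  have hcompl : IsCompl Z Wc := LinearMap.BilinForm.isCompl_orthogonal_of_restrict_nondegenerate href hres
  have hWT : ∀ v ∈ Wc, X.T v ∈ Wc := by
    intro v hv z hz
    obtain ⟨z', hz', rfl⟩ : ∃ z' ∈ Z, X.T z' = z := by
      obtain ⟨z', hz'⟩ := (X.restrict Z hT hnd).T.surjective ⟨z, hz⟩
      exact ⟨z', z'.2, congrArg Subtype.val hz'⟩
    show X.B (X.T z') (X.T v) = 0
    rw [X.inv]; exact hv z' hz'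
  have hWnd : ∀ u ∈ Wc, (∀ v ∈ Wc, X.B u v = 0) → u = 0 := by
    intro u hu h
    refine X.nd u fun x => ?_
    obtain ⟨z, hz, w, hw, rfl⟩ := Submodule.mem_sup.1 (hcompl.sup_eq_top.symm ▸ Submodule.mem_top (x := x))
    rw [map_add, X.sym_zero (hu z hz), h w hw, add_zero]
  have hcross : ∀ (z : Z) (w : Wc), X.B (z : V) (w : V) = 0 := fun z w => w.2 z z.2
  let j : UIso ((X.restrict Z hT hnd).prod (X.restrict Wc hWT hWnd)) X :=
    { e := Submodule.prodEquivOfIsCompl Z Wc hcompl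
      map_T := fun u => by
        simp [Submodule.coe_prodEquivOfIsCompl', UStr.prod, Str.prod_T]
        rfl
      map_B := fun u u' => by
        simp only [Submodule.coe_prodEquivOfIsCompl']
        show X.B ((u.1 : V) + u.2) (u'.1 + u'.2) = X.B (u.1 : V) u'.1 + X.B (u.2 : V) u'.2
        rw [map_add, map_add, LinearMap.add_apply, LinearMap.add_apply, hcross, X.B_comm (u.2 : V), hcross]
        ring
      map_q := fun u => by
        show X.q ((Submodule.prodEquivOfIsCompl Z Wc hcompl) u) = X.q (u.1 : V) + X.q (u.2 : V)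
        rw [Submodule.coe_prodEquivOfIsCompl', X.q_add]
        have : X.B ((X.s ^ δ) (u.1 : V)) (u.2 : V) = 0 := by
          rw [← UStr.restrict_sop_pow X Z hT hnd]; exact hcross _ _
        show _ + _ + X.B ((X.s ^ δ) (u.1 : V)) (u.2 : V) = _
        rw [this, add_zero] }
  refine ⟨Wc, _, Submodule.finrank_add_eq_of_isCompl hcompl, j.symm, fun z => ?_⟩
  apply j.e.injective
  show j.e (j.e.symm z) = _
  rw [LinearEquiv.apply_symm_apply]
  show (z : V) = Submodule.prodEquivOfIsCompl Z Wc hcompl (z, 0)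
  simp

theorem Unip.restrict {X : UStr F δ V} (h : Unip X) (Z : Submodule F V) (hT : ∀ v ∈ Z, X.T v ∈ Z)
    (hnd : ∀ u ∈ Z, (∀ v ∈ Z, X.B u v = 0) → u = 0) : Unip (X.restrict Z hT hnd) := by
  obtain ⟨m, hm⟩ := h
  exact ⟨m, fun u => Subtype.ext (by rw [restrict_N_pow]; exact hm _)⟩

theorem Unip.of_prod {U : Type v} [AddCommGroup U] [Module F U] {Y : UStr F δ W} {Z : UStr F δ U}
    (h : Unip X) (i : UIso X (Y.prod Z)) : Unip Y ∧ Unip Z := by
  obtain ⟨m, hm⟩ := h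
  have key : ∀ w, ((Y.prod Z).N ^ m) w = 0 := fun w => by
    obtain ⟨x, rfl⟩ := i.e.surjective w
    rw [← i.map_N_pow, hm, map_zero]
  refine ⟨⟨m, fun u => ?_⟩, ⟨m, fun u => ?_⟩⟩
  · have := key (u, 0); rw [UStr.prod_N_pow] at this; exact congrArg Prod.fst this
  · have := key (0, u); rw [UStr.prod_N_pow] at this; exact congrArg Prod.snd this

theorem exists_usplit [Nontrivial V] (hδ : δ ≤ 1) (hX : Unip X) :
    ∃ (κ : UKey) (Z : Submodule F V) (hT : ∀ v ∈ Z, X.T v ∈ Z)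
      (hnd : ∀ u ∈ Z, (∀ v ∈ Z, X.B u v = 0) → u = 0), Z ≠ ⊥ ∧ IsP κ (X.restrict Z hT hnd) := by
  classical
  haveI : Finite V := Module.finite_of_finite F
  set m := Nat.find hX
  have hm : ∀ u, (X.N ^ m) u = 0 := Nat.find_spec hX
  have hm1 : 1 ≤ m := by
    by_contra h
    obtain ⟨u, hu⟩ := exists_ne (0 : V)
    have := hm u
    rw [show m = 0 by omega, pow_zero] at this
    exact hu this
  obtain ⟨v, hv⟩ : ∃ v, (X.N ^ (m - 1)) v ≠ 0 := by
    have := Nat.find_min hX (show m - 1 < m by omega)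
    push Not at this
    exact this
  set k := m / 2 with hk
  set e := 1 - m % 2 with he
  have hke : 2 * k + 1 - e = m := by omega
  have hK : X.Kill k e := ⟨by omega, by omega, fun u => by rw [hke]; exact hm u⟩
  have hv' : X.topOp k e v ≠ 0 := fun h => hv (by
    rw [UStr.topOp_zero_iff X hK.1 hK.2.1, show 2 * k - e = m - 1 by omega] at h; exact h)
  have hne : ∀ {Z : Submodule F V}, v ∈ Z → Z ≠ ⊥ := fun {Z} hz hbot => by
    rw [hbot, Submodule.mem_bot] at hz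
    exact hv' (by rw [hz, map_zero])
  by_cases hV : e = 1 ∧ ∃ u, X.lev (k - δ) u ≠ 0
  · obtain ⟨he1, u, hu⟩ := hV
    rw [he1] at hK
    obtain ⟨Z, hT, hnd, a, hZ, ha⟩ := exists_piece_V hδ hK hu
    refine ⟨.V k a, Z, hT, hnd, fun hbot => hu ?_, ha⟩
    have hz : u ∈ Z := by rw [hZ]; exact mem_span1.2 ⟨1, X.ev_one u⟩
    rw [hbot, Submodule.mem_bot] at hz
    rw [hz, X.lev_zero]
  · obtain ⟨w, hw⟩ : ∃ w, X.B (X.topOp k e v) w ≠ 0 := by
      by_contra hc
      push Not at hc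
      exact hv' (X.nd _ hc)
    obtain ⟨Z, hT, hnd, a, hZ, ha⟩ := exists_piece_W hδ hK hw (fun he1 u _ => by
      by_contra h; exact hV ⟨he1, u, h⟩)
    refine ⟨.W k e a, Z, hT, hnd, hne ?_, ha⟩
    rw [hZ]; exact mem_span2.2 ⟨1, 0, by rw [X.ev_one, X.ev_zero, add_zero]⟩

end split

/-! ### Decompositions -/

/-- A decomposition with given keys. -/
def UDecomp : List UKey → ∀ {V : Type v} [AddCommGroup V] [Module F V], UStr F δ V → Prop
  | [], V, _, _, _ => Subsingleton V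
  | k :: L, _, _, _, X => ∃ (V₁ V₂ : Type v) (_ : AddCommGroup V₁) (_ : AddCommGroup V₂) (_ : Module F V₁)
      (_ : Module F V₂) (X₁ : UStr F δ V₁) (X₂ : UStr F δ V₂),
      IsP k X₁ ∧ UDecomp L X₂ ∧ Nonempty (UIso X (X₁.prod X₂))

variable {V W U : Type v} [AddCommGroup V] [Module F V] [AddCommGroup W] [Module F W] [AddCommGroup U] [Module F U]

namespace UIso

variable {X : UStr F δ V} {Y : UStr F δ W}

/-- Sums of isomorphisms. -/
def prod {V' W' : Type*} [AddCommGroup V'] [Module F V'] [AddCommGroup W'] [Module F W']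
    {X' : UStr F δ V'} {Y' : UStr F δ W'} (i : UIso X Y) (j : UIso X' Y') : UIso (X.prod X') (Y.prod Y') :=
  ⟨i.toIso.prod j.toIso, fun u => by
    show Y.q (i.e u.1) + Y'.q (j.e u.2) = X.q u.1 + X'.q u.2
    rw [i.map_q, j.map_q]⟩

/-- Commutativity. -/
def prodComm (X : UStr F δ V) (Y : UStr F δ W) : UIso (X.prod Y) (Y.prod X) :=
  ⟨Iso.prodComm X.toStr Y.toStr, fun u => add_comm (Y.q u.2) (X.q u.1)⟩

/-- Associativity. -/
def prodAssoc (X : UStr F δ V) (Y : UStr F δ W) (Z : UStr F δ U) :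
    UIso ((X.prod Y).prod Z) (X.prod (Y.prod Z)) :=
  ⟨Iso.prodAssoc X.toStr Y.toStr Z.toStr, fun u => (add_assoc (X.q u.1.1) (Y.q u.1.2) (Z.q u.2)).symm⟩

end UIso

theorem finite_ufst [FiniteDimensional F V] {X : UStr F δ V} {Y : UStr F δ W} {Z : UStr F δ U}
    (i : UIso X (Y.prod Z)) : FiniteDimensional F W ∧ FiniteDimensional F U := finite_fst i.toIso

theorem udecomp_iso {L : List UKey} {X : UStr F δ V} {Y : UStr F δ W} (i : UIso Y X) (h : UDecomp L X) :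
    UDecomp L Y := by
  cases L with
  | nil => haveI : Subsingleton V := h; exact i.e.toEquiv.subsingleton
  | cons k L =>
    obtain ⟨V₁, V₂, i₁, i₂, m₁, m₂, X₁, X₂, h1, h2, ⟨j⟩⟩ := h
    exact ⟨V₁, V₂, i₁, i₂, m₁, m₂, X₁, X₂, h1, h2, ⟨i.trans j⟩⟩

theorem udecomp_perm {L L' : List UKey} (hp : L.Perm L') :
    ∀ {V : Type v} [AddCommGroup V] [Module F V] (X : UStr F δ V), UDecomp L X → UDecomp L' X := by
  induction hp with
  | nil => intro V _ _ X h; exact h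
  | cons k _ ih =>
    intro V _ _ X h
    obtain ⟨V₁, V₂, i₁, i₂, m₁, m₂, X₁, X₂, h1, h2, j⟩ := h
    exact ⟨V₁, V₂, i₁, i₂, m₁, m₂, X₁, X₂, h1, ih X₂ h2, j⟩
  | swap a b L =>
    intro V _ _ X h
    obtain ⟨V₁, V₂, i₁, i₂, m₁, m₂, X₁, X₂, h1, ⟨V₃, V₄, i₃, i₄, m₃, m₄, X₃, X₄, h3, h4, ⟨j'⟩⟩, ⟨j⟩⟩ := h
    exact ⟨V₃, V₁ × V₄, i₃, inferInstance, m₃, inferInstance, X₃, X₁.prod X₄, h3,
      ⟨V₁, V₄, i₁, i₄, m₁, m₄, X₁, X₄, h1, h4, ⟨UIso.refl _⟩⟩,
      ⟨j.trans ((UIso.prod (UIso.refl X₁) j').trans ((UIso.prodAssoc X₁ X₃ X₄).symm.trans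
        ((UIso.prod (UIso.prodComm X₁ X₃) (UIso.refl X₄)).trans (UIso.prodAssoc X₃ X₁ X₄))))⟩⟩
  | trans _ _ ih1 ih2 => intro V _ _ X h; exact ih2 X (ih1 X h)

theorem udecomp_unique (hδ : δ ≤ 1) :
    ∀ (L : List UKey) {V W : Type v} [AddCommGroup V] [Module F V] [AddCommGroup W] [Module F W]
      [FiniteDimensional F V] [FiniteDimensional F W] (X : UStr F δ V) (Y : UStr F δ W),
      UDecomp L X → UDecomp L Y → Nonempty (UIso X Y) := by
  intro L
  induction L with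
  | nil =>
    intro V W _ _ _ _ _ _ X Y hX hY
    haveI : Subsingleton V := hX
    haveI : Subsingleton W := hY
    exact ⟨⟨⟨LinearEquiv.ofSubsingleton V W, fun _ => Subsingleton.elim _ _, fun u v => by
      rw [Subsingleton.elim u 0, map_zero, map_zero, LinearMap.zero_apply, map_zero, LinearMap.zero_apply]⟩,
      fun u => by rw [Subsingleton.elim u 0, map_zero, X.q_zero, Y.q_zero]⟩⟩
  | cons k L ih =>
    intro V W _ _ _ _ _ _ X Y hX hY
    obtain ⟨V₁, V₂, i₁, i₂, m₁, m₂, X₁, X₂, h1, h1', ⟨i⟩⟩ := hX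
    obtain ⟨W₁, W₂, j₁, j₂, n₁, n₂, Y₁, Y₂, h3, h3', ⟨j⟩⟩ := hY
    haveI := (finite_ufst i).1
    haveI := (finite_ufst i).2
    haveI := (finite_ufst j).1
    haveI := (finite_ufst j).2
    obtain ⟨a⟩ := iso_of_isP hδ h3 h1
    obtain ⟨b⟩ := ih X₂ Y₂ h1' h3'
    exact ⟨i.trans ((a.prod b).trans j.symm)⟩

theorem exists_udecomp (hδ : δ ≤ 1) :
    ∀ {V : Type v} [AddCommGroup V] [Module F V] [FiniteDimensional F V] (X : UStr F δ V),
      Unip X → ∃ L, UDecomp L X := by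
  suffices ∀ n, ∀ {V : Type v} [AddCommGroup V] [Module F V] [FiniteDimensional F V] (X : UStr F δ V),
      Module.finrank F V = n → Unip X → ∃ L, UDecomp L X from fun {V} _ _ _ X h => this _ X rfl h
  intro n
  induction n using Nat.strong_induction_on with
  | _ n ih =>
    intro V _ _ _ X hn hX
    rcases subsingleton_or_nontrivial V with hs | hs
    · exact ⟨[], hs⟩
    · obtain ⟨k, Z, hT, hnd, hZ, hk⟩ := exists_usplit hδ hX
      obtain ⟨W', Y, hdim, i, -⟩ := exists_ucomplement X Z hT hnd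
      have hpos : 0 < Module.finrank F Z :=
        Nat.pos_of_ne_zero fun h0 => hZ (Submodule.finrank_eq_zero.1 h0)
      obtain ⟨L, hL⟩ := ih (Module.finrank F W') (by omega) Y rfl (hX.of_prod i).2
      exact ⟨k :: L, Z, W', _, _, _, _, _, Y, hk, hL, ⟨i⟩⟩

theorem finrank_udecomp : ∀ (L : List UKey) {V : Type v} [AddCommGroup V] [Module F V] [FiniteDimensional F V]
    (X : UStr F δ V), UDecomp L X → Module.finrank F V = (L.map UKey.dim).sum := by
  intro L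
  induction L with
  | nil =>
    intro V _ _ _ X h
    haveI : Subsingleton V := h
    exact Module.finrank_zero_of_subsingleton
  | cons k L ih =>
    intro V _ _ _ X h
    obtain ⟨V₁, V₂, i₁, i₂, m₁, m₂, X₁, X₂, h1, h2, ⟨i⟩⟩ := h
    haveI := (finite_ufst i).1
    haveI := (finite_ufst i).2
    rw [i.e.finrank_eq, Module.finrank_prod, finrank_isP h1, ih X₂ h2, List.map_cons, List.sum_cons]

theorem valid_udecomp : ∀ (L : List UKey) {V : Type v} [AddCommGroup V] [Module F V]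
    (X : UStr F δ V), UDecomp L X → ∀ k ∈ L, k.Valid δ := by
  intro L
  induction L with
  | nil => simp
  | cons k L ih =>
    intro V _ _ X h
    obtain ⟨V₁, V₂, i₁, i₂, m₁, m₂, X₁, X₂, h1, h2, -⟩ := h
    intro k' hk'
    rcases List.mem_cons.1 hk' with rfl | hk'
    · exact valid_of_isP h1
    · exact ih X₂ h2 k' hk'

end Cfsg.Agent.H7Class.Two
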