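import Cfsg.Agent.H7Class.TwoNormal
import Cfsg.Agent.H7Class.TwoCount

/-!
# Normal multisets as configurations
-/

set_option autoImplicit false
set_option linter.unusedSectionVars false

namespace Cfsg.Agent.H7Class.Two

open Count

/-- The item of a height. -/
def itm (M : Multiset UKey) (k : ℕ) : Itm where
  w0 := if k = 0 then 0 else M.count (.W k 0 false) + M.count (.W k 0 true)
  f := if k = 0 then 0 else M.count (.W k 0 true)
  w1 := M.count (.W (k + 1) 1 false)
  c := M.count (.V (k + 1) false) + M.count (.V (k + 1) true)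
  t := M.count (.V (k + 1) true)

/-- The configuration. -/
def enc (M : Multiset UKey) : ℕ → List Itm
  | 0 => [itm M 0]
  | j + 1 => itm M (j + 1) :: enc M j

theorem enc_length (M : Multiset UKey) : ∀ j, (enc M j).length = j + 1
  | 0 => rfl
  | j + 1 => congrArg Nat.succ (enc_length M j)

/-- The keys recorded up to `j`. -/
def UKey.InRange (j : ℕ) : UKey → Prop
  | .V k _ => 1 ≤ k ∧ k ≤ j + 1
  | .W k e _ => (e = 0 ∧ k ≤ j) ∨ (e = 1 ∧ 1 ≤ k ∧ k ≤ j + 1)

instance UKey.decInRange (j : ℕ) : DecidablePred (UKey.InRange j)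
  | .V _ _ => by unfold UKey.InRange; infer_instance
  | .W _ _ _ => by unfold UKey.InRange; infer_instance

theorem UKey.Valid.inRange {δ n : ℕ} {κ : UKey} (h : κ.Valid δ) (hd : κ.dim ≤ 2 * n) : κ.InRange n := by
  cases κ with
  | V k a => simp only [UKey.dim] at hd; exact ⟨h.1, by omega⟩
  | W k e a =>
    simp only [UKey.dim] at hd
    obtain ⟨he, hek, -⟩ := h
    rcases (show e = 0 ∨ e = 1 by omega) with rfl | rfl
    · exact Or.inl ⟨rfl, by omega⟩
    · exact Or.inr ⟨rfl, hek, by omega⟩

theorem enc_add (M M' : Multiset UKey) : ∀ j,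
    lwt (enc (M + M') j) = lwt (enc M j) + lwt (enc M' j) ∧
      lpar (enc (M + M') j) = lpar (enc M j) + lpar (enc M' j) := by
  intro j
  induction j with
  | zero => simp [enc, lwt, lpar, iwt, itm, Multiset.count_add]; omega
  | succ j ih =>
    simp only [enc, lwt, lpar, enc_length, ih.1, ih.2, itm, iwt, Multiset.count_add, if_neg (Nat.succ_ne_zero j)]
    constructor <;> ring

theorem enc_empty : ∀ j, lwt (enc (0 : Multiset UKey) j) = 0 ∧ lpar (enc (0 : Multiset UKey) j) = 0 := by
  intro j
  induction j with
  | zero => simp [enc, lwt, lpar, iwt, itm]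
  | succ j ih => simp [enc, lwt, lpar, iwt, itm, ih.1, ih.2]

/-- A key contributes half its dimension and its class. -/
def khalf : UKey → ℕ
  | .V k _ => k
  | .W k e _ => 2 * k + 1 - e

/-- The class of a key. -/
def kflag : UKey → Bool
  | .V _ a => a
  | .W _ _ a => a

theorem two_khalf (κ : UKey) : 2 * khalf κ = κ.dim := by cases κ <;> rfl

theorem enc_single {δ : ℕ} {κ : UKey} (hv : κ.Valid δ) : ∀ j,
    lwt (enc {κ} j) = (if κ.InRange j then khalf κ else 0) - (if κ = .W 0 0 false ∨ κ = .W 0 0 true then 1 else 0) ∧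
      lpar (enc {κ} j) = if κ.InRange j ∧ kflag κ = true ∧ κ ≠ .W 0 0 true then 1 else 0 := by
  classical
  intro j
  induction j with
  | zero =>
    cases κ with
    | V k a =>
      obtain ⟨hk, -⟩ := hv
      by_cases h : k = 1
      · subst h; cases a <;> simp [enc, lwt, lpar, iwt, itm, khalf, kflag, UKey.InRange, Multiset.count_singleton]
      · cases a <;>
          simp [enc, lwt, lpar, iwt, itm, khalf, kflag, UKey.InRange, Multiset.count_singleton, Ne.symm h, h] <;> omega
    | W k e a =>
      obtain ⟨he, hek, ha⟩ := hv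
      rcases (show e = 0 ∨ e = 1 by omega) with rfl | rfl
      · by_cases h : k = 0
        · subst h; cases a <;> simp [enc, lwt, lpar, iwt, itm, khalf, kflag, UKey.InRange]
        · cases a <;>
            simp [enc, lwt, lpar, iwt, itm, khalf, kflag, UKey.InRange, Multiset.count_singleton, h]
      · obtain rfl : a = false := by
          cases a
          · rfl
          · exact absurd (ha rfl).1 one_ne_zero
        by_cases h : k = 1
        · subst h; simp [enc, lwt, lpar, iwt, itm, khalf, kflag, UKey.InRange]
        · simp [enc, lwt, lpar, iwt, itm, khalf, kflag, UKey.InRange, Multiset.count_singleton, Ne.symm h] <;> omega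
  | succ j ih =>
    obtain ⟨ih1, ih2⟩ := ih
    simp only [enc, lwt, lpar, enc_length, ih1, ih2]
    cases κ with
    | V k a =>
      by_cases h : k = j + 2
      · subst h; cases a <;>
          simp [iwt, itm, khalf, kflag, UKey.InRange, Multiset.count_singleton]
      · have e : (1 ≤ k ∧ k ≤ j + 1 + 1) ↔ (1 ≤ k ∧ k ≤ j + 1) := by omega
        cases a <;> simp [iwt, itm, khalf, kflag, UKey.InRange, Multiset.count_singleton, Ne.symm h, e]
    | W k e' a =>
      obtain ⟨he, hek, ha⟩ := hv
      rcases (show e' = 0 ∨ e' = 1 by omega) with rfl | rfl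
      · by_cases h : k = j + 1
        · subst h; cases a <;>
            simp [iwt, itm, khalf, kflag, UKey.InRange, Multiset.count_singleton]
        · have e : (k ≤ j + 1) ↔ (k ≤ j) := by omega
          cases a <;> simp [iwt, itm, khalf, kflag, UKey.InRange, Multiset.count_singleton, Ne.symm h, e]
      · obtain rfl : a = false := by
          cases a
          · rfl
          · exact absurd (ha rfl).1 one_ne_zero
        by_cases h : k = j + 2
        · subst h
          simp [iwt, itm, khalf, kflag, UKey.InRange, Multiset.count_singleton]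
          omega
        · have e : (1 ≤ k ∧ k ≤ j + 1 + 1) ↔ (1 ≤ k ∧ k ≤ j + 1) := by omega
          simp [iwt, itm, khalf, kflag, UKey.InRange, Multiset.count_singleton, Ne.symm h, e]

theorem nTrue_toList (M : Multiset UKey) : M.toList.countP (fun κ => kflag κ) = M.countP (fun κ => kflag κ = true) := by
  conv_rhs => rw [← Multiset.coe_toList M]
  rw [Multiset.coe_countP]
  simp

/-- Weight and parity of the configuration. -/
theorem enc_total {δ n : ℕ} : ∀ M : Multiset UKey, (∀ κ ∈ M, κ.Valid δ ∧ κ.InRange n) →
    (M.map UKey.dim).sum = 2 * (M.count (.W 0 0 false) + M.count (.W 0 0 true) + lwt (enc M n)) ∧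
      M.countP (fun κ => kflag κ = true) = M.count (.W 0 0 true) + lpar (enc M n) := by
  intro M
  induction M using Multiset.induction with
  | empty => intro _; simp [(enc_empty n).1, (enc_empty n).2]
  | cons κ M ih =>
    intro h
    obtain ⟨ih1, ih2⟩ := ih fun x hx => h x (Multiset.mem_cons_of_mem hx)
    obtain ⟨hv, hr⟩ := h κ (Multiset.mem_cons_self _ _)
    obtain ⟨s1, s2⟩ := enc_single hv n
    rw [← Multiset.singleton_add, Multiset.map_add, Multiset.sum_add, Multiset.countP_add, (enc_add _ _ n).1,
      (enc_add _ _ n).2, ih1, ih2, Multiset.count_add, Multiset.count_add, s1, s2, if_pos hr,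
      Multiset.map_singleton, Multiset.sum_singleton, ← two_khalf κ]
    have e3 : ({κ} : Multiset UKey).countP (fun κ => kflag κ = true) = if kflag κ = true then 1 else 0 := by
      rw [← Multiset.cons_zero, Multiset.countP_cons, Multiset.countP_zero, zero_add]
    rw [e3, Multiset.count_singleton, Multiset.count_singleton]
    by_cases c1 : κ = .W 0 0 false
    · subst c1; simp [khalf, kflag]; ring
    by_cases c2 : κ = .W 0 0 true
    · subst c2; simp [khalf, kflag, hr]; constructor <;> ring
    simp only [Ne.symm c1, Ne.symm c2, c1, c2, if_false, or_self, hr, if_true, true_and, ne_eq, not_false_eq_true,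
      and_true]
    constructor <;> omega

theorem enc_inj {M M' : Multiset UKey} : ∀ j, enc M j = enc M' j → ∀ k ≤ j, itm M k = itm M' k := by
  intro j
  induction j with
  | zero =>
    intro h k hk
    obtain rfl : k = 0 := by omega
    exact List.singleton_injective h
  | succ j ih =>
    intro h k hk
    rw [enc, enc, List.cons.injEq] at h
    rcases (show k = j + 1 ∨ k ≤ j by omega) with rfl | hk
    · exact h.1
    · exact ih h.2 k hk

theorem enc_injective {δ n : ℕ} {M M' : Multiset UKey} (h : ∀ κ ∈ M, κ.Valid δ ∧ κ.InRange n)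
    (h' : ∀ κ ∈ M', κ.Valid δ ∧ κ.InRange n) (h0 : M.count (.W 0 0 false) = M'.count (.W 0 0 false))
    (h1 : M.count (.W 0 0 true) = M'.count (.W 0 0 true)) (he : enc M n = enc M' n) : M = M' := by
  refine Multiset.ext.2 fun κ => ?_
  by_cases hκ : κ.Valid δ ∧ κ.InRange n
  swap
  · rw [Multiset.count_eq_zero.2 fun hm => hκ (h κ hm), Multiset.count_eq_zero.2 fun hm => hκ (h' κ hm)]
  obtain ⟨hv, hr⟩ := hκ
  have hi := enc_inj n he
  cases κ with
  | V k a =>
    obtain ⟨hk1, hk2⟩ := hr
    obtain ⟨k, rfl⟩ : ∃ i, k = i + 1 := ⟨k - 1, by omega⟩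
    have e1 := congrArg Itm.c (hi k (by omega))
    have e2 := congrArg Itm.t (hi k (by omega))
    simp only [itm] at e1 e2
    cases a <;> omega
  | W k e a =>
    obtain ⟨he', hek, ha⟩ := hv
    rcases (show e = 0 ∨ e = 1 by omega) with rfl | rfl
    · rcases Nat.eq_zero_or_pos k with rfl | hk
      · cases a <;> assumption
      · have hkn : k ≤ n := by rcases hr with ⟨-, h⟩ | ⟨h, -⟩ <;> omega
        have e1 := congrArg Itm.w0 (hi k hkn)
        have e2 := congrArg Itm.f (hi k hkn)
        simp only [itm, if_neg (show k ≠ 0 by omega)] at e1 e2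
        cases a <;> omega
    · obtain rfl : a = false := by
        cases a
        · rfl
        · exact absurd (ha rfl).1 one_ne_zero
      obtain ⟨k, rfl⟩ : ∃ i, k = i + 1 := ⟨k - 1, by omega⟩
      have hkn : k ≤ n := by rcases hr with ⟨h, -⟩ | ⟨-, -, h⟩ <;> omega
      simpa [itm] using congrArg Itm.w1 (hi k hkn)

theorem UNormal.countV {δ : ℕ} {M : Multiset UKey} (hM : UNormal δ M) (k : ℕ) :
    M.count (.V k false) + M.count (.V k true) ≤ 2 := by
  refine le_trans (le_of_eq ?_) (hM.atMostTwo k)
  clear hM
  induction M using Multiset.induction with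
  | empty => simp
  | cons κ M ih =>
    rw [Multiset.count_cons, Multiset.count_cons, Multiset.countP_cons, ← ih]
    cases κ with
    | V j a =>
      by_cases h : j = k
      · subst h; cases a <;> simp [UKey.isV] <;> omega
      · cases a <;> simp [UKey.isV, h, Ne.symm h]
    | W j e a => simp [UKey.isV]

theorem enc_mem {δ : ℕ} (hδ : δ ≤ 1) {N : ℕ} {M : Multiset UKey} (hM : UNormal δ M) (hN : Multiset.card M ≤ N) :
    ∀ j, enc M j ∈ confs N (decide (δ = 0)) (decide ((itm M 0).c ≠ 0)) j (decide ((itm M j).c ≠ 0)) := by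
  have hcnt : ∀ κ, M.count κ ≤ N := fun κ => (Multiset.count_le_card _ _).trans hN
  have hc2 : ∀ k, (itm M k).c ≤ 2 ∧ (itm M k).t ≤ 1 ∧ (itm M k).t ≤ (itm M k).c :=
    fun k => ⟨hM.countV (k + 1), hM.onceV (k + 1), Nat.le_add_left _ _⟩
  have htset : ∀ k (free : Bool), ((itm M k).t = 1 → free = true) →
      ((itm M k).c, (itm M k).t) ∈ tset (decide ((itm M k).c ≠ 0)) free := fun k free hfree => by
    obtain ⟨a, b, c⟩ := hc2 k
    by_cases h : (itm M k).c = 0
    · simp [tset, h]; omega
    · cases free <;> simp [tset, h] <;> (try simp at hfree) <;> omega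
  intro j
  induction j with
  | zero =>
    rw [enc, confs, if_pos rfl]
    refine Finset.mem_image.2 ⟨_, mem_items.2 ⟨?_, hcnt _, htset 0 _ fun h => ?_⟩, rfl⟩
    · simp [itm]
    · have hmem : UKey.V 1 true ∈ M := Multiset.count_pos.1 (by simp only [itm] at h; rw [h]; omega)
      have := (hM.valid _ hmem).2 rfl
      simp; omega
  | succ j ih =>
    rw [enc, confs]
    have key : itm M (j + 1) ∈ stepItems N (decide ((itm M j).c ≠ 0)) (decide ((itm M (j + 1)).c ≠ 0)) := by
      refine mem_items.2 ⟨?_, hcnt _, htset _ _ fun h => ?_⟩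
      · have hw : (itm M (j + 1)).w0 ≤ N + N ∧ (itm M (j + 1)).f ≤ 1 ∧ (itm M (j + 1)).f ≤ (itm M (j + 1)).w0 := by
          simp only [itm, if_neg (Nat.succ_ne_zero j)]
          exact ⟨Nat.add_le_add (hcnt _) (hcnt _), hM.onceW _, Nat.le_add_left _ _⟩
        have hw' : (itm M (j + 1)).w0 ≤ N := by
          simp only [itm, if_neg (Nat.succ_ne_zero j)]
          refine le_trans ?_ hN
          have : Multiset.replicate (M.count (.W (j + 1) 0 false)) (UKey.W (j + 1) 0 false) +
              Multiset.replicate (M.count (.W (j + 1) 0 true)) (UKey.W (j + 1) 0 true) ≤ M := by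
            refine Multiset.le_iff_count.2 fun κ => ?_
            rw [Multiset.count_add, Multiset.count_replicate, Multiset.count_replicate]
            split_ifs with a b b <;> first | omega | (subst_vars; simp at *) | skip
          simpa using Multiset.card_le_card this
        obtain ⟨-, hf1, hfw⟩ := hw
        by_cases hf : (itm M (j + 1)).f = 0
        · cases hb : (!decide ((itm M j).c ≠ 0) && !decide ((itm M (j + 1)).c ≠ 0))
          · simp [pset, hf]; omega
          · simp [pset, hf]; omega
        · have hmem : UKey.W (j + 1) 0 true ∈ M := Multiset.count_pos.1 (by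
            simp only [itm, if_neg (Nat.succ_ne_zero j)] at hf; omega)
          have h1 : (itm M j).c = 0 := by
            simp only [itm, Multiset.count_eq_zero.2 (hM.freeW _ false hmem).1,
              Multiset.count_eq_zero.2 (hM.freeW _ true hmem).1]
          have h2 : (itm M (j + 1)).c = 0 := by
            simp only [itm, Multiset.count_eq_zero.2 (hM.freeW _ false hmem).2,
              Multiset.count_eq_zero.2 (hM.freeW _ true hmem).2]
          simp [pset, h1, h2]
          omega
      · have hmem : UKey.V (j + 1 + 1) true ∈ M :=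
          Multiset.count_pos.1 (by simp only [itm] at h; rw [h]; omega)
        have h1 : (itm M j).c = 0 := by
          simp only [itm, Multiset.count_eq_zero.2 (hM.chain _ false hmem),
            Multiset.count_eq_zero.2 (hM.chain _ true hmem)]
        simp [h1]
    cases hb : decide ((itm M j).c ≠ 0) <;> rw [hb] at ih key
    · exact Finset.mem_union_left _ (Finset.mem_image.2 ⟨(enc M j, itm M (j + 1)), Finset.mem_product.2 ⟨ih, key⟩, rfl⟩)
    · exact Finset.mem_union_right _ (Finset.mem_image.2 ⟨(enc M j, itm M (j + 1)), Finset.mem_product.2 ⟨ih, key⟩, rfl⟩)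

end Cfsg.Agent.H7Class.Two
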