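import Cfsg.Agent.H7Class.TwoNormal

/-!
# The sign of a quadratic structure
-/

set_option autoImplicit false
set_option linter.unusedSectionVars false
set_option linter.style.haveILetI false
set_option linter.unusedSimpArgs false
set_option linter.unusedTactic false

namespace Cfsg.Agent.H7Class.Two

open Polynomial
open UStr (nPoly Kill)

universe v

variable {F : Type*} [Field F] [CharP F 2] [Finite F]

open scoped Classical in
/-- The character with kernel the image of `r ↦ r² + r`. -/
noncomputable def chi (a : F) : ℤ := if a ∈ (asHom F).range then 1 else -1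

theorem chi_zero : chi (0 : F) = 1 := if_pos (zero_mem _)

theorem chi_add (a b : F) : chi (a + b) = chi a * chi b := by
  classical
  have h := AddSubgroup.add_mem_iff_of_index_two (index_asHom (F := F)) (a := a) (b := b)
  unfold chi
  by_cases ha : a ∈ (asHom F).range <;> by_cases hb : b ∈ (asHom F).range <;>
    simp only [ha, hb, iff_false, false_iff, iff_true, not_false_eq_true, not_true] at h <;>
    simp [ha, hb, h]

theorem chi_as (r : F) : chi (r ^ 2 + r) = 1 := if_pos ⟨r, rfl⟩

theorem chi_asNon : chi (asNon F) = -1 := if_neg fun ⟨r, hr⟩ => asNon_spec r hr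

theorem chi_asVal (a : Bool) : chi (asVal (F := F) a) = if a then -1 else 1 := by
  cases a
  · exact chi_zero
  · exact chi_asNon

/-- The sum of a non-trivial sign character vanishes. -/
theorem sum_eq_zero {G : Type*} [AddCommGroup G] [Fintype G] (f : G → ℤ) (hf : ∀ a b, f (a + b) = f a * f b)
    {a : G} (ha : f a ≠ 1) : ∑ x, f x = 0 := by
  have h : ∑ x, f (a + x) = ∑ x, f x := Equiv.sum_comp (Equiv.addLeft a) f
  simp only [hf, ← Finset.mul_sum] at h
  have h' : (f a - 1) * ∑ x, f x = 0 := by rw [sub_mul, one_mul, h, sub_self]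
  exact (mul_eq_zero.1 h').resolve_left (sub_ne_zero.2 ha)

theorem sum_chi_mul [Fintype F] {b : F} (hb : b ≠ 0) : ∑ y : F, chi (b * y) = 0 :=
  sum_eq_zero _ (fun a c => by rw [mul_add, chi_add]) (a := b⁻¹ * asNon F)
    (by rw [← mul_assoc, mul_inv_cancel₀ hb, one_mul, chi_asNon]; norm_num)

theorem plane_sum [Fintype F] (a : F) :
    ∑ x : F, ∑ y : F, chi (x ^ 2 * a + x * y + y ^ 2) = Fintype.card F * chi a := by
  classical
  have h : ∀ x : F, ∑ y : F, chi (x ^ 2 * a + x * y + y ^ 2) = if x = 1 then (Fintype.card F : ℤ) * chi a else 0 := by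
    intro x
    have e : ∀ y : F, chi (x ^ 2 * a + x * y + y ^ 2) = chi (x ^ 2 * a) * chi ((x + 1) * y) := fun y => by
      rw [← mul_one (chi (x ^ 2 * a) * _), ← chi_as y, ← chi_add, ← chi_add]
      congr 1
      have : y + y = 0 := CharTwo.add_self_eq_zero y
      linear_combination -this
    rw [Finset.sum_congr rfl fun y _ => e y, ← Finset.mul_sum]
    split_ifs with hx
    · subst hx
      simp only [CharTwo.add_self_eq_zero, zero_mul, chi_zero, Finset.sum_const, Finset.card_univ]
      simp [mul_comm]
    · rw [sum_chi_mul fun h0 => hx (CharTwo.add_eq_zero.1 h0), mul_zero]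
  rw [Finset.sum_congr rfl fun x _ => h x, Finset.sum_ite_eq' Finset.univ (1 : F), if_pos (Finset.mem_univ _)]

variable {V W : Type v} [AddCommGroup V] [Module F V] [AddCommGroup W] [Module F W]

/-- The Gauss sum. -/
noncomputable def gauss (X : UStr F 0 V) : ℤ := ∑ᶠ u : V, chi (X.q u)

theorem gauss_iso {X : UStr F 0 V} {Y : UStr F 0 W} (i : UIso X Y) : gauss X = gauss Y :=
  finsum_eq_of_bijective i.e i.e.bijective fun u => by rw [i.map_q]

theorem gauss_prod [Finite V] [Finite W] (X : UStr F 0 V) (Y : UStr F 0 W) :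
    gauss (X.prod Y) = gauss X * gauss Y := by
  letI := Fintype.ofFinite V
  letI := Fintype.ofFinite W
  simp only [gauss, finsum_eq_sum_of_fintype, Finset.sum_mul_sum, Fintype.sum_prod_type]
  exact Finset.sum_congr rfl fun x _ => Finset.sum_congr rfl fun y _ => chi_add _ _

theorem q_add' (X : UStr F 0 V) (u v : V) : X.q (u + v) = X.q u + X.q v + X.B u v := X.q_add u v

/-- Reduction to the orthogonal of a totally singular subspace. -/
theorem gauss_orth [Finite V] (X : UStr F 0 V) (U : Submodule F V) (hU : ∀ u ∈ U, X.q u = 0) :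
    gauss X = ∑ᶠ x : LinearMap.BilinForm.orthogonal X.B U, chi (X.q x) := by
  classical
  letI := Fintype.ofFinite V
  letI := Fintype.ofFinite U
  rw [gauss, finsum_eq_sum_of_fintype]
  letI := Fintype.ofFinite (LinearMap.BilinForm.orthogonal X.B U)
  rw [finsum_eq_sum_of_fintype]
  have key : (Fintype.card U : ℤ) * ∑ x, chi (X.q x) = ∑ x, chi (X.q x) * ∑ u : U, chi (X.B x u) := by
    calc (Fintype.card U : ℤ) * ∑ x, chi (X.q x) = ∑ u : U, ∑ x, chi (X.q (x + u)) := by
          have hs : ∀ u : U, ∑ x, chi (X.q (x + u)) = ∑ x, chi (X.q x) := fun u =>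
            Equiv.sum_comp (Equiv.addRight (u : V)) fun x => chi (X.q x)
          rw [Finset.sum_congr rfl fun (u : U) _ => hs u, Finset.sum_const, Finset.card_univ, nsmul_eq_mul]
      _ = _ := by
          rw [Finset.sum_comm]
          refine Finset.sum_congr rfl fun x _ => ?_
          rw [Finset.mul_sum]
          exact Finset.sum_congr rfl fun u _ => by rw [q_add', hU u u.2, add_zero, chi_add]
  have inner : ∀ x, ∑ u : U, chi (X.B x u) =
      if x ∈ LinearMap.BilinForm.orthogonal X.B U then (Fintype.card U : ℤ) else 0 := fun x => by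
    split_ifs with hx
    · rw [Finset.sum_congr rfl fun (u : U) _ => by rw [X.B_comm, hx u u.2, chi_zero]]
      simp
    · obtain ⟨u₀, hu₀, hne⟩ : ∃ u₀ ∈ U, X.B u₀ x ≠ 0 := by
        by_contra h
        push Not at h
        exact hx h
      refine sum_eq_zero (fun u : U => chi (X.B x u)) (fun a b => by
        rw [Submodule.coe_add, map_add, chi_add]) (a := ((asNon F / X.B x u₀) • ⟨u₀, hu₀⟩ : U)) ?_
      rw [Submodule.coe_smul, map_smul, smul_eq_mul, div_mul_cancel₀ _ (by rwa [X.B_comm]), chi_asNon]
      norm_num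
  simp only [inner, mul_ite, mul_zero] at key
  rw [← Finset.sum_filter, ← Finset.sum_mul, mul_comm] at key
  refine (mul_right_cancel₀ (by exact_mod_cast Fintype.card_ne_zero) key).trans ?_
  exact Finset.sum_subtype _ (fun x => by simp) _

theorem gauss_zero_orth [FiniteDimensional F V] (X : UStr F 0 V) (U : Submodule F V) (hU : ∀ u ∈ U, X.q u = 0)
    (hd : Module.finrank F V = 2 * Module.finrank F U) : gauss X = (Nat.card F : ℤ) ^ Module.finrank F U := by
  classical
  haveI : Finite V := Module.finite_of_finite F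
  letI := Fintype.ofFinite V
  set O := LinearMap.BilinForm.orthogonal X.B U with hOdef
  have hle : U ≤ O := fun u hu z hz => by
    have := hU (z + u) (U.add_mem hz hu)
    rwa [q_add', hU u hu, hU z hz, add_zero, zero_add] at this
  have hnd : X.B.Nondegenerate := ⟨X.nd, X.nd'⟩
  have heq : O = U := (Submodule.eq_of_le_of_finrank_le hle (by
    rw [hOdef, LinearMap.BilinForm.finrank_orthogonal hnd]; omega)).symm
  rw [gauss_orth X U hU, ← hOdef, heq]
  letI := Fintype.ofFinite U
  rw [finsum_eq_sum_of_fintype, Finset.sum_congr rfl fun (u : U) _ => by rw [hU u u.2, chi_zero]]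
  rw [Finset.sum_const, Finset.card_univ, ← Nat.card_eq_fintype_card, Module.natCard_eq_pow_finrank (K := F)]
  simp

theorem gauss_plane_orth [FiniteDimensional F V] (X : UStr F 0 V) (U : Submodule F V) (hU : ∀ u ∈ U, X.q u = 0)
    {x y : V} (hx : ∀ u ∈ U, X.B u x = 0) (hy : ∀ u ∈ U, X.B u y = 0) (hxy : X.B x y = 1) (hqy : X.q y = 1)
    (hd : Module.finrank F V = 2 * (Module.finrank F U + 1)) :
    gauss X = (Nat.card F : ℤ) ^ (Module.finrank F U + 1) * chi (X.q x) := by
  classical
  haveI : Finite V := Module.finite_of_finite F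
  letI := Fintype.ofFinite V
  letI := Fintype.ofFinite U
  letI := Fintype.ofFinite F
  set O := LinearMap.BilinForm.orthogonal X.B U with hOdef
  have hUU : ∀ u ∈ U, ∀ z ∈ U, X.B z u = 0 := fun u hu z hz => by
    have := hU (z + u) (U.add_mem hz hu)
    rwa [q_add', hU u hu, hU z hz, add_zero, zero_add] at this
  let f : U × F × F →ₗ[F] O :=
    LinearMap.codRestrict O (U.subtype.coprod ((LinearMap.toSpanSingleton F V x).coprod
      (LinearMap.toSpanSingleton F V y))) (fun w z hz => by
        show X.B z ((w.1 : V) + (w.2.1 • x + w.2.2 • y)) = 0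
        rw [map_add, map_add, map_smul, map_smul, hUU _ w.1.2 z hz, hx z hz, hy z hz]
        simp)
  have hf : ∀ w, (f w : V) = (w.1 : V) + (w.2.1 • x + w.2.2 • y) := fun w => rfl
  have hinj : Function.Injective f := by
    rw [← LinearMap.ker_eq_bot, eq_bot_iff]
    rintro ⟨u, a, b⟩ hw
    have h0 : (u : V) + (a • x + b • y) = 0 := (hf _).symm.trans (congrArg Subtype.val (LinearMap.mem_ker.1 hw))
    have ha : a = 0 := by
      have := congrArg (fun z => X.B z y) h0
      simpa [hy u u.2, hxy, X.alt] using this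
    have hb : b = 0 := by
      have := congrArg (fun z => X.B z x) h0
      simpa [hx u u.2, X.B_comm y x, hxy, X.alt] using this
    subst ha hb
    simp only [zero_smul, add_zero] at h0
    simp [Subtype.ext_iff, h0]
  have hnd : X.B.Nondegenerate := ⟨X.nd, X.nd'⟩
  have hbij : Function.Bijective f := ⟨hinj, (LinearMap.injective_iff_surjective_of_finrank_eq_finrank (by
    rw [Module.finrank_prod, Module.finrank_prod, Module.finrank_self, hOdef,
      LinearMap.BilinForm.finrank_orthogonal hnd]
    omega)).1 hinj⟩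
  rw [gauss_orth X U hU, ← hOdef, finsum_eq_sum_of_fintype,
    ← Fintype.sum_bijective f hbij (fun w => chi (w.2.1 ^ 2 * X.q x + w.2.1 * w.2.2 + w.2.2 ^ 2)) _ fun w => ?_]
  · rw [Fintype.sum_prod_type]
    simp only [Fintype.sum_prod_type]
    rw [Finset.sum_const, plane_sum, Finset.card_univ, ← Nat.card_eq_fintype_card,
      Module.natCard_eq_pow_finrank (K := F), ← Nat.card_eq_fintype_card]
    push_cast
    ring
  · show _ = chi (X.q (f w : V))
    rw [hf, q_add', hU _ w.1.2, zero_add, map_add, map_smul, map_smul, hx _ w.1.2, hy _ w.1.2, smul_zero, smul_zero,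
      add_zero, add_zero, q_add', X.q_smul, X.q_smul, hqy, map_smul, map_smul, LinearMap.smul_apply, hxy]
    congr 1
    simp only [smul_eq_mul]
    ring

theorem gauss_ne_zero [Finite V] (X : UStr F 0 V) : gauss X ≠ 0 := by
  classical
  letI := Fintype.ofFinite V
  intro h
  rw [gauss, finsum_eq_sum_of_fintype] at h
  have e : (∑ x, chi (X.q x)) * (∑ y, chi (X.q y)) = (Fintype.card V : ℤ) := by
    rw [Finset.sum_mul_sum]
    calc ∑ x, ∑ y, chi (X.q x) * chi (X.q y) = ∑ x, ∑ z, chi (X.q z) * chi (X.B x z) := by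
          refine Finset.sum_congr rfl fun x _ => ?_
          rw [← Equiv.sum_comp (Equiv.addLeft x) fun y => chi (X.q x) * chi (X.q y)]
          refine Finset.sum_congr rfl fun z _ => ?_
          rw [← chi_add, ← chi_add, Equiv.coe_addLeft, q_add', ← add_assoc, ← add_assoc,
            CharTwo.add_self_eq_zero, zero_add]
      _ = ∑ z, chi (X.q z) * ∑ x, chi (X.B x z) := by
          rw [Finset.sum_comm]
          exact Finset.sum_congr rfl fun z _ => (Finset.mul_sum _ _ _).symm
      _ = _ := by
          rw [Finset.sum_eq_single (0 : V)]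
          · rw [X.q_zero, chi_zero, one_mul, Finset.sum_congr rfl fun x _ => by rw [map_zero, chi_zero]]
            simp
          · intro z _ hz
            obtain ⟨x₀, hx₀⟩ : ∃ x₀, X.B x₀ z ≠ 0 := by
              by_contra hc
              push Not at hc
              exact hz (X.nd' z hc)
            rw [sum_eq_zero (fun x => chi (X.B x z)) (fun a b => by
              rw [map_add, LinearMap.add_apply, chi_add]) (a := (asNon F / X.B x₀ z) • x₀) (by
              rw [map_smul, LinearMap.smul_apply, smul_eq_mul, div_mul_cancel₀ _ hx₀, chi_asNon]; norm_num),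
              mul_zero]
          · simp
  rw [h, zero_mul] at e
  exact Fintype.card_ne_zero (Int.ofNat_eq_zero.1 e.symm)

/-! ### The sums of the pieces -/

theorem B_N_pow (X : UStr F 0 V) (n : ℕ) (u v : V) :
    X.B ((X.N ^ n) u) ((X.N ^ n) v) = X.B ((X.s ^ n) u) v := by
  induction n generalizing u v with
  | zero => simp
  | succ n ih => rw [pow_succ, Module.End.mul_apply, Module.End.mul_apply, ih, X.B_s_N_N]

theorem s_N_zero {X : UStr F 0 V} {k e : ℕ} (hK : X.Kill k e) {a n : ℕ} (hn : 2 * k + 1 - e ≤ a + 2 * n) (u : V) :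
    (X.s ^ n) ((X.N ^ a) u) = 0 := by
  rw [← Module.End.mul_apply, ← (X.commute_N_s.pow_pow a n).eq, Module.End.mul_apply]
  exact hK.N_s hn u

/-- The polynomial multiples of `N ^ m v` of bounded degree. -/
noncomputable def slice (X : UStr F 0 V) (m d : ℕ) (v : V) : Polynomial.degreeLT F d →ₗ[F] V :=
  (evalAt X.toStr v).comp ((LinearMap.mulLeft F ((nPoly : F[X]) ^ m)).comp (Polynomial.degreeLT F d).subtype)

theorem slice_apply [Finite V] [FiniteDimensional F V] (X : UStr F 0 V) (m d : ℕ) (v : V) (p : Polynomial.degreeLT F d) :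
    slice X m d v p = (X.N ^ m) (X.ev p v) := by
  show X.ev (nPoly ^ m * (p : F[X])) v = _
  rw [X.ev_mul, UStr.ev_pow', UStr.ev_nPoly]

theorem slice_dvd {m d : ℕ} {p : Polynomial.degreeLT F d} (h : (nPoly : F[X]) ^ (m + d) ∣ nPoly ^ m * (p : F[X])) :
    p = 0 := by
  rw [pow_add, mul_dvd_mul_iff_left (pow_ne_zero _ nPoly_monic.ne_zero)] at h
  refine Subtype.ext (eq_zero_of_dvd_of_degree_lt h ?_)
  rw [degree_eq_natDegree (pow_ne_zero _ nPoly_monic.ne_zero), natDegree_nPoly_pow]
  exact Polynomial.mem_degreeLT.1 p.2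

theorem finrank_degreeLT (d : ℕ) :
    FiniteDimensional F (Polynomial.degreeLT F d) ∧ Module.finrank F (Polynomial.degreeLT F d) = d :=
  ⟨(Polynomial.degreeLTEquiv F d).symm.finiteDimensional,
    (Polynomial.degreeLTEquiv F d).finrank_eq.trans (Module.finrank_fin_fun F)⟩

theorem gauss_V [FiniteDimensional F V] {k : ℕ} {a : Bool} {X : UStr F 0 V} (h : IsP (.V k a) X) :
    gauss X = (Nat.card F : ℤ) ^ k * chi (asVal a : F) := by
  haveI : Finite V := Module.finite_of_finite F
  obtain ⟨v, G, hv⟩ := UStr.exists_normV (Nat.zero_le 1) h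
  obtain ⟨k, rfl⟩ : ∃ k', k = k' + 1 := ⟨k - 1, by have := h.1.1; omega⟩
  have hK : X.Kill (k + 1) 1 := Kill.of_gen1 le_rfl (by omega) G
  have hinj : Function.Injective (slice X (k + 2) k v) := (injective_iff_map_eq_zero _).2 fun p hp =>
    slice_dvd (m := k + 2) (by
      rw [show k + 2 + k = 2 * (k + 1) + 1 - 1 by omega]
      exact (G.2 _).1 hp)
  have hU : Module.finrank F (LinearMap.range (slice X (k + 2) k v)) = k := by
    rw [LinearMap.finrank_range_of_inj hinj, (finrank_degreeLT k).2]
  have hx : X.q ((X.N ^ k) v) = asVal a := by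
    have := hv k
    rw [UStr.stdV, if_neg (by omega), if_pos (by omega)] at this
    exact this
  have hy : X.q ((X.N ^ (k + 1)) v) = 1 := by
    have := hv (k + 1)
    rw [UStr.stdV, if_pos (by omega)] at this
    exact this
  rw [gauss_plane_orth X (LinearMap.range (slice X (k + 2) k v)) ?_ (x := (X.N ^ k) v) (y := (X.N ^ (k + 1)) v)
    ?_ ?_ ?_ hy ?_, hU, hx]
  · rintro _ ⟨p, rfl⟩
    rw [slice_apply]
    exact hK.lev_eq_zero (Nat.zero_le 1) (by omega) _
  · rintro _ ⟨p, rfl⟩
    rw [slice_apply, show k + 2 = k + 2 from rfl, pow_add, Module.End.mul_apply, B_N_pow,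
      s_N_zero hK (by omega), map_zero, LinearMap.zero_apply]
  · rintro _ ⟨p, rfl⟩
    rw [slice_apply, show k + 2 = (k + 1) + 1 from rfl, pow_add, Module.End.mul_apply, B_N_pow,
      s_N_zero hK (by omega), map_zero, LinearMap.zero_apply]
  · rw [pow_succ' X.N k, Module.End.mul_apply]
    generalize hu : (X.N ^ k) v = u at *
    have h2 := X.q_TN u
    rw [show (1 - 0 : ℕ) = 1 from rfl, UStr.lev, pow_one] at h2
    rw [pow_succ' X.N k, Module.End.mul_apply, hu] at hy
    rw [X.N_apply, map_add, X.alt, add_zero, X.B_comm, ← h2, hy]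
  · rw [hU]
    have := finrank_isP h
    simp only [UKey.dim] at this
    exact this

theorem gauss_W [FiniteDimensional F V] {k e : ℕ} {a : Bool} {X : UStr F 0 V} (h : IsP (.W k e a) X) :
    gauss X = (Nat.card F : ℤ) ^ (2 * k + 1 - e) * chi (asVal a : F) := by
  haveI : Finite V := Module.finite_of_finite F
  have he := h.1.1
  have hek := h.1.2.1
  have hdim : Module.finrank F V = 2 * (2 * k + 1 - e) := finrank_isP h
  have hδ : 0 ≤ 1 := Nat.zero_le 1
  cases a with
  | false =>
    obtain ⟨v, w, G, -, hv, hw⟩ := UStr.exists_normW hδ h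
    have hK : X.Kill k e := Kill.of_gen2 he hek G
    haveI := (finrank_degreeLT (F := F) (k + 1 - e)).1
    haveI := (finrank_degreeLT (F := F) k).1
    set f := (slice X k (k + 1 - e) v).coprod (slice X (k + 1 - e) k w)
    have hinj : Function.Injective f := (injective_iff_map_eq_zero _).2 fun p hp => by
      obtain ⟨h1, h2⟩ := (G.2 _ _).1 hp
      refine Prod.ext (slice_dvd (m := k) ?_) (slice_dvd (m := k + 1 - e) ?_)
      · rwa [show k + (k + 1 - e) = 2 * k + 1 - e by omega]
      · rwa [show k + 1 - e + k = 2 * k + 1 - e by omega]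
    have hU : Module.finrank F (LinearMap.range f) = 2 * k + 1 - e := by
      rw [LinearMap.finrank_range_of_inj hinj, Module.finrank_prod, (finrank_degreeLT _).2, (finrank_degreeLT _).2]
      omega
    rw [gauss_zero_orth X (LinearMap.range f) ?_ (by rw [hU]; exact hdim), hU,
      show chi (asVal false : F) = 1 from chi_zero, mul_one]
    rintro _ ⟨p, rfl⟩
    rw [LinearMap.coprod_apply, slice_apply, slice_apply, q_add']
    have e1 : X.q ((X.N ^ k) (X.ev (p.1 : F[X]) v)) = 0 := UStr.lev_ev_zero hδ hv k _
    have e2 : X.q ((X.N ^ (k + 1 - e)) (X.ev (p.2 : F[X]) w)) = 0 := UStr.lev_ev_zero hδ hw (k + 1 - e) _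
    rw [e1, e2, zero_add, zero_add]
    generalize X.ev (p.1 : F[X]) v = z₁
    generalize X.ev (p.2 : F[X]) w = z₂
    clear p e1 e2
    rcases (show e = 0 ∨ e = 1 by omega) with rfl | rfl
    · rw [show k + 1 - 0 = k + 1 from rfl, pow_succ, Module.End.mul_apply, B_N_pow, UStr.s_pow_adj]
      have := s_N_zero hK (a := 1) (n := k) (by omega) z₂
      rw [pow_one] at this
      rw [this, map_zero]
    · rw [show k + 1 - 1 = k from rfl, B_N_pow]
      have := hK.N_s (a := 0) (n := k) (by omega) z₁
      rw [pow_zero, Module.End.one_apply] at this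
      rw [this, map_zero, LinearMap.zero_apply]
  | true =>
    obtain ⟨rfl, -, v, w, G, hp, hv, hw⟩ := UStr.exists_normW' hδ h
    have hK : X.Kill k 0 := Kill.of_gen2 (Nat.zero_le 1) (Nat.zero_le k) G
    haveI := (finrank_degreeLT (F := F) k).1
    set f := (slice X (k + 1) k v).coprod (slice X (k + 1) k w)
    have hinj : Function.Injective f := (injective_iff_map_eq_zero _).2 fun p hp => by
      obtain ⟨h1, h2⟩ := (G.2 _ _).1 hp
      exact Prod.ext (slice_dvd (m := k + 1) (by rwa [show k + 1 + k = 2 * k + 1 - 0 by omega]))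
        (slice_dvd (m := k + 1) (by rwa [show k + 1 + k = 2 * k + 1 - 0 by omega]))
    have hU : Module.finrank F (LinearMap.range f) = 2 * k := by
      rw [LinearMap.finrank_range_of_inj hinj, Module.finrank_prod, (finrank_degreeLT _).2]
      omega
    have horth : ∀ z, ∀ u ∈ LinearMap.range f, X.B u ((X.N ^ k) z) = 0 := by
      rintro z _ ⟨p, rfl⟩
      rw [LinearMap.coprod_apply, slice_apply, slice_apply, map_add, LinearMap.add_apply, add_comm k 1]
      simp only [add_comm 1 k]
      rw [pow_add, Module.End.mul_apply, Module.End.mul_apply, B_N_pow, B_N_pow, s_N_zero hK (by omega),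
        s_N_zero hK (by omega), map_zero, LinearMap.zero_apply, add_zero]
    rw [gauss_plane_orth X (LinearMap.range f) ?_ (x := (X.N ^ k) w) (y := (X.N ^ k) v) (horth w) (horth v)
      ?_ ?_ (by rw [hU]; omega), hU, show 2 * k + 1 - 0 = 2 * k + 1 from rfl]
    · congr 1
      exact congrArg chi hw
    · rintro _ ⟨p, rfl⟩
      rw [LinearMap.coprod_apply, slice_apply, slice_apply, ← map_add]
      exact hK.lev_eq_zero hδ (by omega) _
    · rw [B_N_pow, UStr.s_pow_adj, X.B_comm]
      simpa [UStr.topOp] using hp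
    · have := hv k
      rw [if_pos (by omega)] at this
      exact this

/-- The number of pieces with non-trivial class. -/
def nTrue (L : List UKey) : ℕ := L.countP fun κ => match κ with | .V _ a => a | .W _ _ a => a

theorem gauss_udecomp : ∀ (L : List UKey) {V : Type v} [AddCommGroup V] [Module F V] [FiniteDimensional F V]
    (X : UStr F 0 V) (n : ℕ), UDecomp L X → Module.finrank F V = 2 * n →
      gauss X = (-1) ^ nTrue L * (Nat.card F : ℤ) ^ n := by
  intro L
  induction L with
  | nil =>
    intro V _ _ _ X n h hn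
    haveI : Subsingleton V := h
    rw [Module.finrank_zero_of_subsingleton] at hn
    obtain rfl : n = 0 := by omega
    haveI : Unique V := uniqueOfSubsingleton 0
    rw [gauss, finsum_unique, Subsingleton.elim default (0 : V), X.q_zero, chi_zero]
    simp [nTrue]
  | cons κ L ih =>
    intro V _ _ _ X n h hn
    obtain ⟨V₁, V₂, i₁, i₂, m₁, m₂, X₁, X₂, h1, h2, ⟨i⟩⟩ := h
    haveI := (finite_ufst i).1
    haveI := (finite_ufst i).2
    haveI : Finite V₁ := Module.finite_of_finite F
    haveI : Finite V₂ := Module.finite_of_finite F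
    rw [gauss_iso i, gauss_prod]
    have hd : κ.dim + Module.finrank F V₂ = 2 * n := by
      rw [← finrank_isP h1, ← Module.finrank_prod, ← i.e.finrank_eq, hn]
    cases κ with
    | V k a =>
      simp only [UKey.dim] at hd
      rw [gauss_V h1, ih X₂ (n - k) h2 (by omega), chi_asVal,
        show n = k + (n - k) by omega, pow_add, show k + (n - k) - k = n - k by omega]
      cases a <;> simp [nTrue, List.countP_cons, pow_succ] <;> ring
    | W k e a =>
      simp only [UKey.dim] at hd
      rw [gauss_W h1, ih X₂ (n - (2 * k + 1 - e)) h2 (by omega), chi_asVal,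
        show n = (2 * k + 1 - e) + (n - (2 * k + 1 - e)) by omega, pow_add,
        show (2 * k + 1 - e) + (n - (2 * k + 1 - e)) - (2 * k + 1 - e) = n - (2 * k + 1 - e) by omega]
      cases a <;> simp [nTrue, List.countP_cons, pow_succ] <;> ring

end Cfsg.Agent.H7Class.Two
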