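import Cfsg.Agent.H7Class.TwoIso
import Cfsg.Agent.H7Class.Decomp

/-!
# Generators and pairings of unipotent structures in characteristic two
-/

set_option autoImplicit false
set_option linter.unusedSectionVars false

namespace Cfsg.Agent.H7Class.Two

open Polynomial
open UStr (nPoly)

variable {F : Type*} [Field F] [CharP F 2] {δ : ℕ} {V W : Type*} [AddCommGroup V] [Module F V]
  [AddCommGroup W] [Module F W]

theorem nPoly_eq : (nPoly : F[X]) = Polynomial.X - C 1 := by
  rw [nPoly, C_1, CharTwo.sub_eq_add]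

theorem irreducible_nPoly : Irreducible (nPoly : F[X]) := by rw [nPoly_eq]; exact irreducible_X_sub_C 1

theorem nPoly_monic : (nPoly : F[X]).Monic := by rw [nPoly_eq]; exact monic_X_sub_C 1

theorem natDegree_nPoly_pow (m : ℕ) : ((nPoly : F[X]) ^ m).natDegree = m := by
  rw [natDegree_pow, nPoly_eq, natDegree_X_sub_C, mul_one]

theorem nPoly_eval : (nPoly : F[X]).eval 1 = 0 := by simp [nPoly_eq]

namespace UStr

variable {X : UStr F δ V} {k e : ℕ} [Finite V] [FiniteDimensional F V]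

theorem kill_iff : X.Kill k e ↔ e ≤ 1 ∧ e ≤ k ∧ ∀ u, X.ev (nPoly ^ (2 * k + 1 - e)) u = 0 := by
  rw [Kill, ev_pow', ev_nPoly]

theorem Kill.of_gen1 (he : e ≤ 1) (hek : e ≤ k) {v : V} (G : Gen1 X.toStr v (nPoly ^ (2 * k + 1 - e))) :
    X.Kill k e := kill_iff.2 ⟨he, hek, fun u => by
  obtain ⟨h, rfl⟩ := G.1 u
  rw [← X.ev_mul]
  exact (G.2 _).2 (dvd_mul_right _ _)⟩

theorem Kill.of_gen2 (he : e ≤ 1) (hek : e ≤ k) {v w : V}
    (G : Gen2 X.toStr v w (nPoly ^ (2 * k + 1 - e)) (nPoly ^ (2 * k + 1 - e))) : X.Kill k e :=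
  kill_iff.2 ⟨he, hek, fun u => by
    obtain ⟨h, l, rfl⟩ := G.1 u
    rw [map_add, ← X.ev_mul, ← X.ev_mul]
    exact (G.2 _ _).2 ⟨dvd_mul_right _ _, dvd_mul_right _ _⟩⟩

theorem top_eq (hK : X.Kill k e) (u : V) : X.topOp k e u = X.ev (nPoly ^ (2 * k - e)) u := by
  have he := hK.1
  have hek := hK.2.1
  rw [ev_pow', ev_nPoly, show 2 * k - e = e + 2 * (k - e) by omega, pow_add, Module.End.mul_apply, ← t_s_pow,
    topOp, Module.End.mul_apply]
  rw [← Module.End.mul_apply (X.N ^ e) (X.t ^ (k - e)), (X.commute_N_t.pow_pow e (k - e)).eq, Module.End.mul_apply]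
  set z := (X.N ^ e) ((X.s ^ (k - e)) u)
  have hfix : X.T z = z := by
    have h : X.N z = 0 := by
      have := hK.N_s (a := e + 1) (n := k - e) (by omega) u
      rwa [pow_succ', Module.End.mul_apply] at this
    rw [N_apply] at h
    calc X.T z = X.T z + (z + z) := by rw [add_self_vec (F := F), add_zero]
      _ = z := by rw [← add_assoc, h, zero_add]
  induction k - e with
  | zero => rfl
  | succ n ih => rw [pow_succ, Module.End.mul_apply, t_apply, hfix, ← ih]

theorem top_ev (hK : X.Kill k e) (h : F[X]) (u : V) :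
    X.topOp k e (X.ev h u) = h.eval 1 • X.topOp k e u := by
  rw [top_eq hK, top_eq hK]
  obtain ⟨d, hd⟩ : (nPoly : F[X]) ∣ h - C (h.eval 1) := by rw [nPoly_eq]; exact X_sub_C_dvd_sub_C_eval
  rw [← X.ev_C, ← X.ev_mul, ← X.ev_mul, ← sub_eq_zero, ← X.ev_sub,
    show nPoly ^ (2 * k - e) * h - C (h.eval 1) * nPoly ^ (2 * k - e) = nPoly ^ (2 * k - e + 1) * d by
      rw [pow_succ]; linear_combination (nPoly : F[X]) ^ (2 * k - e) * hd,
    X.ev_mul, show 2 * k - e + 1 = 2 * k + 1 - e by have := hK.1; have := hK.2.1; omega]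
  exact (kill_iff.1 hK).2.2 _

theorem ann_top (hK : X.Kill k e) {v : V} (hv : X.topOp k e v ≠ 0) (h : F[X]) :
    X.ev h v = 0 ↔ nPoly ^ (2 * k + 1 - e) ∣ h := by
  have hm : 2 * k + 1 - e - 1 = 2 * k - e := by omega
  refine X.ann_iff irreducible_nPoly (e := 2 * k + 1 - e) (by have := hK.1; have := hK.2.1; omega) ((kill_iff.1 hK).2.2 v) ?_ h
  rw [hm, ← top_eq hK]; exact hv

theorem gen1_of (hK : X.Kill k e) {v : V} (hv : X.topOp k e v ≠ 0)
    (hdim : Module.finrank F V = 2 * k + 1 - e) : Gen1 X.toStr v (nPoly ^ (2 * k + 1 - e)) := by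
  refine ⟨?_, ann_top hK hv⟩
  have hk : LinearMap.ker (evalAt X.toStr v) = (Ideal.span {(nPoly : F[X]) ^ (2 * k + 1 - e)}).restrictScalars F :=
    Submodule.ext fun h => (ann_top hK hv h).trans Ideal.mem_span_singleton.symm
  have hr : Module.finrank F (LinearMap.range (evalAt X.toStr v)) = Module.finrank F V := by
    rw [← (evalAt X.toStr v).quotKerEquivRange.finrank_eq, (Submodule.quotEquivOfEq _ _ hk).finrank_eq,
      (Submodule.Quotient.restrictScalarsEquiv F _).finrank_eq, finrank_quotient_span_eq_natDegree,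
      natDegree_nPoly_pow, hdim]
  exact LinearMap.range_eq_top.1 (Submodule.eq_top_of_finrank_eq hr)

theorem pair_indep (hK : X.Kill k e) {v w : V} (hvv : X.B (X.topOp k e v) v = 0)
    (hww : X.B (X.topOp k e w) w = 0) (hvw : X.B (X.topOp k e v) w ≠ 0) (h l : F[X]) :
    X.ev h v + X.ev l w = 0 ↔ nPoly ^ (2 * k + 1 - e) ∣ h ∧ nPoly ^ (2 * k + 1 - e) ∣ l := by
  refine ⟨fun hsum => ?_, fun ⟨h1, h2⟩ => by
    rw [X.ev_eq_zero_of_dvd h1 ((kill_iff.1 hK).2.2 v), X.ev_eq_zero_of_dvd h2 ((kill_iff.1 hK).2.2 w), add_zero]⟩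
  suffices ∀ i ≤ 2 * k + 1 - e, nPoly ^ i ∣ h ∧ nPoly ^ i ∣ l from this _ le_rfl
  intro i
  induction i with
  | zero => intro _; simp
  | succ i ih =>
    intro hi
    obtain ⟨⟨h₁, rfl⟩, l₁, rfl⟩ := ih (by omega)
    have h5 := congrArg (X.ev (nPoly ^ (2 * k - e - i))) hsum
    rw [map_add, map_zero, ← X.ev_mul, ← X.ev_mul, ← mul_assoc, ← mul_assoc, ← pow_add,
      show 2 * k - e - i + i = 2 * k - e by omega, X.ev_mul, X.ev_mul, ← top_eq hK, ← top_eq hK, top_ev hK,
      top_ev hK] at h5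
    have h6 := congrArg (fun z => X.B z w) h5
    have h7 := congrArg (fun z => X.B z v) h5
    simp only [map_add, map_smul, LinearMap.add_apply, LinearMap.smul_apply, map_zero, LinearMap.zero_apply,
      hww, hvv, smul_eq_mul, mul_zero, add_zero, zero_add] at h6 h7
    rw [hK.topOp_symm w, X.B_comm] at h7
    have e1 : h₁.eval 1 = 0 := (mul_eq_zero.1 h6).resolve_right hvw
    have e2 : l₁.eval 1 = 0 := (mul_eq_zero.1 h7).resolve_right hvw
    rw [pow_succ, nPoly_eq]
    exact ⟨mul_dvd_mul_left _ (dvd_iff_isRoot.2 e1), mul_dvd_mul_left _ (dvd_iff_isRoot.2 e2)⟩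

theorem gen2_of (hK : X.Kill k e) {v w : V} (hvv : X.B (X.topOp k e v) v = 0)
    (hww : X.B (X.topOp k e w) w = 0) (hvw : X.B (X.topOp k e v) w ≠ 0)
    (hdim : Module.finrank F V = 2 * (2 * k + 1 - e)) :
    Gen2 X.toStr v w (nPoly ^ (2 * k + 1 - e)) (nPoly ^ (2 * k + 1 - e)) := by
  refine ⟨?_, pair_indep hK hvv hww hvw⟩
  set p := (nPoly : F[X]) ^ (2 * k + 1 - e)
  set f := (evalAt X.toStr v).coprod (evalAt X.toStr w)
  let I := (Ideal.span {p}).restrictScalars F
  have hk : LinearMap.ker f = I.prod I := Submodule.ext fun h =>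
    (pair_indep hK hvv hww hvw h.1 h.2).trans (Iff.and Ideal.mem_span_singleton.symm Ideal.mem_span_singleton.symm)
  let g : (F[X] × F[X]) →ₗ[F] (F[X] ⧸ I) × (F[X] ⧸ I) := I.mkQ.prodMap I.mkQ
  have hg : Function.Surjective g := I.mkQ_surjective.prodMap I.mkQ_surjective
  have hgk : LinearMap.ker g = I.prod I := by rw [LinearMap.ker_prodMap, Submodule.ker_mkQ]
  have hfin : Module.Finite F (F[X] ⧸ Ideal.span {p}) :=
    (AdjoinRoot.powerBasis ((nPoly_monic (F := F)).pow _).ne_zero).finite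
  have : FiniteDimensional F (F[X] ⧸ I) :=
    Module.Finite.equiv (Submodule.Quotient.restrictScalarsEquiv F (Ideal.span {p})).symm
  have hr : Module.finrank F (LinearMap.range f) = Module.finrank F V := by
    rw [← f.quotKerEquivRange.finrank_eq, (Submodule.quotEquivOfEq _ _ (hk.trans hgk.symm)).finrank_eq,
      (g.quotKerEquivOfSurjective hg).finrank_eq, Module.finrank_prod,
      (Submodule.Quotient.restrictScalarsEquiv F _).finrank_eq, finrank_quotient_span_eq_natDegree,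
      natDegree_nPoly_pow, hdim]
    omega
  intro u
  obtain ⟨⟨h, l⟩, e'⟩ := LinearMap.range_eq_top.1 (Submodule.eq_top_of_finrank_eq hr) u
  exact ⟨h, l, e'⟩

/-- Functionals on the module of a generator are pairings with the module of a partner. -/
theorem exists_rep (hK : X.Kill k e) {v w : V} (hvw : X.B (X.topOp k e v) w ≠ 0) (ψ : V →ₗ[F] F) :
    ∃ h, ∀ g, X.B (X.ev g v) (X.ev h w) = ψ (X.ev g v) := by
  have hv : X.topOp k e v ≠ 0 := fun h => hvw (by rw [h, map_zero, LinearMap.zero_apply])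
  have hw : X.topOp k e w ≠ 0 := fun h => hvw (by rw [hK.topOp_symm, h, map_zero])
  let A := span1 X.toStr v
  let C' := span1 X.toStr w
  let Φ : C' →ₗ[F] Module.Dual F A := (X.B.flip.compl₂ A.subtype).comp C'.subtype
  have hΦ : ∀ (c : C') (a : A), Φ c a = X.B (a : V) (c : V) := fun c a => rfl
  have hinj : Function.Injective Φ := by
    rw [← LinearMap.ker_eq_bot, eq_bot_iff]
    intro c hc
    obtain ⟨h, hh⟩ := mem_span1.1 c.2
    rw [Submodule.mem_bot]
    refine Subtype.ext ?_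
    rw [Submodule.coe_zero, ← hh]
    by_contra hne
    have he0 : 2 * k + 1 - e ≠ 0 := by have := hK.1; have := hK.2.1; omega
    obtain ⟨d, hd⟩ := X.socle irreducible_nPoly he0
      ((kill_iff.1 hK).2.2 w) (by rw [show 2 * k + 1 - e - 1 = 2 * k - e by omega, ← top_eq hK]; exact hw) hne
      (q := nPoly ^ (2 * k - e)) (by
        rw [← pow_succ', show 2 * k - e + 1 = 2 * k + 1 - e by have := hK.1; have := hK.2.1; omega]
        exact (kill_iff.1 hK).2.2 w)
    apply hvw
    rw [hK.topOp_symm, top_eq hK, ← hd, hh, Str.adjPoly_right]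
    have h0 := LinearMap.congr_fun (LinearMap.mem_ker.1 hc) ⟨_, mem_span1.2 ⟨X.adjPoly d, rfl⟩⟩
    exact h0
  have hdim : ∀ {z : V}, X.topOp k e z ≠ 0 → Module.finrank F (span1 X.toStr z) = 2 * k + 1 - e := by
    intro z hz
    have hk : LinearMap.ker (evalAt X.toStr z) = (Ideal.span {(nPoly : F[X]) ^ (2 * k + 1 - e)}).restrictScalars F :=
      Submodule.ext fun h => (ann_top hK hz h).trans Ideal.mem_span_singleton.symm
    show Module.finrank F (LinearMap.range (evalAt X.toStr z)) = _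
    rw [← (evalAt X.toStr z).quotKerEquivRange.finrank_eq, (Submodule.quotEquivOfEq _ _ hk).finrank_eq,
      (Submodule.Quotient.restrictScalarsEquiv F _).finrank_eq, finrank_quotient_span_eq_natDegree,
      natDegree_nPoly_pow]
  have hsurj : Function.Surjective Φ := (LinearMap.injective_iff_surjective_of_finrank_eq_finrank (by
    rw [Subspace.dual_finrank_eq, hdim hw, hdim hv])).1 hinj
  obtain ⟨c, hc⟩ := hsurj (ψ.comp A.subtype)
  obtain ⟨h, hh⟩ := mem_span1.1 c.2
  refine ⟨h, fun g => ?_⟩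
  have := LinearMap.congr_fun hc ⟨_, mem_span1.2 ⟨g, rfl⟩⟩
  rw [hΦ] at this
  rw [hh]
  exact this

/-! ### Isomorphisms from generators -/

theorem B_ev_left (X : UStr F δ V) (h l : F[X]) (u v : V) :
    X.B (X.ev h u) (X.ev l v) = X.B (X.ev (X.adjPoly l * h) u) v := by
  rw [X.ev_mul, Str.adjPoly_right]

theorem iso_gen1 (hδ : δ ≤ 1) {Y : UStr F δ W} {v : V} {w : W} {p : F[X]} (G : Gen1 X.toStr v p)
    (H : Gen1 Y.toStr w p) (h : ∀ i, Y.lev i w = X.lev i v) : Nonempty (UIso Y X) := by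
  obtain ⟨φ, hφ, hφv⟩ := exists_equiv1 G H
  have hv : φ v = w := by have := hφv 1; rwa [X.ev_one, Y.ev_one] at this
  set Y' := Y.pull X.T φ hφ
  have hl : ∀ i, Y'.lev i v = X.lev i v := fun i => by
    rw [← h, ← hv]; exact ((Y.pullIso X.T φ hφ).map_lev i v).symm
  have hB := agree_diag hδ (X := X) (Y := Y') rfl hl
  have hev : ∀ g, Y'.ev g = X.ev g := fun g => Str.ev_eq_of_T_eq rfl g
  refine ⟨(Y.pullIso X.T φ hφ).symm.trans ⟨⟨LinearEquiv.refl F V, fun _ => rfl, fun a b => ?_⟩, fun a => ?_⟩⟩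
  · obtain ⟨f, rfl⟩ := G.1 a
    obtain ⟨g, rfl⟩ := G.1 b
    show X.B (X.ev f v) (X.ev g v) = Y'.B (X.ev f v) (X.ev g v)
    rw [← hev f, ← hev g, B_ev_left, hev f, hev g, B_ev_left, hev, hB]
    congr 2
  · obtain ⟨f, rfl⟩ := G.1 a
    exact (agree_q (X := X) (Y := Y') rfl (hl 0) hB f).symm

theorem iso_gen2 (hδ : δ ≤ 1) {Y : UStr F δ W} {v v' : V} {w w' : W} {p p' : F[X]}
    (G : Gen2 X.toStr v v' p p') (H : Gen2 Y.toStr w w' p p') (h : ∀ i, Y.lev i w = X.lev i v)
    (h' : ∀ i, Y.lev i w' = X.lev i v') (hm : ∀ g, Y.B (Y.ev g w) w' = X.B (X.ev g v) v') :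
    Nonempty (UIso Y X) := by
  obtain ⟨φ, hφ, hφv⟩ := exists_equiv2 G H
  have hv : φ v = w := by
    have := hφv 1 0
    rwa [X.ev_one, Y.ev_one, X.ev_zero, Y.ev_zero, add_zero, add_zero] at this
  have hv' : φ v' = w' := by
    have := hφv 0 1
    rwa [X.ev_one, Y.ev_one, X.ev_zero, Y.ev_zero, zero_add, zero_add] at this
  set Y' := Y.pull X.T φ hφ
  have hl : ∀ i, Y'.lev i v = X.lev i v := fun i => by
    rw [← h, ← hv]; exact ((Y.pullIso X.T φ hφ).map_lev i v).symm
  have hl' : ∀ i, Y'.lev i v' = X.lev i v' := fun i => by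
    rw [← h', ← hv']; exact ((Y.pullIso X.T φ hφ).map_lev i v').symm
  have hev : ∀ g, Y'.ev g = X.ev g := fun g => Str.ev_eq_of_T_eq rfl g
  have hadj : ∀ (g : F[X]) z, X.ev (Y'.adjPoly g) z = X.ev (X.adjPoly g) z := fun g z => by
    rw [← hev, Y'.ev_adjPoly, X.ev_adjPoly]; rfl
  have hB := agree_diag hδ (X := X) (Y := Y') rfl hl
  have hB' := agree_diag hδ (X := X) (Y := Y') rfl hl'
  have hM : ∀ g, Y'.B (X.ev g v) v' = X.B (X.ev g v) v' := fun g => by
    show Y.B (φ (X.ev g v)) (φ v') = _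
    rw [← hm, hv']
    congr 2
    have := hφv g 0
    rwa [X.ev_zero, Y.ev_zero, add_zero, add_zero] at this
  have hM' : ∀ g, Y'.B (X.ev g v') v = X.B (X.ev g v') v := fun g => by
    rw [X.B_comm _ v, X.adjPoly_right, Y'.B_comm _ v, ← hev, Y'.adjPoly_right, hev, hadj, hM]
  have full : ∀ {a b : V}, (∀ g, Y'.B (X.ev g a) b = X.B (X.ev g a) b) →
      ∀ f g, Y'.B (X.ev f a) (X.ev g b) = X.B (X.ev f a) (X.ev g b) := by
    intro a b hab f g
    rw [← hev g, Str.adjPoly_right, hev, ← X.ev_mul, hab, hev, Str.adjPoly_right, X.ev_mul, hadj]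
  refine ⟨(Y.pullIso X.T φ hφ).symm.trans ⟨⟨LinearEquiv.refl F V, fun _ => rfl, fun a b => ?_⟩, fun a => ?_⟩⟩
  · obtain ⟨f, f', rfl⟩ := G.1 a
    obtain ⟨g, g', rfl⟩ := G.1 b
    show X.B _ _ = Y'.B (X.ev f v + X.ev f' v') (X.ev g v + X.ev g' v')
    simp only [map_add, LinearEquiv.refl_apply, LinearMap.add_apply, full hB, full hB', full hM, full hM']
  · obtain ⟨f, f', rfl⟩ := G.1 a
    show X.q (X.ev f v + X.ev f' v') = Y'.q (X.ev f v + X.ev f' v')
    have q0 : Y'.q v = X.q v := hl 0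
    have q1 : Y'.q v' = X.q v' := hl' 0
    rw [X.q_add, Y'.q_add, agree_q (X := X) (Y := Y') rfl q0 hB, agree_q (X := X) (Y := Y') rfl q1 hB']
    congr 1
    show X.B ((X.s ^ δ) _) _ = Y'.B ((X.s ^ δ) _) _
    rw [← X.ev_sPoly, ← X.ev_pow', ← X.ev_mul, full hM]

/-- A generator with vanishing levels is isotropic. -/
theorem diag_zero (hδ : δ ≤ 1) {v : V} (h : ∀ i, X.lev i v = 0) (g : F[X]) : X.B (X.ev g v) v = 0 := by
  have key : ∀ i n, X.B ((X.t ^ i) ((X.s ^ n) v)) v = 0 := by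
    intro i
    induction i using Nat.strong_induction_on with
    | _ i ih =>
      intro n
      match i, ih with
      | 0, _ => exact X.B_s_pow_self n v
      | 1, _ => rw [pow_one, t_apply, ← X.lev_eq hδ, h]
      | j + 2, ih =>
        have e2 : ∀ z, (X.t ^ (j + 2)) z = (X.t ^ (j + 1)) (X.s z) + (X.t ^ j) z := by
          intro z
          rw [pow_succ X.t (j + 1), pow_succ X.t j, Module.End.mul_apply, Module.End.mul_apply,
            Module.End.mul_apply, ← map_add]
          congr 1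
          show X.T (X.T z) = X.T (X.T z + X.T.symm z) + z
          rw [map_add, LinearEquiv.apply_symm_apply, add_assoc, add_self_vec (F := F), add_zero]
        rw [e2, map_add, LinearMap.add_apply, ih j (by omega), ← Module.End.mul_apply X.s, ← pow_succ',
          ih (j + 1) (by omega), add_zero]
  induction g using Polynomial.induction_on' with
  | add p r hp hr => rw [Str.ev_add, map_add, LinearMap.add_apply, hp, hr, add_zero]
  | monomial i a =>
    have : X.ev (monomial i a) v = a • (X.t ^ i) v := by simp [Str.ev, t, Module.algebraMap_end_apply]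
    rw [this, map_smul, LinearMap.smul_apply]
    have := key i 0
    simp only [pow_zero, Module.End.one_apply] at this
    rw [this, smul_zero]

theorem lev_ev_zero (hδ : δ ≤ 1) {v : V} (h : ∀ i, X.lev i v = 0) (i : ℕ) (g : F[X]) :
    X.lev i (X.ev g v) = 0 := by
  induction g using Polynomial.induction_on' with
  | add p r hp hr =>
    rw [Str.ev_add, X.lev_add, hp, hr, add_zero, zero_add, ← X.ev_sPoly, ← X.ev_pow', ← X.ev_mul, B_ev_left,
      diag_zero hδ h]
  | monomial j a =>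
    have : X.ev (monomial j a) v = a • (X.t ^ j) v := by simp [Str.ev, t, Module.algebraMap_end_apply]
    rw [this, lev_smul, lev_t_pow, h, mul_zero]

end UStr

end Cfsg.Agent.H7Class.Two
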