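import Cfsg.Agent.H7Class.TwoAdjust

/-!
# Isomorphisms, sums and restrictions
-/

set_option autoImplicit false
set_option linter.unusedSectionVars false

namespace Cfsg.Agent.H7Class.Two

open Polynomial

variable {F : Type*} [Field F] [CharP F 2] {δ : ℕ} {V W U : Type*} [AddCommGroup V] [Module F V]
  [AddCommGroup W] [Module F W] [AddCommGroup U] [Module F U]

/-- An isomorphism of structures with levels. -/
structure UIso (X : UStr F δ V) (Y : UStr F δ W) extends Iso X.toStr Y.toStr where
  map_q : ∀ v, Y.q (e v) = X.q v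

namespace UIso

variable {X : UStr F δ V} {Y : UStr F δ W} {Z : UStr F δ U}

/-- The identity. -/
def refl (X : UStr F δ V) : UIso X X := ⟨Iso.refl _, fun _ => rfl⟩

/-- The inverse. -/
def symm (i : UIso X Y) : UIso Y X := ⟨i.toIso.symm, fun v => by
  have := i.map_q (i.e.symm v)
  rw [i.e.apply_symm_apply] at this
  exact this.symm⟩

/-- The composition. -/
def trans (i : UIso X Y) (j : UIso Y Z) : UIso X Z := ⟨i.toIso.trans j.toIso, fun v => by
  show Z.q (j.e (i.e v)) = _
  rw [j.map_q, i.map_q]⟩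

theorem map_N_pow (i : UIso X Y) (n : ℕ) (v : V) : i.e ((X.N ^ n) v) = (Y.N ^ n) (i.e v) := by
  induction n generalizing v with
  | zero => rfl
  | succ n ih =>
    rw [pow_succ, pow_succ, Module.End.mul_apply, Module.End.mul_apply, ih, X.N_apply, Y.N_apply, map_add, i.map_T]

theorem map_lev (i : UIso X Y) (n : ℕ) (v : V) : Y.lev n (i.e v) = X.lev n v := by
  rw [UStr.lev, UStr.lev, ← i.map_N_pow, i.map_q]

end UIso

namespace UStr

/-- The sum. -/
noncomputable def prod (X : UStr F δ V) (Y : UStr F δ W) : UStr F δ (V × W) where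
  toStr := X.toStr.prod Y.toStr
  alt u := by show X.B u.1 u.1 + Y.B u.2 u.2 = 0; rw [X.alt, Y.alt, add_zero]
  q u := X.q u.1 + Y.q u.2
  q_smul c u := by simp [X.q_smul, Y.q_smul]; ring
  q_T u := by simp [Str.prod_T, X.q_T, Y.q_T]
  q_add u v := by
    have key : ∀ n (w : V × W), (sop (X.toStr.prod Y.toStr) ^ n) w = ((X.s ^ n) w.1, (Y.s ^ n) w.2) := by
      intro n
      induction n with
      | zero => intro w; rfl
      | succ n ih =>
        intro w
        rw [pow_succ', Module.End.mul_apply, ih, pow_succ', pow_succ', Module.End.mul_apply, Module.End.mul_apply]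
        rfl
    rw [key, Str.prod_B, Prod.fst_add, Prod.snd_add, X.q_add, Y.q_add]
    show _ = _ + _ + (X.B ((X.s ^ δ) u.1) v.1 + Y.B ((Y.s ^ δ) u.2) v.2)
    simp only [UStr.s]
    ring
  q_N u := by
    have key : ∀ n (w : V × W), ((((X.toStr.prod Y.toStr).T : Module.End F (V × W)) + 1) ^ n : Module.End F (V × W)) w =
        ((X.N ^ n) w.1, (Y.N ^ n) w.2) := by
      intro n
      induction n with
      | zero => intro w; rfl
      | succ n ih =>
        intro w
        rw [pow_succ', Module.End.mul_apply, ih, pow_succ', pow_succ', Module.End.mul_apply, Module.End.mul_apply]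
        rfl
    rw [key, Str.prod_B, Str.prod_T]
    show X.q ((X.N ^ (1 - δ)) u.1) + Y.q ((Y.N ^ (1 - δ)) u.2) = X.B (X.T u.1) u.1 + Y.B (Y.T u.2) u.2
    rw [show X.q ((X.N ^ (1 - δ)) u.1) = _ from X.q_TN u.1, show Y.q ((Y.N ^ (1 - δ)) u.2) = _ from Y.q_TN u.2]

theorem prod_N_pow (X : UStr F δ V) (Y : UStr F δ W) (n : ℕ) (w : V × W) :
    ((X.prod Y).N ^ n) w = ((X.N ^ n) w.1, (Y.N ^ n) w.2) := by
  induction n generalizing w with
  | zero => rfl
  | succ n ih =>
    rw [pow_succ', Module.End.mul_apply, ih, pow_succ', pow_succ', Module.End.mul_apply, Module.End.mul_apply]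
    rfl

theorem prod_s_pow (X : UStr F δ V) (Y : UStr F δ W) (n : ℕ) (w : V × W) :
    ((X.prod Y).s ^ n) w = ((X.s ^ n) w.1, (Y.s ^ n) w.2) := by
  induction n generalizing w with
  | zero => rfl
  | succ n ih =>
    rw [pow_succ', Module.End.mul_apply, ih, pow_succ', pow_succ', Module.End.mul_apply, Module.End.mul_apply]
    rfl

theorem prod_lev (X : UStr F δ V) (Y : UStr F δ W) (n : ℕ) (w : V × W) :
    (X.prod Y).lev n w = X.lev n w.1 + Y.lev n w.2 := by
  rw [lev, prod_N_pow]; rfl

theorem restrict_sop_pow [FiniteDimensional F V] (X : UStr F δ V) (Z : Submodule F V) (hT : ∀ v ∈ Z, X.T v ∈ Z)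
    (hnd : ∀ u ∈ Z, (∀ v ∈ Z, X.B u v = 0) → u = 0) (n : ℕ) (u : Z) :
    ((sop (X.toStr.restrict Z hT hnd) ^ n) u : V) = (X.s ^ n) u := by
  induction n generalizing u with
  | zero => rfl
  | succ n ih =>
    rw [pow_succ', Module.End.mul_apply, pow_succ', Module.End.mul_apply, ← ih]
    set z := (sop (X.toStr.restrict Z hT hnd) ^ n) u
    rw [s_apply]
    show ((X.toStr.restrict Z hT hnd).T z : V) + ((X.toStr.restrict Z hT hnd).T.symm z : V) = _
    congr 1
    apply X.T.injective
    rw [LinearEquiv.apply_symm_apply]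
    exact congrArg Subtype.val ((X.toStr.restrict Z hT hnd).T.apply_symm_apply z)

/-- An invariant non-degenerate subspace. -/
noncomputable def restrict [FiniteDimensional F V] (X : UStr F δ V) (Z : Submodule F V) (hT : ∀ v ∈ Z, X.T v ∈ Z)
    (hnd : ∀ u ∈ Z, (∀ v ∈ Z, X.B u v = 0) → u = 0) : UStr F δ Z where
  toStr := X.toStr.restrict Z hT hnd
  alt u := X.alt (u : V)
  q u := X.q (u : V)
  q_smul c u := X.q_smul c (u : V)
  q_T u := X.q_T (u : V)
  q_add u v := by
    show X.q ((u : V) + v) = _ + _ + X.B ((sop (X.toStr.restrict Z hT hnd) ^ δ) u : V) v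
    rw [X.q_add, restrict_sop_pow X Z hT hnd]
    rfl
  q_N u := by
    show X.q _ = X.B (X.T (u : V)) u
    rw [← X.q_TN]
    congr 1
    generalize 1 - δ = n
    induction n generalizing u with
    | zero => rfl
    | succ n ih => rw [pow_succ', Module.End.mul_apply, pow_succ', Module.End.mul_apply, ← ih]; rfl

/-- The pullback along an intertwining bijection. -/
noncomputable def pull (Y : UStr F δ W) (T : V ≃ₗ[F] V) (e : V ≃ₗ[F] W) (he : ∀ v, e (T v) = Y.T (e v)) :
    UStr F δ V where
  toStr := Y.toStr.pull T e he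
  alt u := Y.alt (e u)
  q u := Y.q (e u)
  q_smul c u := by rw [map_smul, Y.q_smul]
  q_T u := by show Y.q (e (T u)) = _; rw [he, Y.q_T]
  q_add u v := by
    rw [map_add, Y.q_add]
    congr 1
    show Y.B ((Y.s ^ δ) (e u)) (e v) = Y.B (e ((sop (Y.toStr.pull T e he) ^ δ) u)) (e v)
    congr 2
    suffices ∀ n (u : V), (Y.s ^ n) (e u) = e ((sop (Y.toStr.pull T e he) ^ n) u) from this δ u
    intro n u
    induction n generalizing u with
    | zero => rfl
    | succ n ih =>
      rw [pow_succ', Module.End.mul_apply, pow_succ', Module.End.mul_apply, ih, s_apply]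
      show _ = e (T _ + T.symm _)
      rw [map_add, he]
      congr 1
      apply Y.T.injective
      rw [LinearEquiv.apply_symm_apply, ← he, LinearEquiv.apply_symm_apply]
  q_N u := by
    show Y.q _ = Y.B (e (T u)) (e u)
    rw [he, ← Y.q_TN]
    congr 1
    generalize 1 - δ = n
    induction n generalizing u with
    | zero => rfl
    | succ n ih =>
      rw [pow_succ', Module.End.mul_apply, pow_succ', Module.End.mul_apply, ← ih, N_apply, ← he, ← map_add]
      rfl

/-- The pullback is isomorphic. -/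
noncomputable def pullIso (Y : UStr F δ W) (T : V ≃ₗ[F] V) (e : V ≃ₗ[F] W) (he : ∀ v, e (T v) = Y.T (e v)) :
    UIso (Y.pull T e he) Y := ⟨Y.toStr.pullIso T e he, fun _ => rfl⟩

/-! ### Agreement -/

variable [Finite V] [FiniteDimensional F V]

theorem agree_diag (hδ : δ ≤ 1) {X Y : UStr F δ V} (hT : Y.T = X.T) {v : V}
    (h : ∀ i, Y.lev i v = X.lev i v) (g : F[X]) : Y.B (X.ev g v) v = X.B (X.ev g v) v := by
  have hs : Y.s = X.s := by simp only [s, sop, hT]
  have key : ∀ i n, Y.B ((X.t ^ i) ((X.s ^ n) v)) v = X.B ((X.t ^ i) ((X.s ^ n) v)) v := by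
    intro i
    induction i using Nat.strong_induction_on with
    | _ i ih =>
      intro n
      match i, ih with
      | 0, _ =>
        rw [pow_zero, Module.End.one_apply, X.B_s_pow_self]
        rw [← hs]; exact Y.B_s_pow_self n v
      | 1, _ =>
        rw [pow_one, t_apply, ← X.lev_eq hδ, ← h, Y.lev_eq hδ, hT, hs]
      | j + 2, ih =>
        have e2 : ∀ z, (X.t ^ (j + 2)) z = (X.t ^ (j + 1)) (X.s z) + (X.t ^ j) z := by
          intro z
          rw [pow_succ X.t (j + 1), pow_succ X.t j, Module.End.mul_apply, Module.End.mul_apply,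
            Module.End.mul_apply, ← map_add]
          congr 1
          show X.T (X.T z) = X.T (X.T z + X.T.symm z) + z
          rw [map_add, LinearEquiv.apply_symm_apply, add_assoc, add_self_vec (F := F), add_zero]
        rw [e2, map_add, map_add, LinearMap.add_apply, LinearMap.add_apply, ih j (by omega),
          ← Module.End.mul_apply X.s, ← pow_succ', ih (j + 1) (by omega)]
  induction g using Polynomial.induction_on' with
  | add p r hp hr => rw [Str.ev_add, map_add, map_add, LinearMap.add_apply, LinearMap.add_apply, hp, hr]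
  | monomial i a =>
    have : X.ev (monomial i a) v = a • (X.t ^ i) v := by simp [Str.ev, t, Module.algebraMap_end_apply]
    rw [this, map_smul, map_smul, LinearMap.smul_apply, LinearMap.smul_apply]
    congr 1
    simpa using key i 0

theorem agree_q {X Y : UStr F δ V} (hT : Y.T = X.T) {v : V} (h : Y.q v = X.q v)
    (hB : ∀ g, Y.B (X.ev g v) v = X.B (X.ev g v) v) (g : F[X]) : Y.q (X.ev g v) = X.q (X.ev g v) := by
  induction g using Polynomial.induction_on' with
  | add p r hp hr =>
    rw [Str.ev_add, Y.q_add, X.q_add, hp, hr]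
    congr 1
    show Y.B ((sop Y.toStr ^ δ) _) _ = X.B ((X.s ^ δ) _) _
    have hs : sop Y.toStr = X.s := by simp only [s, sop, hT]
    rw [hs, ← X.ev_sPoly, ← X.ev_pow', ← X.ev_mul]
    have e1 : ∀ (Z : UStr F δ V) (a : F[X]), Z.T = X.T →
        Z.B (X.ev a v) (X.ev r v) = Z.B (X.ev (Z.adjPoly r * a) v) v := by
      intro Z a hZ
      have hev : ∀ g, X.ev g = Z.ev g := fun g => Str.ev_eq_of_T_eq hZ.symm g
      rw [hev, hev, hev, Z.ev_mul, Str.adjPoly_right]
    rw [e1 Y _ hT, e1 X _ rfl, hB]
    congr 2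
    simp only [X.ev_mul]
    rw [X.ev_adjPoly, ← Str.ev_eq_of_T_eq (X := X.toStr) (Y := Y.toStr) hT, Y.ev_adjPoly]
    simp only [Str.evi, hT]
  | monomial i a =>
    have : X.ev (monomial i a) v = a • (X.t ^ i) v := by simp [Str.ev, t, Module.algebraMap_end_apply]
    rw [this, Y.q_smul, X.q_smul]
    congr 1
    have hZ : ∀ Z : UStr F δ V, Z.T = X.T → Z.q ((X.t ^ i) v) = Z.q v := by
      intro Z hZ
      induction i with
      | zero => rfl
      | succ i ih => rw [pow_succ', Module.End.mul_apply, t_apply, ← hZ, Z.q_T, ih (by simp [Str.ev, t, Module.algebraMap_end_apply])]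
    rw [hZ Y hT, hZ X rfl, h]

end UStr

end Cfsg.Agent.H7Class.Two
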