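import Cfsg.Agent.H7Class.TwoOrth
import Cfsg.Agent.H54.SympSemisimple

/-!
# Many classes of the orthogonal groups in characteristic two
-/

set_option autoImplicit false
set_option linter.unusedSectionVars false

namespace Cfsg.Agent.H7Class.Two

open Polynomial QuadraticMap
open scoped Matrix
open H54.SympSS (img model poly)

variable {F : Type*} [Field F] [Fintype F] [CharP F 2] {m : ℕ}

/-- `Σ_{i<j} aᵢ²`. -/
noncomputable def preSq (a : Fin (m + 1) → F) (j : Fin (m + 1)) : F := ∑ i : Fin m, if (i : ℕ) < j then a i.castSucc ^ 2 else 0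

/-- The inverse of the middle coefficient. -/
noncomputable def mid (a : Fin (m + 1) → F) : F := (a (Fin.last m))⁻¹

/-- The invariant form of the model. -/
noncomputable def modelForm (a : Fin (m + 1) → F) : QuadraticForm F (Fin (m + 1) ⊕ Fin (m + 1) → F) :=
  qDiag (fun _ => mid a) fun j => mid a * (1 + preSq a j)

/-- The class of the invariant form. -/
noncomputable def modelSign (a : Fin (m + 1) → F) : ℤ := chi (∑ j, mid a * (mid a * (1 + preSq a j)))

theorem qgauss_modelForm (a : Fin (m + 1) → F) :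
    qgauss (modelForm a) = (Fintype.card F : ℤ) ^ (m + 1) * modelSign a := qgauss_qDiag _ _

theorem preSq_zero (a : Fin (m + 1) → F) : preSq a 0 = 0 := by simp [preSq]

theorem preSq_succ (a : Fin (m + 1) → F) (j : Fin m) :
    preSq a j.succ = preSq a j.castSucc + a j.castSucc ^ 2 := by
  classical
  rw [preSq, preSq, show a j.castSucc ^ 2 = ∑ i : Fin m, if i = j then a i.castSucc ^ 2 else 0 by simp,
    ← Finset.sum_add_distrib]
  refine Finset.sum_congr rfl fun i _ => ?_
  simp only [Fin.val_succ, Fin.val_castSucc]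
  rcases lt_trichotomy (i : ℕ) j with h | h | h
  · rw [if_pos (by omega), if_pos h, if_neg (by simp [Fin.ext_iff]; omega), add_zero]
  · rw [if_pos (by omega), if_neg (by omega), if_pos (Fin.ext h), zero_add]
  · rw [if_neg (by omega), if_neg (by omega), if_neg (by simp [Fin.ext_iff]; omega), add_zero]

theorem sum_single_sq (c : Fin (m + 1) → F) (i : Fin (m + 1)) :
    ∑ x, c x * ((Pi.single i 1 : Fin (m + 1) → F) x) ^ 2 = c i := by simp [Pi.single_apply]

theorem qDiag_E (α β : Fin (m + 1) → F) (i : Fin (m + 1)) : qDiag α β (H54.SympSS.E i) = α i := by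
  simp [qDiag_apply, H54.SympSS.E, Pi.single_apply]

theorem qDiag_Fv (α β : Fin (m + 1) → F) (i : Fin (m + 1)) : qDiag α β (H54.SympSS.Fv i) = β i := by
  simp [qDiag_apply, H54.SympSS.Fv, Pi.single_apply]

theorem polar_qDiag_spB (α β : Fin (m + 1) → F) (v w : Fin (m + 1) ⊕ Fin (m + 1) → F) :
    polar (qDiag α β) v w = Symplectic.spB (m + 1) F v w := by
  rw [polar_qDiag, Symplectic.spB_apply, Symplectic.sympForm_eq]
  refine Finset.sum_congr rfl fun i _ => ?_
  linear_combination (v (.inl i) * w (.inr i)) * CharTwo.two_eq_zero (R := F)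

theorem modelForm_img (a : Fin (m + 1) → F) (ha : a (Fin.last m) ≠ 0) (s : Fin (m + 1) ⊕ Fin (m + 1)) :
    modelForm a (img a s) = modelForm a (Pi.single s 1) := by
  have he : mid a * a (Fin.last m) = 1 := inv_mul_cancel₀ ha
  rcases s with i | j
  · show _ = modelForm a (H54.SympSS.E i)
    rw [modelForm, qDiag_E]
    simp only [img]
    split_ifs with h
    · rw [qDiag_E]
    · rw [qDiag_Fv, preSq_zero, add_zero, mul_one]
  · show _ = modelForm a (H54.SympSS.Fv j)
    rw [modelForm, qDiag_Fv]
    simp only [img]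
    split_ifs with h
    · obtain ⟨j, rfl⟩ : ∃ j' : Fin m, j = j'.castSucc := ⟨⟨j, h⟩, rfl⟩
      rw [sub_eq_add_neg, ← neg_one_smul F (a j.castSucc • H54.SympSS.Fv 0), smul_smul,
        Orthogonal.map_add_polar, Orthogonal.qmap_smul, qDiag_Fv, qDiag_Fv, Orthogonal.polar_smul_right',
        polar_qDiag_spB, H54.SympSS.B_FF, mul_zero, add_zero, preSq_zero, add_zero,
        show (⟨(j.castSucc : ℕ) + 1, _⟩ : Fin (m + 1)) = j.succ from rfl, preSq_succ]
      linear_combination (mid a * a j.castSucc ^ 2) * CharTwo.two_eq_zero (R := F)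
    · obtain rfl : j = Fin.last m := Fin.ext (by have := j.isLt; simp only [Fin.val_last]; omega)
      set v := -H54.SympSS.E (F := F) (0 : Fin (m + 1)) - ∑ i : Fin m, a i.castSucc • H54.SympSS.E i.succ -
        a (Fin.last m) • H54.SympSS.Fv 0
      have c1 : v (.inl 0) = 1 := by
        simp [v, H54.SympSS.E, H54.SympSS.Fv, Finset.sum_apply, Pi.single_apply, CharTwo.neg_eq]
      have c2 : ∀ i : Fin m, v (.inl i.succ) = a i.castSucc := fun i => by
        simp [v, H54.SympSS.E, H54.SympSS.Fv, Finset.sum_apply, Pi.single_apply, CharTwo.neg_eq]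
      have c3 : v (.inr 0) = a (Fin.last m) := by
        simp [v, H54.SympSS.E, H54.SympSS.Fv, Finset.sum_apply, Pi.single_apply, CharTwo.neg_eq]
      have c4 : ∀ i : Fin m, v (.inr i.succ) = 0 := fun i => by
        simp [v, H54.SympSS.E, H54.SympSS.Fv, Finset.sum_apply, Pi.single_apply]
      rw [qDiag_apply, Fin.sum_univ_succ, c1, c3, preSq_zero]
      simp only [c2, c4, mul_zero, add_zero, ne_eq, OfNat.ofNat_ne_zero, not_false_eq_true, zero_pow, ← Finset.mul_sum]
      have e : preSq a (Fin.last m) = ∑ i : Fin m, a i.castSucc ^ 2 := by simp [preSq, Fin.is_lt]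
      rw [e]
      linear_combination (a (Fin.last m)) * he + (a (Fin.last m)) * CharTwo.two_eq_zero (R := F)

theorem modelForm_inv (a : Fin (m + 1) → F) (ha : a (Fin.last m) ≠ 0) (v : Fin (m + 1) ⊕ Fin (m + 1) → F) :
    modelForm a (model a v) = modelForm a v := by
  let P : Submodule F (Fin (m + 1) ⊕ Fin (m + 1) → F) :=
    { carrier := {v | modelForm a (model a v) = modelForm a v}
      zero_mem' := by simp
      add_mem' := fun {u w} hu hw => by
        show modelForm a (model a (u + w)) = modelForm a (u + w)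
        rw [map_add, Orthogonal.map_add_polar, Orthogonal.map_add_polar, hu, hw]
        congr 1
        rw [modelForm, polar_qDiag_spB, polar_qDiag_spB]
        exact H54.SympSS.model_inv a u w
      smul_mem' := fun c u hu => by
        show modelForm a (model a (c • u)) = modelForm a (c • u)
        rw [map_smul, Orthogonal.qmap_smul, Orthogonal.qmap_smul, hu] }
  refine (Submodule.span_le (p := P)).2 ?_ ((Pi.basisFun F _).mem_span v)
  rintro _ ⟨s, rfl⟩
  show modelForm a (model a (Pi.basisFun F _ s)) = modelForm a (Pi.basisFun F _ s)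
  rw [model, Module.Basis.constr_basis, Pi.basisFun_apply]
  exact modelForm_img a ha s

theorem poly_eval_one (a : Fin (m + 1) → F) : (poly a).eval 1 = a (Fin.last m) := by
  simp only [poly, eval_add, eval_pow, eval_X, one_pow, eval_one, eval_finsetSum, eval_mul, eval_C, mul_one,
    Fin.sum_univ_castSucc]
  linear_combination (1 + ∑ i : Fin m, a i.castSucc) * CharTwo.two_eq_zero (R := F)

theorem poly_inj : Function.Injective (poly : (Fin (m + 1) → F) → F[X]) := fun a a' h =>
  funext fun j => by rw [← H54.SympSS.poly_coeff a j, ← H54.SympSS.poly_coeff a' j, h]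

/-- The middle coefficient is not zero and the form has a given class. -/
def Typed (s : ℤ) (a : Fin (m + 1) → F) : Prop := a (Fin.last m) ≠ 0 ∧ modelSign a = s

theorem card_nonzero_last : Nat.card {a : Fin (m + 1) → F // a (Fin.last m) ≠ 0} =
    (Fintype.card F - 1) * Fintype.card F ^ m := by
  classical
  have e : {a : Fin (m + 1) → F // a (Fin.last m) ≠ 0} ≃ {x : F // x ≠ 0} × (Fin m → F) :=
    { toFun := fun a => (⟨a.1 (Fin.last m), a.2⟩, fun i => a.1 i.castSucc)
      invFun := fun p => ⟨Fin.snoc p.2 p.1.1, by simpa using p.1.2⟩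
      left_inv := fun a => Subtype.ext (funext fun i => by refine Fin.lastCases ?_ (fun j => ?_) i <;> simp)
      right_inv := fun p => Prod.ext (Subtype.ext (by simp)) (funext fun i => by simp) }
  rw [Nat.card_congr e, Nat.card_prod, Nat.card_fun, Nat.card_eq_fintype_card, Nat.card_eq_fintype_card,
    Nat.card_eq_fintype_card, Fintype.card_subtype_compl, Fintype.card_subtype_eq, Fintype.card_fin]

theorem two_mul_card_typed (hm : 1 ≤ m) {s : ℤ} (hs : s = 1 ∨ s = -1) :
    2 * Nat.card {a : Fin (m + 1) → F // Typed s a} = (Fintype.card F - 1) * Fintype.card F ^ m := by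
  classical
  obtain ⟨k, rfl⟩ : ∃ k, m = k + 1 := ⟨m - 1, by omega⟩
  obtain ⟨w, hw⟩ := exists_sqrt (asNon F)
  set p : Fin (k + 1 + 1) := (Fin.last k).castSucc
  have hp : p ≠ Fin.last (k + 1) := Fin.ne_of_lt (Fin.castSucc_lt_last _)
  let fl : (Fin (k + 1 + 1) → F) → (Fin (k + 1 + 1) → F) := fun a =>
    Function.update a p (a p + w * a (Fin.last (k + 1)))
  have hlast : ∀ a, fl a (Fin.last (k + 1)) = a (Fin.last (k + 1)) := fun a => Function.update_of_ne hp.symm _ _
  have hfl : ∀ a, fl (fl a) = a := fun a => by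
    funext i
    by_cases hi : i = p
    · subst hi
      simp only [fl, Function.update_self, Function.update_of_ne hp.symm]
      linear_combination (w * a (Fin.last (k + 1))) * CharTwo.two_eq_zero (R := F)
    · simp only [fl, Function.update_of_ne hi]
  have hsign : ∀ a, a (Fin.last (k + 1)) ≠ 0 → modelSign (fl a) = -modelSign a := by
    intro a ha
    have hmid : mid (fl a) = mid a := by rw [mid, hlast, mid]
    have hpre : ∀ j, preSq (fl a) j = preSq a j +
        if j = Fin.last (k + 1) then w ^ 2 * a (Fin.last (k + 1)) ^ 2 else 0 := by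
      intro j
      have e : ∀ i : Fin (k + 1), (if (i : ℕ) < j then fl a i.castSucc ^ 2 else 0) =
          (if (i : ℕ) < j then a i.castSucc ^ 2 else 0) +
            if i = Fin.last k then (if j = Fin.last (k + 1) then w ^ 2 * a (Fin.last (k + 1)) ^ 2 else 0) else 0 := by
        intro i
        by_cases hi : i = Fin.last k
        · subst hi
          have hj : ((Fin.last k : Fin (k + 1)) : ℕ) < j ↔ j = Fin.last (k + 1) := by
            rw [Fin.ext_iff, Fin.val_last, Fin.val_last]; have := j.isLt; omega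
          by_cases hj' : j = Fin.last (k + 1)
          · rw [if_pos (hj.2 hj'), if_pos (hj.2 hj'), if_pos rfl, if_pos hj']
            simp only [fl, p, Function.update_self]
            rw [CharTwo.add_sq, mul_pow]
          · rw [if_neg (hj.not.2 hj'), if_neg (hj.not.2 hj'), if_pos rfl, if_neg hj', add_zero]
        · rw [if_neg hi, add_zero]
          simp only [fl, p]
          rw [Function.update_of_ne fun h => hi (Fin.castSucc_injective _ h)]
      rw [preSq, Finset.sum_congr rfl fun i _ => e i, Finset.sum_add_distrib, Finset.sum_ite_eq' Finset.univ,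
        if_pos (Finset.mem_univ _)]
      rfl
    have h1 : ∑ j, mid (fl a) * (mid (fl a) * (1 + preSq (fl a) j)) =
        (∑ j, mid a * (mid a * (1 + preSq a j))) + asNon F := by
      rw [hmid]
      simp only [hpre, ← add_assoc, mul_add (mid a), Finset.sum_add_distrib, mul_ite, mul_zero]
      rw [Finset.sum_ite_eq' Finset.univ, if_pos (Finset.mem_univ _), mid, ← hw]
      field_simp
    rw [modelSign, h1, chi_add, chi_asNon, mul_neg, mul_one]
    rfl
  have hdich : ∀ a : Fin (k + 1 + 1) → F, modelSign a = 1 ∨ modelSign a = -1 := fun a => by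
    unfold modelSign chi
    split_ifs <;> simp
  let eflip : {a : Fin (k + 1 + 1) → F // Typed s a} ≃
      {a : Fin (k + 1 + 1) → F // a (Fin.last (k + 1)) ≠ 0 ∧ ¬ modelSign a = s} :=
    { toFun := fun a => ⟨fl a.1, by
        refine ⟨by rw [hlast]; exact a.2.1, ?_⟩
        rw [hsign _ a.2.1, a.2.2]
        rcases hs with rfl | rfl <;> norm_num⟩
      invFun := fun a => ⟨fl a.1, by
        refine ⟨by rw [hlast]; exact a.2.1, ?_⟩
        rw [hsign _ a.2.1]
        rcases hs with rfl | rfl <;> rcases hdich a.1 with h | h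
        · exact absurd h a.2.2
        · rw [h]; norm_num
        · rw [h]
        · exact absurd h a.2.2⟩
      left_inv := fun a => Subtype.ext (hfl a.1)
      right_inv := fun a => Subtype.ext (hfl a.1) }
  rw [two_mul, ← card_nonzero_last]
  conv_lhs => arg 2; rw [Nat.card_congr eflip]
  rw [← Nat.card_sum]
  exact Nat.card_congr
    { toFun := Sum.elim (fun a => ⟨a.1, a.2.1⟩) fun a => ⟨a.1, a.2.1⟩
      invFun := fun a => if h : modelSign a.1 = s then Sum.inl ⟨a.1, a.2, h⟩ else Sum.inr ⟨a.1, a.2, h⟩
      left_inv := fun a => by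
        rcases a with a | a
        · simp [a.2.2]
        · simp [a.2.2]
      right_inv := fun a => by
        by_cases h : modelSign a.1 = s <;> simp [h] }

/-- An isometry of an equivalent form gives a class with its characteristic polynomial. -/
theorem exists_isometry {ι : Type} [Fintype ι] [DecidableEq ι] {V : Type*} [AddCommGroup V] [Module F V]
    [FiniteDimensional F V] {Q : QuadraticForm F (ι → F)} (hQ : Orthogonal.Nondeg Q) {P : QuadraticForm F V}
    (hP : Orthogonal.Nondeg P) {k : ℕ} (hι : Fintype.card ι = 2 * (k + 1)) (hV : Module.finrank F V = 2 * (k + 1))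
    (hg : qgauss P = qgauss Q) (T : Module.End F V) (hT : ∀ v, P (T v) = P v) :
    ∃ g : ↥(Cfsg.isometryGroup F (⇑Q)), (((g : GL ι F) : Matrix ι ι F)).charpoly = T.charpoly := by
  obtain ⟨E, hE⟩ := equiv_of_qgauss hP hQ hV (by rw [Module.finrank_fintype_fun_eq_card, hι]) hg
  set S : Module.End F (ι → F) := E.conj T with hS
  have hS' : ∀ w, Q (S w) = Q w := fun w => by
    obtain ⟨v, rfl⟩ := E.surjective w
    rw [hS, LinearEquiv.conj_apply_apply, LinearEquiv.symm_apply_apply, hE, hT, hE]
  have hdet : (LinearMap.toMatrix' S).det ≠ 0 := fun h0 => by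
    obtain ⟨w, hw0, hw⟩ := Matrix.exists_mulVec_eq_zero_iff.2 h0
    rw [LinearMap.toMatrix'_mulVec] at hw
    refine hw0 (hQ w fun z => ?_)
    have h1 := hS' (w + z)
    have hSw : Q w = 0 := by rw [← hS', hw, QuadraticMap.map_zero]
    rw [map_add, hw, zero_add, hS', Orthogonal.map_add_polar, hSw, zero_add] at h1
    linear_combination -h1
  refine ⟨⟨Matrix.GeneralLinearGroup.mkOfDetNeZero _ hdet,
    (Orthogonal.mem_isometryGroup_iff _ _).2 fun v => ?_⟩, ?_⟩
  · show Q (LinearMap.toMatrix' S *ᵥ v) = Q v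
    rw [LinearMap.toMatrix'_mulVec, hS']
  · show (LinearMap.toMatrix' S).charpoly = _
    rw [← Matrix.charpoly_toLin', Matrix.toLin'_toMatrix', hS, LinearEquiv.charpoly_conj]

/-- The lower bound. -/
theorem ortho_lower_two {ι : Type} [Fintype ι] [DecidableEq ι] (n : ℕ) (hdim : Fintype.card ι = 2 * (n + 2))
    (Q : QuadraticForm F (ι → F)) (hQ : Orthogonal.Nondeg Q) {s : ℤ} (hs : s = 1 ∨ s = -1)
    (hg : qgauss Q = (Fintype.card F : ℤ) ^ (n + 2) * s) :
    Fintype.card F ^ (n + 2) ≤ 2 * Nat.card (ConjClasses ↥(Cfsg.isometryGroup F (⇑Q))) := by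
  classical
  have h1 : ∀ a : {a : Fin (n + 1 + 1) → F // Typed s a}, ∃ g : ↥(Cfsg.isometryGroup F (⇑Q)),
      (((g : GL ι F) : Matrix ι ι F)).charpoly = poly a.1 := by
    intro a
    rw [← H54.SympSS.model_charpoly]
    refine exists_isometry hQ (qDiag_nondeg _ _) (k := n + 1) hdim ?_ ?_ _ (modelForm_inv a.1 a.2.1)
    · rw [Module.finrank_fintype_fun_eq_card, Fintype.card_sum, Fintype.card_fin]; omega
    · show qgauss (modelForm a.1) = _
      rw [qgauss_modelForm, a.2.2, hg]
  have h2 : ∀ a : {a : Fin (n + 1) → F // a (Fin.last n) ≠ 0}, ∃ g : ↥(Cfsg.isometryGroup F (⇑Q)),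
      (((g : GL ι F) : Matrix ι ι F)).charpoly = poly a.1 * (Polynomial.X - 1) ^ 2 := by
    intro a
    obtain ⟨c, hc⟩ : ∃ c : F, chi c = modelSign a.1 * s := by
      have hd : modelSign a.1 * s = 1 ∨ modelSign a.1 * s = -1 := by
        unfold modelSign chi
        rcases hs with rfl | rfl <;> split_ifs <;> simp
      rcases hd with h | h
      · exact ⟨0, chi_zero.trans h.symm⟩
      · exact ⟨asNon F, chi_asNon.trans h.symm⟩
    let p1 := QuadraticMap.comp (modelForm a.1)
      (LinearMap.fst F (Fin (n + 1) ⊕ Fin (n + 1) → F) (Fin 1 ⊕ Fin 1 → F))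
    let p2 := QuadraticMap.comp (qDiag (fun _ : Fin 1 => (1 : F)) fun _ => c)
      (LinearMap.snd F (Fin (n + 1) ⊕ Fin (n + 1) → F) (Fin 1 ⊕ Fin 1 → F))
    have hpol : ∀ u v, polar (p1 + p2) u v = polar (modelForm a.1) u.1 v.1 +
        polar (qDiag (fun _ : Fin 1 => (1 : F)) fun _ => c) u.2 v.2 := fun u v => by
      simp only [polar, p1, p2, QuadraticMap.add_apply, QuadraticMap.comp_apply, LinearMap.fst_apply,
        LinearMap.snd_apply, Prod.fst_add, Prod.snd_add]
      ring
    have hnd : Orthogonal.Nondeg (p1 + p2) := fun u hu => by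
      refine Prod.ext ((show Orthogonal.Nondeg (modelForm a.1) from qDiag_nondeg _ _) _ fun y => ?_)
        (qDiag_nondeg (fun _ : Fin 1 => (1 : F)) (fun _ => c) _ fun y => ?_)
      · have := hu (y, 0)
        rw [hpol] at this
        simpa [polar_qDiag] using this
      · have := hu (0, y)
        rw [hpol] at this
        simpa [modelForm, polar_qDiag] using this
    obtain ⟨g, hg'⟩ := exists_isometry hQ hnd (k := n + 1) hdim
      (by rw [Module.finrank_prod, Module.finrank_fintype_fun_eq_card, Module.finrank_fintype_fun_eq_card,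
        Fintype.card_sum, Fintype.card_sum, Fintype.card_fin, Fintype.card_fin]; omega)
      (by
        show qgauss (fun w : (Fin (n + 1) ⊕ Fin (n + 1) → F) × (Fin 1 ⊕ Fin 1 → F) =>
          modelForm a.1 w.1 + qDiag (fun _ : Fin 1 => (1 : F)) (fun _ => c) w.2) = _
        rw [qgauss_add, qgauss_modelForm, qgauss_qDiag, Fin.sum_univ_one, one_mul, hc, hg]
        have hsq : modelSign a.1 * modelSign a.1 = 1 := by unfold modelSign chi; split_ifs <;> simp
        linear_combination ((Fintype.card F : ℤ) ^ (n + 2) * s) * hsq)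
      ((model a.1).prodMap LinearMap.id) (fun v => by
        simp only [p1, p2, QuadraticMap.add_apply, QuadraticMap.comp_apply, LinearMap.fst_apply, LinearMap.snd_apply,
          LinearMap.prodMap_apply, LinearMap.id_apply]
        rw [modelForm_inv a.1 a.2])
    refine ⟨g, hg'.trans ?_⟩
    rw [LinearMap.charpoly_prodMap, H54.SympSS.model_charpoly, ← Module.End.one_eq_id, LinearMap.charpoly_one,
      Module.finrank_fintype_fun_eq_card, Fintype.card_sum, Fintype.card_fin]
  choose g₁ hg₁ using h1
  choose g₂ hg₂ using h2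
  let Φ : {a : Fin (n + 1 + 1) → F // Typed s a} ⊕ {a : Fin (n + 1) → F // a (Fin.last n) ≠ 0} →
      ConjClasses ↥(Cfsg.isometryGroup F (⇑Q)) :=
    Sum.elim (fun a => ConjClasses.mk (g₁ a)) fun a => ConjClasses.mk (g₂ a)
  have hcp : ∀ g h : ↥(Cfsg.isometryGroup F (⇑Q)), ConjClasses.mk g = ConjClasses.mk h →
      (((g : GL ι F) : Matrix ι ι F)).charpoly = (((h : GL ι F) : Matrix ι ι F)).charpoly := by
    intro g h e
    obtain ⟨z, rfl⟩ := isConj_iff.1 (ConjClasses.mk_eq_mk_iff_isConj.1 e)
    simp [Matrix.coe_units_inv, Matrix.charpoly_units_conj]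
  have hne : ∀ (a : {a : Fin (n + 1 + 1) → F // Typed s a}) (b : {a : Fin (n + 1) → F // a (Fin.last n) ≠ 0}),
      poly a.1 ≠ poly b.1 * (Polynomial.X - 1) ^ 2 := fun a b e => by
    have := congrArg (Polynomial.eval (1 : F)) e
    rw [poly_eval_one] at this
    exact a.2.1 (by rw [this]; simp)
  have hinj : Function.Injective Φ := by
    rintro (a | a) (b | b) h <;> simp only [Φ, Sum.elim_inl, Sum.elim_inr] at h <;> have h' := hcp _ _ h
    · rw [hg₁, hg₁] at h'; rw [Subtype.ext (poly_inj h')]
    · rw [hg₁, hg₂] at h'; exact absurd h' (hne a b)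
    · rw [hg₂, hg₁] at h'; exact absurd h'.symm (hne b a)
    · rw [hg₂, hg₂] at h'
      rw [Subtype.ext (poly_inj (mul_right_cancel₀ (pow_ne_zero 2 (by rw [← C_1]; exact X_sub_C_ne_zero 1)) h'))]
  have h := Nat.card_le_card_of_injective _ hinj
  rw [Nat.card_sum, card_nonzero_last] at h
  have ht := two_mul_card_typed (F := F) (m := n + 1) (by omega) hs
  obtain ⟨r, hr⟩ : ∃ r, Fintype.card F = r + 2 := ⟨Fintype.card F - 2, by
    have := Fintype.one_lt_card (α := F); omega⟩
  rw [hr, show r + 2 - 1 = r + 1 from rfl] at h ht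
  rw [hr]
  rw [pow_succ] at ht
  rw [pow_succ, pow_succ]
  have hx : (r + 2) ^ n * (r + 2) * (r + 2) ≤ (r + 1) * ((r + 2) ^ n * (r + 2)) + 2 * ((r + 1) * (r + 2) ^ n) := by
    nlinarith [Nat.zero_le ((r + 2) ^ n * r)]
  linarith

end Cfsg.Agent.H7Class.Two
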