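import Cfsg.Agent.H7Class.TwoUpper
import Cfsg.Agent.H7Class.Mat
import Cfsg.Agent.Orthogonal.StdForms

/-!
# The matrix groups in characteristic two
-/

set_option autoImplicit false
set_option linter.unusedSectionVars false

namespace Cfsg.Agent.H7Class.Two

open Matrix Cfsg.Agent.H58.FormSim

variable {F : Type*} [Field F] [Fintype F] [CharP F 2] {ι : Type} [Fintype ι] [DecidableEq ι] {n : ℕ}

theorem J_symm (n : ℕ) : (Matrix.J (Fin n) F)ᵀ = (1 : F) • Matrix.J (Fin n) F := by
  rw [J_transpose, one_smul]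
  ext i j
  rw [Matrix.neg_apply, CharTwo.neg_eq]

/-- The form and the isometry of a symplectic matrix. -/
noncomputable def spS (g : Matrix.symplecticGroup (Fin n) F) : Str F (1 : F) (Fin n ⊕ Fin n → F) :=
  matStr (Matrix.J (Fin n) F) (J_symm n) (isUnit_det_J (Fin n) F).ne_zero
    (g : Matrix _ _ F) (SymplecticGroup.mem_iff'.1 g.2)

theorem spS_alt (g : Matrix.symplecticGroup (Fin n) F) (u : Fin n ⊕ Fin n → F) : (spS g).B u u = 0 := by
  have h := Symplectic.spB_alt n F u
  rw [spS, matStr_B]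
  rw [Symplectic.spB, Matrix.toBilin'_apply'] at h
  exact h

theorem spS_add (g : Matrix.symplecticGroup (Fin n) F) (u v : Fin n ⊕ Fin n → F) :
    (spS g).B ((spS g).T (u + v)) (u + v) = (spS g).B ((spS g).T u) u + (spS g).B ((spS g).T v) v +
      (spS g).B ((sop (spS g) ^ 1) u) v := by
  generalize spS g = X
  have h : X.B (X.T v) u = X.B (X.T.symm u) v := by
    rw [← X.inv (X.T.symm u) v, LinearEquiv.apply_symm_apply, X.sym u (X.T v), one_mul]
  simp only [pow_one, sop, map_add, LinearMap.add_apply, LinearEquiv.coe_coe, h]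
  ring

/-- The structure of a symplectic matrix. -/
noncomputable def spStr (g : Matrix.symplecticGroup (Fin n) F) : UStr F 1 (Fin n ⊕ Fin n → F) where
  toStr := spS g
  alt := spS_alt g
  q u := (spS g).B ((spS g).T u) u
  q_smul c u := by simp only [map_smul, LinearMap.smul_apply, smul_eq_mul]; ring
  q_T u := by rw [Str.inv]
  q_N u := by rw [Nat.sub_self, pow_zero, Module.End.one_apply]
  q_add := spS_add g

/-- The symplectic upper bound. -/
theorem sp_upper_two (n : ℕ) :
    5 * Nat.card (ConjClasses (Matrix.symplecticGroup (Fin n) F)) ≤ 76 * Fintype.card F ^ n := by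
  classical
  have h := classes_le_one (n := n) (G := Matrix.symplecticGroup (Fin n) F) spStr
    (fun g h i => by
      have i' : Iso (spS g) (spS h) := i.toIso
      unfold spS at i'
      obtain ⟨M, h1, h2⟩ := exists_conj_of_iso i' 
      refine isConj_iff.2 ⟨⟨M, SymplecticGroup.mem_iff'.2 h1⟩, mul_inv_eq_iff_eq_mul.2 (Subtype.ext ?_)⟩
      exact h2)
    (by rw [Module.finrank_fintype_fun_eq_card, Fintype.card_sum, Fintype.card_fin, two_mul])
  rw [Nat.card_eq_fintype_card (α := F)] at h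
  rw [← @Nat.cast_le ℚ]
  push_cast
  linarith

/-- The structure of an orthogonal matrix. -/
noncomputable def orStr (Q : QuadraticForm F (ι → F)) (hQ : Cfsg.Agent.Orthogonal.Nondeg Q)
    (g : ↥(Cfsg.isometryGroup F (⇑Q))) : UStr F 0 (ι → F) where
  T := LinearEquiv.ofInjectiveEndo (Matrix.toLin' ((g : GL ι F) : Matrix ι ι F))
    (Function.LeftInverse.injective (g := fun v => ((g : GL ι F)⁻¹ : GL ι F).1 *ᵥ v) fun v => by
      show ((g : GL ι F)⁻¹ : GL ι F).1 *ᵥ (((g : GL ι F) : Matrix ι ι F) *ᵥ v) = v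
      rw [Matrix.mulVec_mulVec, Units.inv_mul, Matrix.one_mulVec])
  B := Q.polarBilin
  sym u v := by rw [one_mul]; exact QuadraticMap.polar_comm _ u v
  inv u v := by
    have hg := (Cfsg.Agent.Orthogonal.mem_isometryGroup_iff _ _).1 g.2
    show QuadraticMap.polar Q (((g : GL ι F) : Matrix ι ι F) *ᵥ u) (((g : GL ι F) : Matrix ι ι F) *ᵥ v) =
      QuadraticMap.polar Q u v
    rw [QuadraticMap.polar, QuadraticMap.polar, ← Matrix.mulVec_add, hg, hg, hg]
  nd u h := hQ u h
  alt u := by
    show QuadraticMap.polar Q u u = 0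
    rw [Cfsg.Agent.Orthogonal.polar_self', CharTwo.two_eq_zero, zero_mul]
  q := Q
  q_smul c u := Cfsg.Agent.Orthogonal.qmap_smul Q c u
  q_T u := (Cfsg.Agent.Orthogonal.mem_isometryGroup_iff _ _).1 g.2 u
  q_add u v := Cfsg.Agent.Orthogonal.map_add_polar Q u v
  q_N u := by
    have hg := (Cfsg.Agent.Orthogonal.mem_isometryGroup_iff _ _).1 g.2 u
    show Q (((g : GL ι F) : Matrix ι ι F) *ᵥ u + u) = QuadraticMap.polar Q (((g : GL ι F) : Matrix ι ι F) *ᵥ u) u
    rw [Cfsg.Agent.Orthogonal.map_add_polar, hg, CharTwo.add_self_eq_zero, zero_add]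

/-- The orthogonal upper bound. -/
theorem ortho_upper_two (hdim : Fintype.card ι = 2 * n) (Q : QuadraticForm F (ι → F))
    (hQ : Cfsg.Agent.Orthogonal.Nondeg Q) :
    Nat.card (ConjClasses ↥(Cfsg.isometryGroup F (⇑Q))) ≤ 15 * Fintype.card F ^ n := by
  classical
  have h := classes_le_zero (n := n) (G := ↥(Cfsg.isometryGroup F (⇑Q))) (orStr Q hQ)
    (fun g h i => by
      set M := LinearMap.toMatrix' (i.e : (ι → F) →ₗ[F] (ι → F)) with hM
      have hMv : ∀ v, M *ᵥ v = i.e v := fun v => by rw [hM, LinearMap.toMatrix'_mulVec]; rfl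
      have hdet : M.det ≠ 0 := fun h0 => by
        obtain ⟨v, hv0, hv⟩ := Matrix.exists_mulVec_eq_zero_iff.2 h0
        rw [hMv, LinearEquiv.map_eq_zero_iff] at hv
        exact hv0 hv
      refine isConj_iff.2 ⟨⟨Matrix.GeneralLinearGroup.mkOfDetNeZero M hdet,
        (Cfsg.Agent.Orthogonal.mem_isometryGroup_iff _ _).2 fun v => ?_⟩,
        mul_inv_eq_iff_eq_mul.2 (Subtype.ext (Units.ext (Matrix.ext_of_mulVec_single fun j => ?_)))⟩
      · show Q (M *ᵥ v) = Q v
        rw [hMv]
        exact i.map_q v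
      · show (M * ((g : GL ι F) : Matrix ι ι F)) *ᵥ _ = (((h : GL ι F) : Matrix ι ι F) * M) *ᵥ _
        rw [← Matrix.mulVec_mulVec, ← Matrix.mulVec_mulVec, hMv, hMv]
        exact i.map_T _)
    (fun g h => rfl)
    (by rw [Module.finrank_fintype_fun_eq_card, hdim])
  rw [Nat.card_eq_fintype_card (α := F)] at h
  rw [← @Nat.cast_le ℚ]
  push_cast
  linarith

end Cfsg.Agent.H7Class.Two
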