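import Cfsg.Agent.H7Class.TwoDecomp

/-!
# The moves between decompositions
-/

set_option autoImplicit false
set_option linter.unusedSectionVars false
set_option linter.style.haveILetI false

namespace Cfsg.Agent.H7Class.Two

open Polynomial
open UStr (nPoly Kill gen1_of gen2_of top_eq top_ev kill_iff ann_top)

universe v

variable {F : Type*} [Field F] [CharP F 2] [Finite F] {δ : ℕ}

/-- The length of the cycles of a key. -/
def UKey.len : UKey → ℕ
  | .V k _ => 2 * k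
  | .W k e _ => 2 * k + 1 - e

variable {V W U : Type v} [AddCommGroup V] [Module F V] [AddCommGroup W] [Module F W] [AddCommGroup U] [Module F U]

theorem isP_kill [FiniteDimensional F V] {κ : UKey} {X : UStr F δ V} (h : IsP κ X) :
    (∀ u, (X.N ^ κ.len) u = 0) ∧ ∃ u, (X.N ^ (κ.len - 1)) u ≠ 0 := by
  haveI : Finite V := Module.finite_of_finite F
  cases κ with
  | V k a =>
    obtain ⟨⟨hk, -⟩, v, G, -⟩ := h
    have hK : X.Kill k 1 := Kill.of_gen1 le_rfl hk G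
    refine ⟨fun u => ?_, v, ?_⟩
    · rw [UKey.len, show 2 * k = 2 * k + 1 - 1 by omega]; exact hK.2.2 u
    · rw [UKey.len, ← X.ev_nPoly, ← X.ev_pow', Ne, G.2]
      intro hd
      have := natDegree_le_of_dvd hd (pow_ne_zero _ irreducible_nPoly.ne_zero)
      rw [natDegree_nPoly_pow, natDegree_nPoly_pow] at this
      omega
  | W k e a =>
    obtain ⟨⟨he, hek, -⟩, v, w, G, -⟩ := h
    have hK : X.Kill k e := Kill.of_gen2 he hek G
    refine ⟨fun u => ?_, v, ?_⟩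
    · exact hK.2.2 u
    · rw [UKey.len, ← X.ev_nPoly, ← X.ev_pow', Ne, G.left]
      intro hd
      have := natDegree_le_of_dvd hd (pow_ne_zero _ irreducible_nPoly.ne_zero)
      rw [natDegree_nPoly_pow, natDegree_nPoly_pow] at this
      omega

theorem udecomp_kill : ∀ (L : List UKey) {V : Type v} [AddCommGroup V] [Module F V] [FiniteDimensional F V]
    (X : UStr F δ V), UDecomp L X →
      ∀ n, ((∀ κ ∈ L, κ.len ≤ n) ↔ ∀ u, (X.N ^ n) u = 0) := by
  intro L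
  induction L with
  | nil =>
    intro V _ _ _ X h n
    haveI : Subsingleton V := h
    exact ⟨fun _ u => Subsingleton.elim _ _, fun _ => by simp⟩
  | cons κ L ih =>
    intro V _ _ _ X h n
    obtain ⟨V₁, V₂, i₁, i₂, m₁, m₂, X₁, X₂, h1, h2, ⟨i⟩⟩ := h
    haveI := (finite_ufst i).1
    haveI := (finite_ufst i).2
    have key : (∀ u, (X.N ^ n) u = 0) ↔ (∀ u, (X₁.N ^ n) u = 0) ∧ ∀ u, (X₂.N ^ n) u = 0 := by
      refine ⟨fun h => ?_, fun h u => i.e.injective ?_⟩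
      · have h' : ∀ w, ((X₁.prod X₂).N ^ n) w = 0 := fun w => by
          obtain ⟨x, rfl⟩ := i.e.surjective w
          rw [← i.map_N_pow, h, map_zero]
        exact ⟨fun u => by simpa [UStr.prod_N_pow] using congrArg Prod.fst (h' (u, 0)),
          fun u => by simpa [UStr.prod_N_pow] using congrArg Prod.snd (h' (0, u))⟩
      · rw [i.map_N_pow, map_zero, UStr.prod_N_pow, h.1, h.2]; rfl
    rw [key, List.forall_mem_cons, ih X₂ h2 n]
    refine and_congr_left fun _ => ⟨fun hn u => ?_, fun hn => ?_⟩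
    · rw [show n = (n - κ.len) + κ.len by omega, pow_add, Module.End.mul_apply, (isP_kill h1).1, map_zero]
    · by_contra hlt
      obtain ⟨u, hu⟩ := (isP_kill h1).2
      apply hu
      rw [show κ.len - 1 = (κ.len - 1 - n) + n by omega, pow_add, Module.End.mul_apply, hn, map_zero]

theorem Valid.dim_pos {κ : UKey} (h : κ.Valid δ) : 0 < κ.dim := by
  cases κ with
  | V k a => have := h.1; simp only [UKey.dim]; omega
  | W k e a => have := h.1; have := h.2.1; simp only [UKey.dim]; omega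

/-- A structure of dimension `2k` with a cycle of length `2k`. -/
theorem decomp_single_V (hδ : δ ≤ 1) [FiniteDimensional F V] {X : UStr F δ V} {k : ℕ} (hk : 1 ≤ k)
    (hX : Unip X) (hd : Module.finrank F V = 2 * k) (h : ∃ u, (X.N ^ (2 * k - 1)) u ≠ 0) :
    ∃ a, UDecomp [.V k a] X := by
  obtain ⟨L, hL⟩ := exists_udecomp hδ X hX
  obtain ⟨κ, hκ, hlen⟩ : ∃ κ ∈ L, 2 * k - 1 < κ.len := by
    by_contra hc
    push Not at hc
    obtain ⟨u, hu⟩ := h
    exact hu ((udecomp_kill L X hL _).1 hc u)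
  have hval := valid_udecomp L X hL
  have hsum := finrank_udecomp L X hL
  have hperm := List.perm_cons_erase hκ
  rw [hd, (hperm.map UKey.dim).sum_eq, List.map_cons, List.sum_cons] at hsum
  obtain ⟨k', a, rfl⟩ : ∃ k' a, κ = .V k' a := by
    cases κ with
    | V k' a => exact ⟨k', a, rfl⟩
    | W k' e a => exfalso; simp only [UKey.dim, UKey.len] at hsum hlen; omega
  simp only [UKey.dim, UKey.len] at hsum hlen
  obtain rfl : k' = k := by omega
  have hnil : L.erase (.V k' a) = [] := by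
    match hL' : L.erase (.V k' a) with
    | [] => rfl
    | b :: t =>
      exfalso
      rw [hL', List.map_cons, List.sum_cons] at hsum
      have := Valid.dim_pos (hval b (List.mem_of_mem_erase (by rw [hL']; exact List.mem_cons_self)))
      omega
  rw [hnil] at hperm
  exact ⟨a, udecomp_perm hperm X hL⟩

/-- A structure of dimension `2m`, `m` odd, killed exactly by the exponent `m`. -/
theorem decomp_single_W (hδ : δ ≤ 1) [FiniteDimensional F V] {X : UStr F δ V} {k : ℕ}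
    (hX : ∀ u, (X.N ^ (2 * k + 1)) u = 0) (hd : Module.finrank F V = 2 * (2 * k + 1))
    (h : ∃ u, (X.N ^ (2 * k)) u ≠ 0) : ∃ a, UDecomp [.W k 0 a] X := by
  obtain ⟨L, hL⟩ := exists_udecomp hδ X ⟨_, hX⟩
  obtain ⟨κ, hκ, hlen⟩ : ∃ κ ∈ L, 2 * k < κ.len := by
    by_contra hc
    push Not at hc
    obtain ⟨u, hu⟩ := h
    exact hu ((udecomp_kill L X hL _).1 hc u)
  have hle := (udecomp_kill L X hL _).2 hX κ hκ
  have hval := valid_udecomp L X hL
  have hsum := finrank_udecomp L X hL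
  have hperm := List.perm_cons_erase hκ
  rw [hd, (hperm.map UKey.dim).sum_eq, List.map_cons, List.sum_cons] at hsum
  obtain ⟨a, rfl⟩ : ∃ a, κ = .W k 0 a := by
    cases κ with
    | V k' a => exfalso; simp only [UKey.len] at hle hlen; omega
    | W k' e a =>
      have := (hval _ hκ).1
      simp only [UKey.len] at hle hlen
      obtain ⟨rfl, rfl⟩ : k' = k ∧ e = 0 := by omega
      exact ⟨a, rfl⟩
  simp only [UKey.dim] at hsum
  have hnil : L.erase (.W k 0 a) = [] := by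
    match hL' : L.erase (.W k 0 a) with
    | [] => rfl
    | b :: t =>
      exfalso
      rw [hL', List.map_cons, List.sum_cons] at hsum
      have := Valid.dim_pos (hval b (List.mem_of_mem_erase (by rw [hL']; exact List.mem_cons_self)))
      omega
  rw [hnil] at hperm
  exact ⟨a, udecomp_perm hperm X hL⟩

/-- Splitting off a piece: a vector not reached by it survives in the complement. -/
theorem exists_rest [FiniteDimensional F V] {X : UStr F δ V} (hX : Unip X) (Z : Submodule F V)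
    (hT : ∀ v ∈ Z, X.T v ∈ Z) (hnd : ∀ u ∈ Z, (∀ v ∈ Z, X.B u v = 0) → u = 0) (κ : UKey)
    (h : IsP κ (X.restrict Z hT hnd)) :
    ∃ (W' : Submodule F V) (Y : UStr F δ W'), κ.dim + Module.finrank F W' = Module.finrank F V ∧ Unip Y ∧
      (∀ L, UDecomp L Y → UDecomp (κ :: L) X) ∧
      (∀ n, (∀ u, (X.N ^ n) u = 0) → ∀ u, (Y.N ^ n) u = 0) ∧
      ∀ n, (∃ x, ∀ z ∈ Z, (X.N ^ n) x ≠ (X.N ^ n) z) → ∃ u, (Y.N ^ n) u ≠ 0 := by
  obtain ⟨W', Y, hdim, i, hi⟩ := exists_ucomplement X Z hT hnd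
  rw [finrank_isP h] at hdim
  refine ⟨W', Y, hdim, (hX.of_prod i).2, fun L hL => ⟨Z, W', _, _, _, _, _, Y, h, hL, ⟨i⟩⟩,
    fun n hn u => ?_, fun n ⟨x, hx⟩ => ?_⟩
  · obtain ⟨x, hx⟩ := i.e.surjective (0, u)
    have := i.map_N_pow n x
    rw [hn, map_zero, hx, UStr.prod_N_pow] at this
    exact (congrArg Prod.snd this).symm
  · by_contra hc
    push Not at hc
    refine hx _ (i.e x).1.2 (i.e.injective ?_)
    rw [i.map_N_pow, i.map_N_pow, hi, UStr.prod_N_pow, UStr.prod_N_pow, hc, map_zero]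

theorem prod_topOp {k e : ℕ} (X : UStr F δ V) (Y : UStr F δ W) (w : V × W) :
    (X.prod Y).topOp k e w = (X.topOp k e w.1, Y.topOp k e w.2) := by
  rw [UStr.topOp, Module.End.mul_apply, UStr.prod_s_pow, UStr.prod_N_pow]
  rfl

theorem prod_ev [Finite V] [Finite W] (X : UStr F δ V) (Y : UStr F δ W) (g : F[X]) (w : V × W) :
    (X.prod Y).ev g w = (X.ev g w.1, Y.ev g w.2) := by
  induction g using Polynomial.induction_on generalizing w with
  | C c => rw [Str.ev_C, X.ev_C, Y.ev_C]; rfl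
  | add p q hp hq => rw [Str.ev_add, X.ev_add, Y.ev_add, hp, hq]; rfl
  | monomial n c ih =>
    rw [pow_succ, ← mul_assoc, Str.ev_mul, ih, Str.ev_X, X.ev_mul (C c * _), Y.ev_mul (C c * _), X.ev_X, Y.ev_X]
    rfl

theorem N_ev [FiniteDimensional F V] [Finite V] (X : UStr F δ V) (n : ℕ) (g : F[X]) (u : V) :
    (X.N ^ n) (X.ev g u) = X.ev g ((X.N ^ n) u) := by
  rw [← X.ev_nPoly, ← X.ev_pow', X.ev_comm]

theorem Unip.prod [FiniteDimensional F V] {X : UStr F δ V} {Y : UStr F δ W} (hX : Unip X) (hY : Unip Y) :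
    Unip (X.prod Y) := by
  obtain ⟨a, ha⟩ := hX
  obtain ⟨b, hb⟩ := hY
  refine ⟨a + b, fun u => ?_⟩
  rw [UStr.prod_N_pow]
  refine Prod.ext ?_ ?_
  · show (X.N ^ (a + b)) u.1 = 0
    rw [add_comm, pow_add, Module.End.mul_apply, ha, map_zero]
  · show (Y.N ^ (a + b)) u.2 = 0
    rw [pow_add, Module.End.mul_apply, hb, map_zero]

theorem isP_unip [FiniteDimensional F V] {κ : UKey} {X : UStr F δ V} (h : IsP κ X) : Unip X :=
  ⟨_, (isP_kill h).1⟩

variable [FiniteDimensional F V] [FiniteDimensional F W]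

/-- The first kind of move, between two `V`s. -/
theorem move_VV (hδ : δ ≤ 1) {k : ℕ} {X₁ : UStr F δ V} {X₂ : UStr F δ W} (h1 : IsP (.V k true) X₁)
    (h2 : IsP (.V k true) X₂) : ∃ a, UDecomp [.V k false, .V k a] (X₁.prod X₂) := by
  haveI : Finite V := Module.finite_of_finite F
  haveI : Finite W := Module.finite_of_finite F
  obtain ⟨hk1, hka⟩ := valid_of_isP h1
  have hk : δ + 1 ≤ k := hka rfl
  obtain ⟨v₁, G₁, hv₁⟩ := UStr.exists_normV hδ h1
  obtain ⟨v₂, G₂, hv₂⟩ := UStr.exists_normV hδ h2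
  have hK₁ : X₁.Kill k 1 := Kill.of_gen1 le_rfl hk1 G₁
  have hK₂ : X₂.Kill k 1 := Kill.of_gen1 le_rfl hk1 G₂
  have hK : (X₁.prod X₂).Kill k 1 := ⟨le_rfl, hk1, fun u => by rw [UStr.prod_N_pow, hK₁.2.2, hK₂.2.2]; rfl⟩
  obtain ⟨c, hc⟩ := exists_sqrt (asNon F)
  set x : V × W := (v₁, c • X₂.N v₂) with hx
  have hN : ∀ i, X₂.lev i (X₂.N v₂) = X₂.lev (i + 1) v₂ := fun i => by
    have := X₂.lev_N i 1 v₂; rwa [pow_one] at this
  have hl : ∀ i, (X₁.prod X₂).lev i x = X₁.lev i v₁ + c ^ 2 * X₂.lev (i + 1) v₂ := fun i => by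
    rw [UStr.prod_lev, UStr.lev_smul, hN]
  have htop : (X₁.prod X₂).lev (k - δ) x ≠ 0 := by
    rw [hl, hv₁, hK₂.lev_eq_zero hδ (i := k - δ + 1) (by omega), mul_zero, add_zero, UStr.stdV,
      if_pos (by omega)]
    exact one_ne_zero
  have hlow : (X₁.prod X₂).lev (k - δ - 1) x = 0 := by
    rw [hl, hv₁, hv₂, UStr.stdV, UStr.stdV, if_neg (by omega), if_pos (by omega), if_pos (by omega), hc, mul_one,
      asVal, if_pos rfl, CharTwo.add_self_eq_zero]
  obtain ⟨Z, hT, hnd, a, hZ, ha⟩ := exists_piece_V hδ hK htop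
  obtain rfl : a = false := by
    by_contra hat
    rw [Bool.not_eq_false] at hat
    subst hat
    obtain ⟨-, -, -, -, -, ht⟩ := ha
    have hxZ : x ∈ Z := by rw [hZ]; exact mem_span1.2 ⟨1, Str.ev_one _ x⟩
    exact ht rfl ⟨x, hxZ⟩ (by rw [restrict_lev]; exact htop) (by rw [restrict_lev]; exact hlow)
  obtain ⟨W', Y, hdim, hY, hdec, -, hbig⟩ := exists_rest ((isP_unip h1).prod (isP_unip h2)) Z hT hnd _ ha
  rw [Module.finrank_prod, finrank_isP h1, finrank_isP h2] at hdim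
  simp only [UKey.dim] at hdim
  suffices hne : ∀ z ∈ Z, _ ≠ _ by
    obtain ⟨a, hYd⟩ := decomp_single_V hδ hk1 hY (by omega) (hbig _ ⟨(0, v₂), hne⟩)
    exact ⟨a, hdec _ hYd⟩
  intro z hz
  rw [hZ] at hz
  obtain ⟨g, rfl⟩ := mem_span1.1 hz
  rw [prod_ev, UStr.prod_N_pow, UStr.prod_N_pow]
  intro he
  have he2 : (X₂.N ^ (2 * k - 1)) v₂ = (X₂.N ^ (2 * k - 1)) (X₂.ev g (c • X₂.N v₂)) := congrArg Prod.snd he
  rw [N_ev, map_smul, ← Module.End.mul_apply, ← pow_succ, show 2 * k - 1 + 1 = 2 * k + 1 - 1 by omega, hK₂.2.2,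
    smul_zero, map_zero] at he2
  have := (G₂.2 (nPoly ^ (2 * k - 1))).1 (by rw [X₂.ev_pow', X₂.ev_nPoly]; exact he2)
  have := natDegree_le_of_dvd this (pow_ne_zero _ irreducible_nPoly.ne_zero)
  rw [natDegree_nPoly_pow, natDegree_nPoly_pow] at this
  omega

/-- The chain move. -/
theorem move_chain (hδ : δ ≤ 1) {k : ℕ} {b : Bool} {X₁ : UStr F δ V} {X₂ : UStr F δ W}
    (h1 : IsP (.V (k + 1) true) X₁) (h2 : IsP (.V k b) X₂) :
    ∃ a, UDecomp [.V (k + 1) false, .V k a] (X₁.prod X₂) := by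
  haveI : Finite V := Module.finite_of_finite F
  haveI : Finite W := Module.finite_of_finite F
  obtain ⟨hk1, hka⟩ := valid_of_isP h1
  have hk2 : 1 ≤ k := (valid_of_isP h2).1
  obtain ⟨v₁, G₁, hv₁⟩ := UStr.exists_normV hδ h1
  obtain ⟨v₂, G₂, hv₂⟩ := UStr.exists_normV hδ h2
  have hK₁ : X₁.Kill (k + 1) 1 := Kill.of_gen1 le_rfl hk1 G₁
  have hK₂ : X₂.Kill k 1 := Kill.of_gen1 le_rfl hk2 G₂
  have hK : (X₁.prod X₂).Kill (k + 1) 1 := ⟨le_rfl, hk1, fun u => by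
    rw [UStr.prod_N_pow, hK₁.2.2, show 2 * (k + 1) + 1 - 1 = 2 + (2 * k + 1 - 1) by omega, pow_add X₂.N,
      Module.End.mul_apply, hK₂.2.2, map_zero]; rfl⟩
  obtain ⟨c, hc⟩ := exists_sqrt (asNon F)
  set x : V × W := (v₁, c • v₂) with hx
  have hl : ∀ i, (X₁.prod X₂).lev i x = X₁.lev i v₁ + c ^ 2 * X₂.lev i v₂ := fun i => by
    rw [UStr.prod_lev, UStr.lev_smul]
  have htop : (X₁.prod X₂).lev (k + 1 - δ) x ≠ 0 := by
    rw [hl, hv₁, hK₂.lev_eq_zero hδ (i := k + 1 - δ) (by omega), mul_zero, add_zero, UStr.stdV,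
      if_pos (by omega)]
    exact one_ne_zero
  have hlow : (X₁.prod X₂).lev (k + 1 - δ - 1) x = 0 := by
    rw [hl, hv₁, hv₂, UStr.stdV, UStr.stdV, if_neg (by omega), if_pos (by omega), if_pos (by omega), hc, mul_one,
      asVal, if_pos rfl, CharTwo.add_self_eq_zero]
  obtain ⟨Z, hT, hnd, a, hZ, ha⟩ := exists_piece_V hδ hK htop
  obtain rfl : a = false := by
    by_contra hat
    rw [Bool.not_eq_false] at hat
    subst hat
    obtain ⟨-, -, -, -, -, ht⟩ := ha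
    have hxZ : x ∈ Z := by rw [hZ]; exact mem_span1.2 ⟨1, Str.ev_one _ x⟩
    exact ht rfl ⟨x, hxZ⟩ (by rw [restrict_lev]; exact htop) (by rw [restrict_lev]; exact hlow)
  obtain ⟨W', Y, hdim, hY, hdec, -, hbig⟩ := exists_rest ((isP_unip h1).prod (isP_unip h2)) Z hT hnd _ ha
  rw [Module.finrank_prod, finrank_isP h1, finrank_isP h2] at hdim
  simp only [UKey.dim] at hdim
  suffices hne : ∀ z ∈ Z, _ ≠ _ by
    obtain ⟨a, hYd⟩ := decomp_single_V hδ hk2 hY (by omega) (hbig _ ⟨(0, v₂), hne⟩)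
    exact ⟨a, hdec _ hYd⟩
  intro z hz
  rw [hZ] at hz
  obtain ⟨g, rfl⟩ := mem_span1.1 hz
  rw [prod_ev, UStr.prod_N_pow, UStr.prod_N_pow]
  intro he
  have he1 : (X₁.N ^ (2 * k - 1)) 0 = (X₁.N ^ (2 * k - 1)) (X₁.ev g v₁) := congrArg Prod.fst he
  have he2 : (X₂.N ^ (2 * k - 1)) v₂ = (X₂.N ^ (2 * k - 1)) (X₂.ev g (c • v₂)) := congrArg Prod.snd he
  rw [map_zero, ← X₁.ev_nPoly, ← X₁.ev_pow', ← X₁.ev_mul, eq_comm, G₁.2] at he1
  have hd : nPoly ^ (2 * k + 1 - 1) ∣ nPoly ^ (2 * k - 1) * g :=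
    (pow_dvd_pow _ (by omega)).trans he1
  rw [← X₂.ev_nPoly, ← X₂.ev_pow', ← X₂.ev_mul, map_smul, (G₂.2 _).2 hd, smul_zero, G₂.2] at he2
  have := natDegree_le_of_dvd he2 (pow_ne_zero _ irreducible_nPoly.ne_zero)
  rw [natDegree_nPoly_pow, natDegree_nPoly_pow] at this
  omega

omit [FiniteDimensional F V] [FiniteDimensional F W] in
theorem span2_top_lev {P : Type v} [AddCommGroup P] [Module F P] [FiniteDimensional F P] [Finite P]
    {X : UStr F δ P} {k : ℕ} (hK : X.Kill k 1) (hδ : δ ≤ 1) (g : F[X]) (u : P) :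
    X.lev (k - δ) (X.ev g u) = g.eval 1 ^ 2 * X.lev (k - δ) u := by
  rw [← hK.B_top_self_V hδ, ← hK.B_top_self_V hδ, top_ev hK, map_smul, LinearMap.smul_apply, hK.topOp_symm,
    top_ev hK, map_smul, ← hK.topOp_symm, smul_eq_mul, smul_eq_mul]
  ring

/-- Three `V`s contain a `W`. -/
theorem move_VVV (hδ : δ ≤ 1) [FiniteDimensional F U] {k : ℕ} {a b c : Bool} {X₁ : UStr F δ V}
    {X₂ : UStr F δ W} {X₃ : UStr F δ U} (h1 : IsP (.V k a) X₁) (h2 : IsP (.V k b) X₂) (h3 : IsP (.V k c) X₃) :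
    ∃ w d, UDecomp [.W k 1 w, .V k d] (X₁.prod (X₂.prod X₃)) := by
  haveI : Finite V := Module.finite_of_finite F
  haveI : Finite W := Module.finite_of_finite F
  haveI : Finite U := Module.finite_of_finite F
  have hk1 : 1 ≤ k := (valid_of_isP h1).1
  obtain ⟨v₁, G₁, hv₁⟩ := UStr.exists_normV hδ h1
  obtain ⟨v₂, G₂, hv₂⟩ := UStr.exists_normV hδ h2
  obtain ⟨v₃, G₃, hv₃⟩ := UStr.exists_normV hδ h3
  have hK₁ : X₁.Kill k 1 := Kill.of_gen1 le_rfl hk1 G₁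
  have hK₂ : X₂.Kill k 1 := Kill.of_gen1 le_rfl hk1 G₂
  have hK₃ : X₃.Kill k 1 := Kill.of_gen1 le_rfl hk1 G₃
  set P := X₁.prod (X₂.prod X₃)
  have hK : P.Kill k 1 := ⟨le_rfl, hk1, fun u => by
    rw [UStr.prod_N_pow, UStr.prod_N_pow, hK₁.2.2, hK₂.2.2, hK₃.2.2]; rfl⟩
  have hone : ∀ i, i + δ = k → ∀ a, UStr.stdV (F := F) δ k a i = 1 := fun i hi a => if_pos hi
  have t1 : X₁.lev (k - δ) v₁ = 1 := by rw [hv₁]; exact hone _ (by omega) _
  have t2 : X₂.lev (k - δ) v₂ = 1 := by rw [hv₂]; exact hone _ (by omega) _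
  have t3 : X₃.lev (k - δ) v₃ = 1 := by rw [hv₃]; exact hone _ (by omega) _
  set x : V × W × U := (v₁, v₂, 0) with hx
  set y : V × W × U := (v₁, 0, v₃) with hy
  have hxy : P.B (P.topOp k 1 x) y ≠ 0 := by
    rw [prod_topOp, prod_topOp]
    show X₁.B (X₁.topOp k 1 v₁) v₁ + (X₂.B (X₂.topOp k 1 v₂) 0 + X₃.B (X₃.topOp k 1 0) v₃) ≠ 0
    rw [hK₁.B_top_self_V hδ, t1, map_zero, map_zero, map_zero, LinearMap.zero_apply]
    simp
  have hcomp : ∀ g l : F[X], P.ev g x + P.ev l y = (X₁.ev (g + l) v₁, X₂.ev g v₂, X₃.ev l v₃) := fun g l => by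
    rw [prod_ev, prod_ev, prod_ev, prod_ev, X₁.ev_add]
    simp [hx, hy]
  obtain ⟨Z, hT, hnd, w, hZ, hw⟩ := exists_piece_W hδ hK hxy (fun _ u hu => by
    obtain ⟨g, l, rfl⟩ := mem_span2.1 hu
    rw [hcomp, UStr.prod_lev, UStr.prod_lev, span2_top_lev hK₁ hδ, span2_top_lev hK₂ hδ, span2_top_lev hK₃ hδ,
      t1, t2, t3, eval_add, CharTwo.add_sq, mul_one, mul_one, mul_one]
    exact CharTwo.add_self_eq_zero _)
  obtain ⟨W', Y, hdim, hY, hdec, -, hbig⟩ :=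
    exists_rest ((isP_unip h1).prod ((isP_unip h2).prod (isP_unip h3))) Z hT hnd _ hw
  rw [Module.finrank_prod, Module.finrank_prod, finrank_isP h1, finrank_isP h2, finrank_isP h3] at hdim
  simp only [UKey.dim] at hdim
  suffices hne : ∀ z ∈ Z, _ ≠ _ by
    obtain ⟨d, hYd⟩ := decomp_single_V hδ hk1 hY (by omega) (hbig _ ⟨(0, 0, v₃), hne⟩)
    exact ⟨w, d, hdec _ hYd⟩
  intro z hz
  rw [hZ] at hz
  obtain ⟨g, l, rfl⟩ := mem_span2.1 hz
  rw [hcomp, UStr.prod_N_pow, UStr.prod_N_pow, UStr.prod_N_pow, UStr.prod_N_pow]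
  intro he
  simp only [Prod.mk.injEq, map_zero] at he
  obtain ⟨e1, e2, e3⟩ := he
  rw [← X₁.ev_nPoly, ← X₁.ev_pow', ← X₁.ev_mul, eq_comm, G₁.2] at e1
  rw [← X₂.ev_nPoly, ← X₂.ev_pow', ← X₂.ev_mul, eq_comm, G₂.2] at e2
  have hd := dvd_sub e1 e2
  rw [← mul_sub, add_sub_cancel_left] at hd
  rw [← X₃.ev_nPoly, ← X₃.ev_pow', ← X₃.ev_mul, (G₃.2 _).2 hd, G₃.2] at e3
  have := natDegree_le_of_dvd e3 (pow_ne_zero _ irreducible_nPoly.ne_zero)
  rw [natDegree_nPoly_pow, natDegree_nPoly_pow] at this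
  omega

/-- Absorbing the class of a `W` by a `V`. -/
theorem move_WV (hδ : δ ≤ 1) {k j : ℕ} {b : Bool} (hj : j = k ∨ j = k + 1) {X₁ : UStr F δ V} {X₂ : UStr F δ W}
    (h1 : IsP (.W k 0 true) X₁) (h2 : IsP (.V j b) X₂) :
    ∃ a, UDecomp [.W k 0 false, .V j a] (X₁.prod X₂) := by
  haveI : Finite V := Module.finite_of_finite F
  haveI : Finite W := Module.finite_of_finite F
  have hj1 : 1 ≤ j := (valid_of_isP h2).1
  obtain ⟨-, hk, v, w, G₁, hp, hv, hw⟩ := UStr.exists_normW' hδ h1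
  obtain ⟨v₂, G₂, hv₂⟩ := UStr.exists_normV hδ h2
  have hK₁ : X₁.Kill k 0 := Kill.of_gen2 (Nat.zero_le 1) (Nat.zero_le k) G₁
  have hK₂ : X₂.Kill j 1 := Kill.of_gen1 le_rfl hj1 G₂
  set s := j - k
  set x : V × W := (v, (X₂.N ^ s) v₂) with hx
  set y : V × W := (w, 0) with hy
  set P := X₁.prod X₂
  set n := 2 * j - 1
  have htoplev : P.lev (k - δ) x = 0 := by
    rw [UStr.prod_lev, UStr.lev_N, hv, hv₂, if_pos (by omega), UStr.stdV, if_pos (by omega)]
    exact CharTwo.add_self_eq_zero 1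
  -- work inside the invariant subspace killed by the exponent `2k + 1`
  have hKj : j = k ∨ j = k + 1 := hj
  have hker : ∀ u, (X₂.N ^ (2 * k + 1)) ((X₂.N ^ s) u) = 0 := fun u => by
    rw [← Module.End.mul_apply, ← pow_add, show 2 * k + 1 + s = (2 * k + 1 + s - (2 * j + 1 - 1)) + (2 * j + 1 - 1)
      by omega, pow_add, Module.End.mul_apply, hK₂.2.2, map_zero]
  have hxker : (P.N ^ (2 * k + 1 - 0)) x = 0 := by
    rw [UStr.prod_N_pow, hK₁.2.2]
    exact Prod.ext rfl (hker v₂)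
  have hyker : (P.N ^ (2 * k + 1 - 0)) y = 0 := by
    rw [UStr.prod_N_pow, hK₁.2.2, map_zero]; rfl
  have hPN : ∀ (i : ℕ) (z : V × W), (P.N ^ i) z = ((X₁.N ^ i) z.1, (X₂.N ^ i) z.2) :=
    fun i z => UStr.prod_N_pow _ _ i z
  have hsock : X₂.B ((X₂.N ^ (2 * k)) ((X₂.N ^ s) v₂)) ((X₂.N ^ s) v₂) = 0 := by
    rcases hj with rfl | rfl
    · have h0 : (X₂.N ^ (2 * j)) ((X₂.N ^ s) v₂) = 0 := by
        rw [show 2 * j = 2 * j + 1 - 1 by omega]; exact hK₂.2.2 _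
      rw [h0, map_zero, LinearMap.zero_apply]
    · rw [show s = 1 by omega, pow_one, ← Module.End.mul_apply, ← pow_succ]
      set z := (X₂.N ^ (2 * k + 1)) v₂
      have hz : X₂.N z = 0 := by
        rw [← Module.End.mul_apply, ← pow_succ', show 2 * k + 1 + 1 = 2 * (k + 1) + 1 - 1 by omega, hK₂.2.2]
      have hfix : X₂.T z = z := by
        rw [UStr.N_apply] at hz
        calc X₂.T z = X₂.T z + (z + z) := by rw [add_self_vec (F := F), add_zero]
          _ = z := by rw [← add_assoc, hz, zero_add]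
      rw [UStr.N_apply, map_add]
      nth_rw 1 [← hfix]
      rw [X₂.inv, CharTwo.add_self_eq_zero]
  have e0 : ∀ u, (X₁.N ^ (2 * k)) u = X₁.topOp k 0 u := fun u => by
    rw [top_eq hK₁, UStr.ev_pow', UStr.ev_nPoly, Nat.sub_zero]
  have hself : ∀ u, X₁.B (X₁.topOp k 0 u) u = 0 := fun u => by rw [hK₁.topOp_self hδ, if_pos rfl]
  have hxx : P.B ((P.N ^ (2 * k)) x) x = 0 := by
    rw [hPN]
    show X₁.B ((X₁.N ^ (2 * k)) v) v + X₂.B _ _ = 0
    rw [e0, hself]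
    exact (zero_add _).trans hsock
  have hyy : P.B ((P.N ^ (2 * k)) y) y = 0 := by
    rw [hPN]
    show X₁.B ((X₁.N ^ (2 * k)) w) w + X₂.B _ 0 = 0
    rw [e0, hself, map_zero, add_zero]
  have hxy : P.B ((P.N ^ (2 * k)) x) y ≠ 0 := by
    rw [hPN]
    show X₁.B ((X₁.N ^ (2 * k)) v) w + X₂.B _ 0 ≠ 0
    rw [e0, hp, map_zero, add_zero]
    exact one_ne_zero
  have hyx : P.B ((P.N ^ (2 * k)) y) x ≠ 0 := by
    rw [hPN]
    show X₁.B ((X₁.N ^ (2 * k)) w) v + X₂.B ((X₂.N ^ (2 * k)) 0) _ ≠ 0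
    rw [e0, hK₁.topOp_symm, X₁.B_comm, hp, map_zero, map_zero, LinearMap.zero_apply, add_zero]
    exact one_ne_zero
  obtain ⟨Z, hT, hnd, a, hZ, ha⟩ := exists_piece_W_odd hδ (by simpa using hxker) (by simpa using hyker)
    hxx hyy hxy hyx
  obtain rfl : a = false := by
    by_contra hat
    rw [Bool.not_eq_false] at hat
    subst hat
    obtain ⟨-, x', y', G, -, -, -, ht⟩ := ha
    have hxZ : x ∈ Z := by rw [hZ]; exact mem_span2.2 ⟨1, 0, by rw [Str.ev_one, Str.ev_zero, add_zero]⟩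
    refine ht rfl ⟨x, hxZ⟩ (fun h0 => hxy ?_) (by rw [restrict_lev]; exact htoplev)
    have h' := congrArg Subtype.val h0
    rw [top_eq (Kill.of_gen2 (Nat.zero_le 1) (Nat.zero_le k) G), restrict_ev', Submodule.coe_zero, Nat.sub_zero,
      UStr.ev_pow', UStr.ev_nPoly] at h'
    rw [h', map_zero, LinearMap.zero_apply]
  obtain ⟨W', Y, hdim, hY, hdec, -, hbig⟩ := exists_rest ((isP_unip h1).prod (isP_unip h2)) Z hT hnd _ ha
  rw [Module.finrank_prod, finrank_isP h1, finrank_isP h2] at hdim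
  simp only [UKey.dim] at hdim
  suffices hne : ∀ z ∈ Z, _ ≠ _ by
    obtain ⟨d, hYd⟩ := decomp_single_V hδ hj1 hY (by omega) (hbig _ ⟨(0, v₂), hne⟩)
    exact ⟨d, hdec _ hYd⟩
  intro z hz
  rw [hZ] at hz
  obtain ⟨g, l, rfl⟩ := mem_span2.1 hz
  rw [prod_ev, prod_ev, hPN, hPN]
  intro he
  have he1 : (X₁.N ^ (2 * j - 1)) 0 = (X₁.N ^ (2 * j - 1)) (X₁.ev g v + X₁.ev l w) := congrArg Prod.fst he
  have he2 : (X₂.N ^ (2 * j - 1)) v₂ = (X₂.N ^ (2 * j - 1)) (X₂.ev g ((X₂.N ^ s) v₂) + X₂.ev l 0) :=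
    congrArg Prod.snd he
  rw [map_zero, ← X₁.ev_nPoly, ← X₁.ev_pow', map_add, ← X₁.ev_mul, ← X₁.ev_mul, eq_comm, G₁.2] at he1
  have hd : nPoly ^ (2 * j + 1 - 1) ∣ nPoly ^ (2 * j - 1) * (g * nPoly ^ s) := by
    rw [← mul_assoc]
    refine (pow_dvd_pow nPoly (show 2 * j + 1 - 1 ≤ 2 * k + 1 - 0 + s by omega)).trans ?_
    rw [pow_add]
    exact mul_dvd_mul_right he1.1 _
  rw [← X₂.ev_nPoly, ← X₂.ev_pow', ← X₂.ev_pow', map_zero, add_zero, ← X₂.ev_mul g, ← X₂.ev_mul,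
    (G₂.2 _).2 hd, G₂.2] at he2
  have := natDegree_le_of_dvd he2 (pow_ne_zero _ irreducible_nPoly.ne_zero)
  rw [natDegree_nPoly_pow, natDegree_nPoly_pow] at this
  omega

/-- Two `W`s with a class. -/
theorem move_WW (hδ : δ ≤ 1) {k : ℕ} {X₁ : UStr F δ V} {X₂ : UStr F δ W} (h1 : IsP (.W k 0 true) X₁)
    (h2 : IsP (.W k 0 true) X₂) : ∃ a, UDecomp [.W k 0 false, .W k 0 a] (X₁.prod X₂) := by
  haveI : Finite V := Module.finite_of_finite F
  haveI : Finite W := Module.finite_of_finite F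
  obtain ⟨-, hk, v, w, G₁, hp, hv, hw⟩ := UStr.exists_normW' hδ h1
  obtain ⟨-, -, v₂, w₂, G₂, hp₂, hv₂, hw₂⟩ := UStr.exists_normW' hδ h2
  have hK₁ : X₁.Kill k 0 := Kill.of_gen2 (Nat.zero_le 1) (Nat.zero_le k) G₁
  have hK₂ : X₂.Kill k 0 := Kill.of_gen2 (Nat.zero_le 1) (Nat.zero_le k) G₂
  set P := X₁.prod X₂
  have hK : P.Kill k 0 := ⟨Nat.zero_le 1, Nat.zero_le k, fun u => by
    rw [UStr.prod_N_pow, hK₁.2.2, hK₂.2.2]; rfl⟩
  set x : V × W := (v, v₂) with hx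
  set y : V × W := (w, 0) with hy
  have hxy : P.B (P.topOp k 0 x) y ≠ 0 := by
    rw [prod_topOp]
    show X₁.B (X₁.topOp k 0 v) w + X₂.B _ 0 ≠ 0
    rw [hp, map_zero, add_zero]; exact one_ne_zero
  obtain ⟨Z, hT, hnd, a, hZ, ha⟩ := exists_piece_W hδ hK hxy (fun he => absurd he (by omega))
  obtain rfl : a = false := by
    by_contra hat
    rw [Bool.not_eq_false] at hat
    subst hat
    obtain ⟨-, -, -, -, -, -, -, ht⟩ := ha
    have hxZ : x ∈ Z := by rw [hZ]; exact mem_span2.2 ⟨1, 0, by rw [Str.ev_one, Str.ev_zero, add_zero]⟩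
    refine ht rfl ⟨x, hxZ⟩ (fun h0 => hxy ?_) ?_
    · rw [← restrict_topOp P Z hT hnd ⟨x, hxZ⟩, h0, Submodule.coe_zero, map_zero, LinearMap.zero_apply]
    · rw [restrict_lev]
      show P.lev (k - δ) x = 0
      rw [UStr.prod_lev, hv, hv₂, if_pos (by omega)]
      exact CharTwo.add_self_eq_zero 1
  obtain ⟨W', Y, hdim, hY, hdec, hsmall, hbig⟩ := exists_rest ((isP_unip h1).prod (isP_unip h2)) Z hT hnd _ ha
  rw [Module.finrank_prod, finrank_isP h1, finrank_isP h2] at hdim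
  simp only [UKey.dim] at hdim
  suffices hne : ∀ z ∈ Z, _ ≠ _ by
    obtain ⟨d, hYd⟩ := decomp_single_W hδ (hsmall (2 * k + 1) fun u => by simpa using hK.2.2 u) (by omega)
      (hbig _ ⟨(0, v₂), hne⟩)
    exact ⟨d, hdec _ hYd⟩
  intro z hz
  rw [hZ] at hz
  obtain ⟨g, l, rfl⟩ := mem_span2.1 hz
  rw [prod_ev, prod_ev, UStr.prod_N_pow, UStr.prod_N_pow]
  intro he
  have he1 : (X₁.N ^ (2 * k)) 0 = (X₁.N ^ (2 * k)) (X₁.ev g v + X₁.ev l w) := congrArg Prod.fst he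
  have he2 : (X₂.N ^ (2 * k)) v₂ = (X₂.N ^ (2 * k)) (X₂.ev g v₂ + X₂.ev l 0) := congrArg Prod.snd he
  rw [map_zero, ← X₁.ev_nPoly, ← X₁.ev_pow', map_add, ← X₁.ev_mul, ← X₁.ev_mul, eq_comm, G₁.2] at he1
  rw [← X₂.ev_nPoly, ← X₂.ev_pow', map_zero, add_zero, ← X₂.ev_mul, (G₂.left _).2 he1.1, G₂.left] at he2
  have := natDegree_le_of_dvd he2 (pow_ne_zero _ irreducible_nPoly.ne_zero)
  rw [natDegree_nPoly_pow, natDegree_nPoly_pow] at this
  omega

end Cfsg.Agent.H7Class.Two
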