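import Cfsg.Agent.H7Class.Atom

/-!
# Structures without fixed vectors in characteristic two
-/

set_option autoImplicit false
set_option linter.unusedSectionVars false

namespace Cfsg.Agent.H7Class.Two

open Polynomial

universe v

/-! ### Norms in a finite ring -/

theorem add_pow_two_pow {R : Type*} [CommRing R] (h2 : (2 : R) = 0) (x y : R) :
    ∀ a : ℕ, (x + y) ^ 2 ^ a = x ^ 2 ^ a + y ^ 2 ^ a := by
  intro a
  induction a with
  | zero => simp
  | succ a ih =>
    rw [pow_succ, pow_mul, ih, pow_mul, pow_mul]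
    linear_combination (x ^ 2 ^ a * y ^ 2 ^ a) * h2

/-- A fixed unit is a norm. -/
theorem exists_norm_two {R : Type*} [CommRing R] [Finite R] (h2 : (2 : R) = 0) (σ : R →+* R) {lam : R}
    (hlam : lam + σ lam = 1) {k : R} (hk : σ k = k) (hu : IsUnit k) :
    ∃ x, x * σ x = k := by
  classical
  obtain ⟨u, rfl⟩ := hu
  have hσ : σ lam = 1 + lam := by linear_combination hlam - lam * h2
  -- a square modulo nilpotents
  obtain ⟨a, r, hr, hN⟩ := Nat.exists_eq_pow_mul_and_not_dvd (orderOf_pos u).ne' 2 (by norm_num)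
  obtain ⟨t, rfl⟩ : ∃ t, r = 2 * t + 1 := ⟨r / 2, by omega⟩
  have hnil : IsNilpotent ((u : R) ^ (2 * t + 1) + 1) := ⟨2 ^ a, by
    rw [add_pow_two_pow h2, one_pow, ← pow_mul, mul_comm, ← hN, ← Units.val_pow_eq_pow_val, pow_orderOf_eq_one,
      Units.val_one]
    linear_combination h2⟩
  set g := u ^ (t + 1) with hg
  have hgf : σ (g : R) = g := by rw [hg, Units.val_pow_eq_pow_val, map_pow, hk]
  set j : R := ((u : R) ^ (2 * t + 1) + 1) * ((g⁻¹ * g⁻¹ * u : Rˣ) : R) with hj
  have hjn : IsNilpotent j := (Commute.all _ _).isNilpotent_mul_right hnil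
  have hkj : (g : R) * g * (1 + j) = u := by
    have e1 : (g : R) * g = (u : R) ^ (2 * t + 1) * u := by
      rw [hg, Units.val_pow_eq_pow_val, ← pow_add, ← pow_succ]; congr 1; omega
    have e2 : (g : R) * g * ((g⁻¹ * g⁻¹ * u : Rˣ) : R) = u := by
      rw [← Units.val_mul, ← Units.val_mul]
      exact congrArg Units.val (by group)
    calc (g : R) * g * (1 + j) = g * g + ((u : R) ^ (2 * t + 1) + 1) * (g * g * ((g⁻¹ * g⁻¹ * u : Rˣ) : R)) := by
          rw [hj]; ring
      _ = _ := by rw [e2, e1]; linear_combination ((u : R) ^ (2 * t + 1) * u) * h2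
  have hgi : σ ((g⁻¹ : Rˣ) : R) = ((g⁻¹ : Rˣ) : R) := by
    calc σ ((g⁻¹ : Rˣ) : R) = σ ((g⁻¹ : Rˣ) : R) * (σ (g : R) * ((g⁻¹ : Rˣ) : R)) := by
          rw [hgf, Units.mul_inv, mul_one]
      _ = σ (((g⁻¹ : Rˣ) : R) * g) * ((g⁻¹ : Rˣ) : R) := by rw [map_mul, mul_assoc]
      _ = _ := by rw [Units.inv_mul, map_one, one_mul]
  have hjf : σ j = j := by
    rw [hj, map_mul, map_add, map_one, map_pow, hk, Units.val_mul, Units.val_mul, map_mul, map_mul, hgi, hk]
  -- the nilpotent part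
  set c := lam * σ lam with hc
  have hcf : σ c = c := by
    rw [hc, map_mul, hσ, map_add, map_one, hσ]
    linear_combination (1 + lam) * h2
  let S := {x : R // σ x = x ∧ IsNilpotent x}
  let ψ : S → S := fun x => ⟨x.1 + c * x.1 ^ 2, by rw [map_add, map_mul, map_pow, hcf, x.2.1],
    (Commute.all _ _).isNilpotent_add x.2.2
      ((Commute.all _ _).isNilpotent_mul_left (x.2.2.pow_of_pos two_ne_zero))⟩
  have hinj : Function.Injective ψ := by
    rintro ⟨x, hx⟩ ⟨y, hy⟩ h
    have h' : x + c * x ^ 2 = y + c * y ^ 2 := congrArg Subtype.val h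
    have hun : IsUnit (1 + c * (x + y)) :=
      ((Commute.all _ _).isNilpotent_mul_left ((Commute.all _ _).isNilpotent_add hx.2 hy.2)).isUnit_one_add
    exact Subtype.ext (sub_eq_zero.1 (hun.mul_left_eq_zero.1 (show (x - y) * (1 + c * (x + y)) = 0 by
      linear_combination h')))
  obtain ⟨⟨j', hj'f, hj'n⟩, hψ⟩ := (Finite.injective_iff_surjective.1 hinj) ⟨j, hjf, hjn⟩
  have hψ' : j' + c * j' ^ 2 = j := congrArg Subtype.val hψ
  refine ⟨g * (1 + j' * lam), ?_⟩
  rw [map_mul, map_add, map_mul, map_one, hgf, hj'f, ← hkj, ← hψ', hc]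
  linear_combination (g : R) * g * j' * hlam

variable {F : Type*} [Field F] [CharP F 2] [Finite F] {V W : Type v} [AddCommGroup V] [Module F V]
  [AddCommGroup W] [Module F W]

/-- Self-dual primes of degree at least two: one class. -/
theorem iso_self_two [FiniteDimensional F V] {X : Str F (1 : F) V} {Y : Str F (1 : F) W} {v : V} {w : W}
    {f : F[X]} {e : ℕ} (hf : Irreducible f) (hm : f.Monic) (hd : 2 ≤ f.natDegree)
    (G : Gen1 X v (f ^ e)) (H : Gen1 Y w (f ^ e)) : Nonempty (Iso Y X) := by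
  classical
  haveI : Finite V := Module.finite_of_finite F
  obtain ⟨φ, hφ, hφv⟩ := exists_equiv1 G H
  suffices Nonempty (Iso (Y.pull X.T φ hφ) X) by
    obtain ⟨i⟩ := this
    exact ⟨(Y.pullIso X.T φ hφ).symm.trans i⟩
  obtain ⟨a, ha, haT, has, hai⟩ := X.exists_op (Y.pull X.T φ hφ) rfl
  obtain ⟨k, hk⟩ := G.1 (a v)
  have hak : ∀ u, a u = X.ev k u := fun u => by
    obtain ⟨g, rfl⟩ := G.1 u
    rw [Str.ev_comm_of_commute haT, ← hk, X.ev_comm]
  set p := f ^ e with hp
  have hpm : p.Monic := hm.pow e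
  haveI : Module.Finite F (AdjoinRoot p) := (AdjoinRoot.powerBasis hpm.ne_zero).finite
  haveI : Finite (AdjoinRoot p) := Module.finite_of_finite F
  have hmk : ∀ g, AdjoinRoot.mk p g = 0 ↔ ∀ u, X.ev g u = 0 := fun g => by
    rw [AdjoinRoot.mk_eq_zero]
    refine ⟨fun h u => ?_, fun h => (G.2 g).1 (h v)⟩
    obtain ⟨l, rfl⟩ := G.1 u
    rw [← X.ev_mul]
    exact (G.2 _).2 (h.mul_right l)
  have hmk' : ∀ g l, AdjoinRoot.mk p g = AdjoinRoot.mk p l ↔ ∀ u, X.ev g u = X.ev l u := fun g l => by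
    rw [← sub_eq_zero, ← map_sub, hmk]
    simp only [Str.ev_sub, sub_eq_zero]
  have hroot : aeval ((AdjoinRoot.root p) ^ X.invExp) p = 0 := by
    have h1 : AdjoinRoot.mk p (X.adjPoly p) = 0 := (hmk _).2 fun u => X.nd' _ fun z => by
      rw [← X.adj', (hmk p).1 (AdjoinRoot.mk_eq_zero.2 dvd_rfl) z, map_zero,
        LinearMap.zero_apply]
    rwa [← AdjoinRoot.aeval_eq, Str.adjPoly, aeval_comp, aeval_X_pow] at h1
  let σ : AdjoinRoot p →ₐ[F] AdjoinRoot p :=
    AdjoinRoot.liftAlgHom p (Algebra.ofId F _) ((AdjoinRoot.root p) ^ X.invExp) hroot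
  have hbr : σ (AdjoinRoot.root p) = AdjoinRoot.root p ^ X.invExp := AdjoinRoot.liftAlgHom_root ..
  have hσ : ∀ g, σ (AdjoinRoot.mk p g) = AdjoinRoot.mk p (X.adjPoly g) := fun g => by
    rw [← AdjoinRoot.aeval_eq, ← AdjoinRoot.aeval_eq, Str.adjPoly, aeval_comp, ← aeval_algHom_apply,
      hbr, aeval_X_pow]
  have h2 : (2 : AdjoinRoot p) = 0 := by
    rw [← map_ofNat (algebraMap F (AdjoinRoot p)) 2, show (OfNat.ofNat 2 : F) = 0 from CharTwo.two_eq_zero,
      map_zero]
  -- `λ + σ λ = 1`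
  have hcop : IsCoprime (Polynomial.X + 1) p := by
    refine IsCoprime.pow_right ((hf.coprime_iff_not_dvd.2 fun h => ?_).symm)
    have := natDegree_le_of_dvd h (show (Polynomial.X + 1 : F[X]) ≠ 0 from by
      rw [← C_1]; exact X_add_C_ne_zero 1)
    rw [← C_1, natDegree_X_add_C] at this
    omega
  obtain ⟨α, β, hαβ⟩ := hcop
  set r := AdjoinRoot.root p
  set s := r ^ X.invExp
  have hrs : r * s = 1 := by
    have h1 : AdjoinRoot.mk p (Polynomial.X ^ (X.invExp + 1)) = AdjoinRoot.mk p 1 :=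
      (hmk' _ _).2 fun u => by rw [X.ev_order, X.ev_one]
    rwa [map_pow, map_one, AdjoinRoot.mk_X, pow_succ'] at h1
  have hr1 : AdjoinRoot.mk p α * (r + 1) = 1 := by
    have := congrArg (AdjoinRoot.mk p) hαβ
    rwa [map_add, map_mul, map_mul, map_add, map_one, AdjoinRoot.mk_X, AdjoinRoot.mk_self, mul_zero, add_zero]
      at this
  have hσr : σ.toRingHom r = s := AdjoinRoot.liftAlgHom_root ..
  set i := AdjoinRoot.mk p α * AdjoinRoot.mk p α * r with hi
  have his : (r + s) * i = 1 := by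
    rw [hi]
    linear_combination (AdjoinRoot.mk p α * AdjoinRoot.mk p α) * hrs +
      (AdjoinRoot.mk p α * (r + 1) + 1) * hr1 - (AdjoinRoot.mk p α * AdjoinRoot.mk p α * r) * h2
  have hσs : σ.toRingHom s = r := by
    have h1 := congrArg σ.toRingHom hrs
    rw [map_mul, map_one, hσr] at h1
    calc σ.toRingHom s = (r * s) * σ.toRingHom s := by rw [hrs, one_mul]
      _ = r := by rw [mul_assoc, h1, mul_one]
  have hσi : σ.toRingHom i = i := by
    have h1 := congrArg σ.toRingHom his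
    rw [map_mul, map_add, map_one, hσr, hσs, add_comm] at h1
    calc σ.toRingHom i = ((r + s) * i) * σ.toRingHom i := by rw [his, one_mul]
      _ = i := by linear_combination i * h1
  have hfix : σ.toRingHom (AdjoinRoot.mk p k) = AdjoinRoot.mk p k := by
    show σ (AdjoinRoot.mk p k) = _
    rw [hσ, hmk']
    intro u
    refine X.ext_left fun z => ?_
    rw [← X.adjPoly_right, ← hak, ← hak, ← has]
  have hku : IsUnit (AdjoinRoot.mk p k) := by
    have hinj : Function.Injective fun x => x * AdjoinRoot.mk p k := by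
      intro x y h
      obtain ⟨x, rfl⟩ := AdjoinRoot.mk_surjective x
      obtain ⟨y, rfl⟩ := AdjoinRoot.mk_surjective y
      simp only [← map_mul, mul_comm _ k] at h
      refine (hmk' _ _).2 fun u => hai ?_
      have := (hmk' _ _).1 h u
      rw [X.ev_mul, X.ev_mul] at this
      rw [hak, hak]
      exact this
    obtain ⟨y, hy⟩ := (Finite.injective_iff_surjective.1 hinj) 1
    exact IsUnit.of_mul_eq_one_right _ hy
  obtain ⟨x, hx⟩ := exists_norm_two h2 σ.toRingHom (lam := r * i)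
    (by rw [map_mul, hσr, hσi, ← add_mul, his]) hfix hku
  obtain ⟨g, rfl⟩ := AdjoinRoot.mk_surjective x
  have hg : ∀ u, X.ev (g * X.adjPoly g) u = X.ev k u := (hmk' _ _).1 (by
    rw [map_mul, ← hσ]; exact hx)
  have hB : ∀ u u', (Y.pull X.T φ hφ).B u u' = X.B (X.ev g u) (X.ev g u') := fun u u' => by
    rw [X.adjPoly_right g, ← X.ev_mul, mul_comm, hg, ← hak, ha]
  have hinj : Function.Injective (X.ev g) := fun u u' h =>
    (Y.pull X.T φ hφ).ext_left fun z => by rw [hB, hB, h]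
  exact ⟨⟨LinearEquiv.ofInjectiveEndo (X.ev g) hinj, fun z => by
    show X.ev g (X.T z) = X.T (X.ev g z)
    rw [← X.ev_X, X.ev_comm, X.ev_X], fun u u' => (hB u u').symm⟩⟩

/-- No vector is fixed. -/
def FixFree (X : Str F (1 : F) V) : Prop := ∀ u, X.T u = u → u = 0

theorem fixFree_iso {X : Str F (1 : F) V} {Y : Str F (1 : F) W} (i : Iso X Y) (h : FixFree X) : FixFree Y :=
  fun u hu => i.e.symm.injective ((h (i.e.symm u) (i.e.injective (by
    rw [i.map_T, i.e.apply_symm_apply, hu]))).trans (map_zero _).symm)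

theorem fixFree_prod {X : Str F (1 : F) V} {Y : Str F (1 : F) W} (h : FixFree (X.prod Y)) :
    FixFree X ∧ FixFree Y :=
  ⟨fun u hu => congrArg Prod.fst (h (u, 0) (by rw [Str.prod_T, hu, map_zero])),
    fun u hu => congrArg Prod.snd (h (0, u) (by rw [Str.prod_T, hu, map_zero]))⟩

/-- The keys of pieces without fixed vectors. -/
def NSKey (k : Key F) : Prop :=
  k.e ≠ 0 ∧ k.flag = false ∧
    ((∃ f : F[X], k.g = f * star' f ∧ Irreducible f ∧ f.Monic ∧ f.coeff 0 ≠ 0 ∧ star' f ≠ f) ∨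
      (Irreducible k.g ∧ k.g.Monic ∧ k.g.coeff 0 ≠ 0 ∧ 2 ≤ k.g.natDegree ∧ star' k.g = k.g))

theorem eq_one_of_sq {c : F} (hc : c * c = 1) : c = 1 := by
  have : (c + 1) * (c + 1) = 0 := by linear_combination hc + (c + 1) * CharTwo.two_eq_zero (R := F)
  exact CharTwo.add_eq_zero.1 (mul_self_eq_zero.1 this)

theorem socle_fixed {X : Str F (1 : F) V} (hX : FixFree X) {c : F} (hc : c * c = 1) {e : ℕ} (he : e ≠ 0) {v : V}
    (hv : X.ev ((Polynomial.X - C c) ^ e) v = 0) : X.ev ((Polynomial.X - C c) ^ (e - 1)) v = 0 := by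
  rw [eq_one_of_sq hc] at hv ⊢
  refine hX _ ?_
  have h : X.ev ((Polynomial.X - C 1) * (Polynomial.X - C 1) ^ (e - 1)) v = 0 := by
    rw [← pow_succ', Nat.sub_add_cancel (Nat.one_le_iff_ne_zero.2 he)]; exact hv
  rwa [X.ev_mul, X.ev_sub, X.ev_X, X.ev_C, one_smul, sub_eq_zero] at h

theorem isPiece_fixFree {k : Key F} {X : Str F (1 : F) V} (hX : FixFree X) (h : IsPiece k X) :
    k.e ≠ 0 ∧ (KPair k X ∨ KSelf k X) := by
  obtain ⟨he, h | h | ⟨-, c, v, w, -, hc, -, G, -, hne⟩ | ⟨c, v, -, hc, -, G, hne, -⟩⟩ := h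
  · exact ⟨he, Or.inl h⟩
  · exact ⟨he, Or.inr h⟩
  · exact absurd (by rw [socle_fixed hX hc he ((G.left _).2 dvd_rfl), map_zero, LinearMap.zero_apply]) hne
  · exact absurd (by rw [socle_fixed hX hc he ((G.2 _).2 dvd_rfl), map_zero, LinearMap.zero_apply]) hne

theorem nsKey_of_isPiece {k : Key F} {X : Str F (1 : F) V} (hX : FixFree X) (h : IsPiece k X) : NSKey k := by
  obtain ⟨he, ⟨hf, f, v, w, hg, hi, hm, h0, hne, -⟩ | ⟨hf, hi, hm, h0, hd, hs, -⟩⟩ := isPiece_fixFree hX h
  · exact ⟨he, hf, Or.inl ⟨f, hg, hi, hm, h0, hne⟩⟩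
  · exact ⟨he, hf, Or.inr ⟨hi, hm, h0, hd, hs⟩⟩

theorem nsKey_decomp : ∀ (L : List (Key F)) {V : Type v} [AddCommGroup V] [Module F V] (X : Str F (1 : F) V),
    FixFree X → Decomp L X → ∀ k ∈ L, NSKey k := by
  intro L
  induction L with
  | nil => simp
  | cons a L ih =>
    intro V _ _ X hX h k hk
    obtain ⟨V₁, V₂, i₁, i₂, m₁, m₂, X₁, X₂, h1, h2, ⟨i⟩⟩ := h
    obtain ⟨f1, f2⟩ := fixFree_prod (fixFree_iso i hX)
    rcases List.mem_cons.1 hk with rfl | hk
    · exact nsKey_of_isPiece f1 h1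
    · exact ih X₂ f2 h2 k hk

theorem iso_of_isPiece_two [FiniteDimensional F V] {k : Key F} {X : Str F (1 : F) V} {Y : Str F (1 : F) W}
    (fX : FixFree X) (fY : FixFree Y) (hX : IsPiece k X) (hY : IsPiece k Y) : Nonempty (Iso Y X) := by
  obtain ⟨he, ⟨-, f, v, w, hg, hi, hm, h0, hne, G, a1, a2⟩ | ⟨-, hi, hm, h0, hd, hs, v, G⟩⟩ :=
    isPiece_fixFree fX hX <;>
  obtain ⟨-, ⟨-, f', v', w', hg', hi', hm', h0', hne', G', b1, b2⟩ | ⟨-, hi', hm', h0', hd', hs', v', G'⟩⟩ :=
    isPiece_fixFree fY hY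
  · have hff : f' = f ∨ f' = star' f := by
      have h : f' ∣ f * star' f := ⟨_, hg.symm.trans hg'⟩
      rcases hi'.prime.dvd_or_dvd h with h | h
      · exact Or.inl (eq_of_monic_of_associated hm' hm (hi'.associated_of_dvd hi h))
      · exact Or.inr (eq_of_monic_of_associated hm' (star'_monic h0)
          (hi'.associated_of_dvd (irreducible_star' hi hm h0) h))
    rcases hff with rfl | rfl
    · exact iso_pair (ne_dual_pair hm hi h0 hne) G G' a1 a2 b1 b2
    · rw [star'_star' hm h0] at G'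
      exact iso_pair (ne_dual_pair hm hi h0 hne) G G'.swap a1 a2 b2 b1
  · exact absurd (hg ▸ hi') (not_irreducible_mul hi (irreducible_star' hi hm h0))
  · exact absurd (hg' ▸ hi) (not_irreducible_mul hi' (irreducible_star' hi' hm' h0'))
  · exact iso_self_two hi hm hd G G'

theorem decomp_unique_two :
    ∀ (L : List (Key F)) {V W : Type v} [AddCommGroup V] [Module F V] [AddCommGroup W] [Module F W]
      [FiniteDimensional F V] [FiniteDimensional F W] (X : Str F (1 : F) V) (Y : Str F (1 : F) W),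
      FixFree X → FixFree Y → Decomp L X → Decomp L Y → Nonempty (Iso X Y) := by
  intro L
  induction L with
  | nil =>
    intro V W _ _ _ _ _ _ X Y _ _ hX hY
    haveI : Subsingleton V := hX
    haveI : Subsingleton W := hY
    exact ⟨⟨LinearEquiv.ofSubsingleton V W, fun _ => Subsingleton.elim _ _, fun u v => by
      rw [Subsingleton.elim u 0, map_zero, map_zero, LinearMap.zero_apply, map_zero, LinearMap.zero_apply]⟩⟩
  | cons k L ih =>
    intro V W _ _ _ _ _ _ X Y fX fY hX hY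
    obtain ⟨V₁, V₂, i₁, i₂, m₁, m₂, X₁, X₂, h1, h1', ⟨i⟩⟩ := hX
    obtain ⟨W₁, W₂, j₁, j₂, n₁, n₂, Y₁, Y₂, h3, h3', ⟨j⟩⟩ := hY
    haveI := (finite_fst i).1
    haveI := (finite_fst i).2
    haveI := (finite_fst j).1
    haveI := (finite_fst j).2
    obtain ⟨fX1, fX2⟩ := fixFree_prod (fixFree_iso i fX)
    obtain ⟨fY1, fY2⟩ := fixFree_prod (fixFree_iso j fY)
    obtain ⟨a⟩ := iso_of_isPiece_two fY1 fX1 h3 h1
    obtain ⟨b⟩ := ih X₂ Y₂ fX2 fY2 h1' h3'
    exact ⟨i.trans ((a.prod b).trans j.symm)⟩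

/-! ### The polynomials -/

theorem NSKey.monic {k : Key F} (h : NSKey k) : k.g.Monic := by
  obtain ⟨-, -, ⟨f, hg, -, hm, h0, -⟩ | ⟨-, hm, -⟩⟩ := h
  · rw [hg]; exact hm.mul (star'_monic h0)
  · exact hm

theorem NSKey.natDegree_pos {k : Key F} (h : NSKey k) : 0 < k.g.natDegree := by
  obtain ⟨-, -, ⟨f, hg, hi, hm, h0, -⟩ | ⟨hi, -⟩⟩ := h
  · rw [hg, hm.natDegree_mul (star'_monic h0)]; have := hi.natDegree_pos; omega
  · exact hi.natDegree_pos

theorem eval_one_of_rev {p : F[X]} (hr : p.reverse = p) :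
    (Odd p.natDegree → p.eval 1 = 0) ∧ ∀ k, p.natDegree = 2 * k → p.eval 1 = p.coeff k := by
  classical
  have hc : ∀ j ≤ p.natDegree, p.coeff (p.natDegree - j) = p.coeff j := fun j hj => by
    conv_rhs => rw [← hr, coeff_reverse, revAt_le hj]
  have hsum : p.eval 1 = ∑ j ∈ Finset.range (p.natDegree + 1), p.coeff j := by
    rw [eval_eq_sum_range]; simp
  have hz : ∀ S : Finset ℕ, (∀ j ∈ S, j ≤ p.natDegree ∧ p.natDegree - j ∈ S ∧ p.natDegree - j ≠ j) →
      ∑ j ∈ S, p.coeff j = 0 := fun S hS => by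
    refine Finset.sum_involution (fun j _ => p.natDegree - j) (fun j hj => ?_) (fun j hj _ => (hS j hj).2.2)
      (fun j hj => (hS j hj).2.1) (fun j hj => ?_)
    · rw [hc j (hS j hj).1, CharTwo.add_self_eq_zero]
    · have := (hS j hj).1; omega
  constructor
  · rintro ⟨k, hk⟩
    rw [hsum]
    refine hz _ fun j hj => ?_
    rw [Finset.mem_range] at hj ⊢
    omega
  · intro k hk
    rw [hsum, ← Finset.add_sum_erase _ _ (Finset.mem_range.2 (show k < p.natDegree + 1 by omega)), hz, add_zero]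
    intro j hj
    rw [Finset.mem_erase, Finset.mem_range] at hj ⊢
    omega

theorem NSKey.pal {k : Key F} (h : NSKey k) : Pal k.g ∧ k.g.eval 1 ≠ 0 := by
  obtain ⟨-, -, ⟨f, hg, hi, hm, h0, hne⟩ | ⟨hi, hm, h0, hd, hs⟩⟩ := h
  · have h1 : f.eval 1 ≠ 0 := fun h => hne (by
      have := eq_of_monic_of_associated (monic_X_sub_C 1) hm
        ((irreducible_X_sub_C 1).associated_of_dvd hi (dvd_iff_isRoot.2 h))
      rw [← this, star'_X_sub_C one_ne_zero, inv_one])
    rw [hg]
    refine ⟨pal_pair hm h0, ?_⟩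
    rw [eval_mul, star', eval_mul, eval_C, eval_reverse_one]
    exact mul_ne_zero h1 (mul_ne_zero (inv_ne_zero h0) h1)
  · have hnr : k.g.eval 1 ≠ 0 := fun hc => by
      have h := eq_of_monic_of_associated (monic_X_sub_C 1) hm
        ((irreducible_X_sub_C 1).associated_of_dvd hi (dvd_iff_isRoot.2 hc))
      rw [← h, natDegree_X_sub_C] at hd
      omega
    have hrev : k.g.reverse = C (k.g.coeff 0) * k.g := by
      conv_rhs => arg 2; rw [← hs, star']
      rw [← mul_assoc, ← C_mul, mul_inv_cancel₀ h0, C_1, one_mul]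
    have h1 : k.g.coeff 0 = 1 := by
      have h := eval_reverse_one k.g
      rw [hrev, eval_mul, eval_C] at h
      exact mul_right_cancel₀ hnr (h.trans (one_mul _).symm)
    have hr := reverse_of_star' hs h1
    exact ⟨⟨hm, hr, Nat.not_odd_iff_even.1 fun ho => hnr ((eval_one_of_rev hr).1 ho)⟩, hnr⟩

open scoped Classical in
/-- The atom containing a prime. -/
noncomputable def atom (p : F[X]) : F[X] := if star' p = p then p else p * star' p

theorem atom_eq_two {k : Key F} (h : NSKey k) {p : F[X]} (hi : Irreducible p) (hm : p.Monic) (hp : p ∣ k.g) :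
    k.g = atom p := by
  classical
  obtain ⟨-, -, ⟨f, hg, hif, hmf, h0, hne⟩ | ⟨hig, hmg, h0, -, hs⟩⟩ := h
  · rw [hg] at hp
    rcases hi.prime.dvd_or_dvd hp with hp | hp
    · obtain rfl := eq_of_monic_of_associated hm hmf (hi.associated_of_dvd hif hp)
      rw [atom, if_neg hne, hg]
    · obtain rfl := eq_of_monic_of_associated hm (star'_monic h0)
        (hi.associated_of_dvd (irreducible_star' hif hmf h0) hp)
      rw [atom, if_neg (by rw [star'_star' hmf h0]; exact hne.symm), hg, star'_star' hmf h0, mul_comm]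
  · obtain rfl := eq_of_monic_of_associated hm hmg (hi.associated_of_dvd hig hp)
    rw [atom, if_pos hs]

theorem atoms_unique_two : ∀ A B : Multiset F[X], (∀ a ∈ A, ∃ k : Key F, NSKey k ∧ k.g = a) →
    (∀ a ∈ B, ∃ k : Key F, NSKey k ∧ k.g = a) → A.prod = B.prod → A = B := by
  classical
  intro A
  induction A using Multiset.induction with
  | empty =>
    intro B _ hB h
    by_contra hne
    obtain ⟨b, hb⟩ := Multiset.exists_mem_of_ne_zero (Ne.symm hne)
    obtain ⟨k, hk, rfl⟩ := hB b hb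
    have hu : IsUnit k.g := isUnit_of_dvd_one (by rw [← Multiset.prod_zero, h]; exact Multiset.dvd_prod hb)
    have := natDegree_eq_zero_of_isUnit hu
    have := hk.natDegree_pos
    omega
  | cons a A ih =>
    intro B hA hB h
    obtain ⟨k, hk, rfl⟩ := hA a (Multiset.mem_cons_self _ _)
    obtain ⟨p, hpm, hpi, hpd⟩ := exists_monic_irreducible_factor k.g fun hu => by
      have := natDegree_eq_zero_of_isUnit hu
      have := hk.natDegree_pos
      omega
    have hpB : p ∣ B.prod := by rw [← h, Multiset.prod_cons]; exact dvd_mul_of_dvd_left hpd _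
    obtain ⟨b, hb, hpb⟩ := hpi.prime.exists_mem_multiset_dvd hpB
    obtain ⟨k', hk', rfl⟩ := hB b hb
    have hg : k'.g = k.g := by rw [atom_eq_two hk' hpi hpm hpb, atom_eq_two hk hpi hpm hpd]
    rw [hg] at hb
    rw [← Multiset.cons_erase hb] at h ⊢
    rw [Multiset.prod_cons, Multiset.prod_cons] at h
    rw [ih (B.erase k.g) (fun a ha => hA a (Multiset.mem_cons_of_mem ha))
      (fun a ha => hB a (Multiset.mem_of_mem_erase ha)) (mul_left_cancel₀ hk.monic.ne_zero h)]

end Cfsg.Agent.H7Class.Two
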