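import Cfsg.Agent.H7Class.TwoMoves

/-!
# Normal decompositions
-/

set_option autoImplicit false
set_option linter.unusedSectionVars false
set_option linter.style.haveILetI false

namespace Cfsg.Agent.H7Class.Two

universe v

variable {F : Type*} [Field F] [CharP F 2] [Finite F] {δ : ℕ}

/-- A key `V k _`. -/
def UKey.isV (k : ℕ) : UKey → Bool
  | .V j _ => j == k
  | _ => false

/-- The conditions on a normal list. -/
structure UNormal (δ : ℕ) (M : Multiset UKey) : Prop where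
  valid : ∀ κ ∈ M, κ.Valid δ
  atMostTwo : ∀ k, M.countP (fun κ => κ.isV k) ≤ 2
  onceV : ∀ k, M.count (.V k true) ≤ 1
  chain : ∀ k a, .V (k + 1) true ∈ M → .V k a ∉ M
  onceW : ∀ k, M.count (.W k 0 true) ≤ 1
  freeW : ∀ k a, .W k 0 true ∈ M → .V k a ∉ M ∧ .V (k + 1) a ∉ M

/-- The weights used for termination. -/
def UKey.wV : UKey → ℕ
  | .V _ _ => 1
  | _ => 0

/-- The weights used for termination. -/
def UKey.wW : UKey → ℕ
  | .W _ _ true => 1
  | _ => 0

/-- The weights used for termination. -/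
def UKey.wS : UKey → ℕ
  | .V k true => k
  | _ => 0

variable {V W : Type v} [AddCommGroup V] [Module F V] [AddCommGroup W] [Module F W]

theorem udecomp_append : ∀ (L₁ L₂ : List UKey) {V W : Type v} [AddCommGroup V] [Module F V] [AddCommGroup W]
    [Module F W] (X : UStr F δ V) (Y : UStr F δ W), UDecomp L₁ X → UDecomp L₂ Y → UDecomp (L₁ ++ L₂) (X.prod Y) := by
  intro L₁
  induction L₁ with
  | nil =>
    intro L₂ V W _ _ _ _ X Y hX hY
    haveI : Subsingleton V := hX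
    refine udecomp_iso (X := Y) ⟨⟨⟨⟨⟨Prod.snd, fun _ _ => rfl⟩, fun _ _ => rfl⟩, fun w => (0, w),
      fun u => Prod.ext (Subsingleton.elim _ _) rfl, fun _ => rfl⟩, fun u => rfl, fun a b => ?_⟩, fun a => ?_⟩ hY
    · show Y.B a.2 b.2 = X.B a.1 b.1 + Y.B a.2 b.2
      rw [Subsingleton.elim a.1 0, map_zero, LinearMap.zero_apply, zero_add]
    · show Y.q a.2 = X.q a.1 + Y.q a.2
      rw [Subsingleton.elim a.1 0, X.q_zero, zero_add]
  | cons κ L ih =>
    intro L₂ V W _ _ _ _ X Y hX hY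
    obtain ⟨V₁, V₂, i₁, i₂, m₁, m₂, X₁, X₂, h1, h2, ⟨i⟩⟩ := hX
    exact ⟨V₁, V₂ × W, i₁, inferInstance, m₁, inferInstance, X₁, X₂.prod Y, h1, ih L₂ X₂ Y h2 hY,
      ⟨(UIso.prod i (UIso.refl Y)).trans (UIso.prodAssoc X₁ X₂ Y)⟩⟩

theorem replace_two [FiniteDimensional F V] {a b : UKey} {L : List UKey} {P : List UKey → Prop} {X : UStr F δ V}
    (h : UDecomp (a :: b :: L) X)
    (mv : ∀ {V₁ V₂ : Type v} [AddCommGroup V₁] [Module F V₁] [AddCommGroup V₂] [Module F V₂]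
      [FiniteDimensional F V₁] [FiniteDimensional F V₂] (X₁ : UStr F δ V₁) (X₂ : UStr F δ V₂),
      IsP a X₁ → IsP b X₂ → ∃ L', P L' ∧ UDecomp L' (X₁.prod X₂)) :
    ∃ L', P L' ∧ UDecomp (L' ++ L) X := by
  obtain ⟨V₁, V₂, i₁, i₂, m₁, m₂, X₁, X₂, h1, ⟨V₃, V₄, i₃, i₄, m₃, m₄, X₃, X₄, h3, h4, ⟨j⟩⟩, ⟨i⟩⟩ := h
  haveI := (finite_ufst i).1
  haveI := (finite_ufst i).2
  haveI := (finite_ufst j).1
  obtain ⟨L', hP, hL'⟩ := mv X₁ X₃ h1 h3
  exact ⟨L', hP, udecomp_iso ((i.trans (UIso.prod (UIso.refl X₁) j)).trans (UIso.prodAssoc X₁ X₃ X₄).symm)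
    (udecomp_append L' L _ _ hL' h4)⟩

theorem replace_three [FiniteDimensional F V] {a b c : UKey} {L : List UKey} {P : List UKey → Prop}
    {X : UStr F δ V} (h : UDecomp (a :: b :: c :: L) X)
    (mv : ∀ {V₁ V₂ V₃ : Type v} [AddCommGroup V₁] [Module F V₁] [AddCommGroup V₂] [Module F V₂]
      [AddCommGroup V₃] [Module F V₃] [FiniteDimensional F V₁] [FiniteDimensional F V₂] [FiniteDimensional F V₃]
      (X₁ : UStr F δ V₁) (X₂ : UStr F δ V₂) (X₃ : UStr F δ V₃),
      IsP a X₁ → IsP b X₂ → IsP c X₃ → ∃ L', P L' ∧ UDecomp L' (X₁.prod (X₂.prod X₃))) :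
    ∃ L', P L' ∧ UDecomp (L' ++ L) X := by
  obtain ⟨V₁, V₂, i₁, i₂, m₁, m₂, X₁, X₂, h1, ⟨V₃, V₄, i₃, i₄, m₃, m₄, X₃, X₄, h3,
    ⟨V₅, V₆, i₅, i₆, m₅, m₆, X₅, X₆, h5, h6, ⟨l⟩⟩, ⟨j⟩⟩, ⟨i⟩⟩ := h
  haveI := (finite_ufst i).1
  haveI := (finite_ufst i).2
  haveI := (finite_ufst j).1
  haveI := (finite_ufst j).2
  haveI := (finite_ufst l).1
  obtain ⟨L', hP, hL'⟩ := mv X₁ X₃ X₅ h1 h3 h5
  exact ⟨L', hP, udecomp_iso ((i.trans (UIso.prod (UIso.refl X₁) (j.trans ((UIso.prod (UIso.refl X₃) l).trans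
    (UIso.prodAssoc X₃ X₅ X₆).symm)))).trans (UIso.prodAssoc X₁ (X₃.prod X₅) X₆).symm)
    (udecomp_append L' L _ _ hL' h6)⟩

/-- The measure. -/
def meas (D : ℕ) (L : List UKey) : ℕ :=
  ((L.map UKey.wV).sum * (D + 1) + (L.map UKey.wW).sum) * (D + 1) + (L.map UKey.wS).sum

theorem sum_le_dim {δ : ℕ} : ∀ L : List UKey, (∀ κ ∈ L, κ.Valid δ) →
    (L.map UKey.wS).sum ≤ (L.map UKey.dim).sum ∧ (L.map UKey.wW).sum ≤ (L.map UKey.dim).sum := by
  intro L
  induction L with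
  | nil => simp
  | cons κ L ih =>
    intro h
    obtain ⟨h1, h2⟩ := ih fun x hx => h x (List.mem_cons_of_mem _ hx)
    have := h κ List.mem_cons_self
    simp only [List.map_cons, List.sum_cons]
    cases κ with
    | V k a => cases a <;> simp [UKey.wS, UKey.wW, UKey.dim] <;> omega
    | W k e a =>
      have := this.2.1
      have := ‹UKey.Valid δ (.W k e a)›.1
      cases a <;> simp [UKey.wS, UKey.wW, UKey.dim] <;> omega

theorem meas_lt {D : ℕ} {L L' : List UKey} (hW : (L'.map UKey.wW).sum ≤ D) (hS : (L'.map UKey.wS).sum ≤ D)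
    (h : (L'.map UKey.wV).sum < (L.map UKey.wV).sum ∨
      ((L'.map UKey.wV).sum = (L.map UKey.wV).sum ∧ ((L'.map UKey.wW).sum < (L.map UKey.wW).sum ∨
        ((L'.map UKey.wW).sum = (L.map UKey.wW).sum ∧ (L'.map UKey.wS).sum < (L.map UKey.wS).sum)))) :
    meas D L' < meas D L := by
  unfold meas
  set a := (L'.map UKey.wV).sum
  set b := (L'.map UKey.wW).sum
  set a' := (L.map UKey.wV).sum
  set b' := (L.map UKey.wW).sum
  rcases h with h | ⟨h, h' | ⟨h', h''⟩⟩
  · have h1 : a * (D + 1) + b + 1 ≤ a' * (D + 1) + b' := by nlinarith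
    have := Nat.mul_le_mul_right (D + 1) h1
    rw [Nat.add_mul _ 1 (D + 1), one_mul] at this
    omega
  · have h1 : a * (D + 1) + b + 1 ≤ a' * (D + 1) + b' := by rw [h]; omega
    have := Nat.mul_le_mul_right (D + 1) h1
    rw [Nat.add_mul _ 1 (D + 1), one_mul] at this
    omega
  · rw [h, h']; omega

theorem exists_perm_two [DecidableEq UKey] {L : List UKey} {a b : UKey} (ha : a ∈ L) (hb : b ∈ L)
    (hne : a = b → 2 ≤ L.count a) : ∃ R, L.Perm (a :: b :: R) := by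
  have h1 := List.perm_cons_erase ha
  have hb' : b ∈ L.erase a := by
    by_cases h : a = b
    · subst h
      exact List.count_pos_iff.1 (by rw [List.count_erase_self]; have := hne rfl; omega)
    · exact (List.mem_erase_of_ne (Ne.symm h)).2 hb
  exact ⟨_, h1.trans ((List.perm_cons_erase hb').cons a)⟩

theorem exists_perm_three {L : List UKey} {k : ℕ} (h : 3 ≤ L.countP fun κ => κ.isV k) :
    ∃ a b c R, L.Perm (.V k a :: .V k b :: .V k c :: R) := by
  classical
  have step : ∀ L : List UKey, 1 ≤ L.countP (fun κ => κ.isV k) → ∃ a R, L.Perm (.V k a :: R) ∧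
      R.countP (fun κ => κ.isV k) + 1 = L.countP fun κ => κ.isV k := by
    intro L h
    obtain ⟨κ, hκ, hv⟩ := List.countP_pos_iff.1 h
    obtain ⟨a, rfl⟩ : ∃ a, κ = .V k a := by
      cases κ with
      | V j a => exact ⟨a, by simp [UKey.isV] at hv; rw [hv]⟩
      | W j e a => simp [UKey.isV] at hv
    refine ⟨a, _, List.perm_cons_erase hκ, ?_⟩
    rw [(List.perm_cons_erase hκ).countP_eq, List.countP_cons_of_pos hv]
  obtain ⟨a, R₁, p1, c1⟩ := step L (by omega)
  obtain ⟨b, R₂, p2, c2⟩ := step R₁ (by omega)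
  obtain ⟨c, R₃, p3, c3⟩ := step R₂ (by omega)
  exact ⟨a, b, c, R₃, p1.trans ((p2.trans (p3.cons _)).cons _)⟩

/-- Normal decompositions exist. -/
theorem exists_unormal (hδ : δ ≤ 1) [FiniteDimensional F V] (X : UStr F δ V) (hX : Unip X) :
    ∃ L, UDecomp L X ∧ UNormal δ (L : Multiset UKey) := by
  classical
  obtain ⟨L₀, hL₀⟩ := exists_udecomp hδ X hX
  set D := Module.finrank F V
  suffices ∀ n L, meas D L = n → UDecomp L X → ∃ L', UDecomp L' X ∧ UNormal δ (L' : Multiset UKey) from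
    this _ L₀ rfl hL₀
  intro n
  induction n using Nat.strong_induction_on with
  | _ n ih =>
    intro L hn hL
    have hbound : ∀ L', UDecomp L' X → (L'.map UKey.wW).sum ≤ D ∧ (L'.map UKey.wS).sum ≤ D := fun L' hL' => by
      obtain ⟨h1, h2⟩ := sum_le_dim L' (valid_udecomp L' X hL')
      rw [← finrank_udecomp L' X hL'] at h1 h2
      exact ⟨h2, h1⟩
    have next_ : ∀ {old new R : List UKey}, L.Perm (old ++ R) → UDecomp (new ++ R) X →
        ((new.map UKey.wV).sum < (old.map UKey.wV).sum ∨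
          ((new.map UKey.wV).sum = (old.map UKey.wV).sum ∧ ((new.map UKey.wW).sum < (old.map UKey.wW).sum ∨
            ((new.map UKey.wW).sum = (old.map UKey.wW).sum ∧
              (new.map UKey.wS).sum < (old.map UKey.wS).sum)))) →
        ∃ L', UDecomp L' X ∧ UNormal δ (L' : Multiset UKey) := by
      intro old new R hp hd h
      refine ih _ ?_ _ rfl hd
      rw [← hn]
      obtain ⟨b1, b2⟩ := hbound _ hd
      refine meas_lt b1 b2 ?_
      rw [(hp.map UKey.wV).sum_eq, (hp.map UKey.wW).sum_eq, (hp.map UKey.wS).sum_eq]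
      simp only [List.map_append, List.sum_append]
      omega
    by_cases c1 : ∀ k, L.countP (fun κ => κ.isV k) ≤ 2
    swap
    · push Not at c1
      obtain ⟨k, hk⟩ := c1
      obtain ⟨a, b, c, R, hp⟩ := exists_perm_three hk
      obtain ⟨L', ⟨w, d, rfl⟩, hd⟩ := replace_three (P := fun L' => ∃ w d, L' = [.W k 1 w, .V k d])
        (udecomp_perm hp X hL) fun X₁ X₂ X₃ h1 h2 h3 => by
          obtain ⟨w, d, h⟩ := move_VVV hδ h1 h2 h3
          exact ⟨_, ⟨w, d, rfl⟩, h⟩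
      exact next_ (old := [.V k a, .V k b, .V k c]) hp hd (Or.inl (by simp [UKey.wV]))
    by_cases c2 : ∀ k, L.count (.V k true) ≤ 1
    swap
    · push Not at c2
      obtain ⟨k, hk⟩ := c2
      have hm : UKey.V k true ∈ L := List.count_pos_iff.1 (by omega)
      obtain ⟨R, hp⟩ := exists_perm_two hm hm fun _ => hk
      obtain ⟨L', ⟨a, rfl⟩, hd⟩ := replace_two (P := fun L' => ∃ a, L' = [.V k false, .V k a])
        (udecomp_perm hp X hL) fun X₁ X₂ h1 h2 => by
          obtain ⟨a, h⟩ := move_VV hδ h1 h2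
          exact ⟨_, ⟨a, rfl⟩, h⟩
      have hk1 : 1 ≤ k := (valid_udecomp L X hL _ hm).1
      exact next_ (old := [.V k true, .V k true]) hp hd (Or.inr ⟨by simp [UKey.wV], Or.inr ⟨by
        cases a <;> simp [UKey.wW], by cases a <;> simp [UKey.wS] <;> omega⟩⟩)
    by_cases c3 : ∀ k a, UKey.V (k + 1) true ∈ L → UKey.V k a ∉ L
    swap
    · push Not at c3
      obtain ⟨k, b, h1, h2⟩ := c3
      obtain ⟨R, hp⟩ := exists_perm_two h1 h2 (fun h => by simp at h)
      obtain ⟨L', ⟨a, rfl⟩, hd⟩ := replace_two (P := fun L' => ∃ a, L' = [.V (k + 1) false, .V k a])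
        (udecomp_perm hp X hL) fun X₁ X₂ h1 h2 => by
          obtain ⟨a, h⟩ := move_chain hδ h1 h2
          exact ⟨_, ⟨a, rfl⟩, h⟩
      exact next_ (old := [.V (k + 1) true, .V k b]) hp hd (Or.inr ⟨by simp [UKey.wV], Or.inr ⟨by
        cases a <;> cases b <;> simp [UKey.wW], by cases a <;> cases b <;> simp [UKey.wS]⟩⟩)
    by_cases c4 : ∀ k, L.count (.W k 0 true) ≤ 1
    swap
    · push Not at c4
      obtain ⟨k, hk⟩ := c4
      have hm : UKey.W k 0 true ∈ L := List.count_pos_iff.1 (by omega)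
      obtain ⟨R, hp⟩ := exists_perm_two hm hm fun _ => hk
      obtain ⟨L', ⟨a, rfl⟩, hd⟩ := replace_two (P := fun L' => ∃ a, L' = [.W k 0 false, .W k 0 a])
        (udecomp_perm hp X hL) fun X₁ X₂ h1 h2 => by
          obtain ⟨a, h⟩ := move_WW hδ h1 h2
          exact ⟨_, ⟨a, rfl⟩, h⟩
      exact next_ (old := [.W k 0 true, .W k 0 true]) hp hd (Or.inr ⟨by simp [UKey.wV], Or.inl (by
        cases a <;> simp [UKey.wW])⟩)
    by_cases c5 : ∀ k a, UKey.W k 0 true ∈ L → UKey.V k a ∉ L ∧ UKey.V (k + 1) a ∉ L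
    swap
    · push Not at c5
      obtain ⟨k, b, h1, h2⟩ := c5
      obtain ⟨j, hj, hjm⟩ : ∃ j, (j = k ∨ j = k + 1) ∧ UKey.V j b ∈ L := by
        by_cases h : UKey.V k b ∈ L
        · exact ⟨k, Or.inl rfl, h⟩
        · exact ⟨k + 1, Or.inr rfl, h2 h⟩
      obtain ⟨R, hp⟩ := exists_perm_two h1 hjm (fun h => by simp at h)
      obtain ⟨L', ⟨a, rfl⟩, hd⟩ := replace_two (P := fun L' => ∃ a, L' = [.W k 0 false, .V j a])
        (udecomp_perm hp X hL) fun X₁ X₂ h1 h2 => by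
          obtain ⟨a, h⟩ := move_WV hδ hj h1 h2
          exact ⟨_, ⟨a, rfl⟩, h⟩
      exact next_ (old := [.W k 0 true, .V j b]) hp hd (Or.inr ⟨by simp [UKey.wV], Or.inl (by
        cases a <;> simp [UKey.wW])⟩)
    exact ⟨L, hL, ⟨fun κ hκ => valid_udecomp L X hL κ (Multiset.mem_coe.1 hκ),
      fun k => by simpa using c1 k, fun k => by simpa using c2 k,
      fun k a h => by simpa using c3 k a (by simpa using h), fun k => by simpa using c4 k,
      fun k a h => by simpa using c5 k a (by simpa using h)⟩⟩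

end Cfsg.Agent.H7Class.Two
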