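import Cfsg.Agent.H7Class.TwoMat

/-!
# Gauss sums of quadratic forms in characteristic two
-/

set_option autoImplicit false
set_option linter.unusedSectionVars false

namespace Cfsg.Agent.H7Class.Two

open QuadraticMap

variable {F : Type*} [Field F] [Fintype F] [CharP F 2]

theorem chi_sum {α : Type*} (s : Finset α) (f : α → F) : chi (∑ i ∈ s, f i) = ∏ i ∈ s, chi (f i) := by
  classical
  induction s using Finset.induction with
  | empty => simp [chi_zero]
  | insert i s hi ih => rw [Finset.sum_insert hi, Finset.prod_insert hi, chi_add, ih]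

/-- The sum over a plane. -/
theorem plane_sum' (α β : F) :
    ∑ x : F, ∑ y : F, chi (α * x ^ 2 + x * y + β * y ^ 2) = Fintype.card F * chi (α * β) := by
  classical
  by_cases hα : α = 0
  · subst hα
    rw [Finset.sum_comm, zero_mul, chi_zero, mul_one]
    have h : ∀ y : F, ∑ x : F, chi (0 * x ^ 2 + x * y + β * y ^ 2) = if y = 0 then (Fintype.card F : ℤ) else 0 := by
      intro y
      split_ifs with hy
      · subst hy; simp [chi_zero]
      · have e : ∀ x : F, chi (0 * x ^ 2 + x * y + β * y ^ 2) = chi (y * x) * chi (β * y ^ 2) := fun x => by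
          rw [← chi_add]; congr 1; ring
        rw [Finset.sum_congr rfl fun x _ => e x, ← Finset.sum_mul, sum_chi_mul hy, zero_mul]
    rw [Finset.sum_congr rfl fun y _ => h y, Finset.sum_ite_eq' Finset.univ (0 : F), if_pos (Finset.mem_univ _)]
  · obtain ⟨s, hs⟩ := exists_sqrt α
    have hs0 : s ≠ 0 := by rintro rfl; exact hα (by rw [← hs]; ring)
    rw [← plane_sum (α * β)]
    -- `(x, y) = (s y', x' / s)`
    rw [← Equiv.sum_comp (Equiv.mulLeft₀ s⁻¹ (inv_ne_zero hs0))
      (fun x => ∑ y : F, chi (α * x ^ 2 + x * y + β * y ^ 2))]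
    rw [Finset.sum_comm (f := fun x y : F => chi (x ^ 2 * (α * β) + x * y + y ^ 2))]
    refine Finset.sum_congr rfl fun x _ => ?_
    rw [← Equiv.sum_comp (Equiv.mulLeft₀ s hs0) (fun y => chi (α * (Equiv.mulLeft₀ s⁻¹ (inv_ne_zero hs0) x) ^ 2 +
      Equiv.mulLeft₀ s⁻¹ (inv_ne_zero hs0) x * y + β * y ^ 2))]
    refine Finset.sum_congr rfl fun y _ => congrArg chi ?_
    show α * (s⁻¹ * x) ^ 2 + s⁻¹ * x * (s * y) + β * (s * y) ^ 2 = y ^ 2 * (α * β) + y * x + x ^ 2
    rw [← hs]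
    field_simp
    ring

/-- The Gauss sum of a function. -/
noncomputable def qgauss {V : Type*} (Q : V → F) : ℤ := ∑ᶠ v, chi (Q v)

theorem qgauss_equiv {V W : Type*} (e : V ≃ W) (Q : W → F) : qgauss (fun v => Q (e v)) = qgauss Q :=
  finsum_comp_equiv e (f := fun w => chi (Q w))

theorem qgauss_sum {V : Type*} [Fintype V] (Q : V → F) : qgauss Q = ∑ v, chi (Q v) :=
  finsum_eq_sum_of_fintype _

theorem qgauss_add {V W : Type*} [Fintype V] [Fintype W] (P : V → F) (R : W → F) :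
    qgauss (fun w : V × W => P w.1 + R w.2) = qgauss P * qgauss R := by
  simp only [qgauss_sum, Fintype.sum_prod_type, Finset.sum_mul_sum, chi_add]

/-- A form `Σ αᵢxᵢ² + xᵢyᵢ + βᵢyᵢ²`. -/
noncomputable def qDiag {n : ℕ} (α β : Fin n → F) : QuadraticForm F (Fin n ⊕ Fin n → F) :=
  ∑ i : Fin n, (α i • QuadraticMap.proj (R := F) (A := F) (Sum.inl i : Fin n ⊕ Fin n) (Sum.inl i) +
    QuadraticMap.proj (R := F) (A := F) (Sum.inl i : Fin n ⊕ Fin n) (Sum.inr i) +
    β i • QuadraticMap.proj (R := F) (A := F) (Sum.inr i : Fin n ⊕ Fin n) (Sum.inr i))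

theorem qDiag_apply {n : ℕ} (α β : Fin n → F) (v : Fin n ⊕ Fin n → F) :
    qDiag α β v = ∑ i, (α i * v (.inl i) ^ 2 + v (.inl i) * v (.inr i) + β i * v (.inr i) ^ 2) := by
  simp [qDiag, QuadraticMap.proj_apply, pow_two]

theorem polar_qDiag {n : ℕ} (α β : Fin n → F) (v w : Fin n ⊕ Fin n → F) :
    polar (qDiag α β) v w = ∑ i, (v (.inl i) * w (.inr i) + w (.inl i) * v (.inr i)) := by
  simp only [polar, qDiag_apply, Pi.add_apply, ← Finset.sum_sub_distrib]
  refine Finset.sum_congr rfl fun i _ => ?_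
  linear_combination (α i * v (.inl i) * w (.inl i) + β i * v (.inr i) * w (.inr i)) * CharTwo.two_eq_zero (R := F)

theorem qDiag_nondeg {n : ℕ} (α β : Fin n → F) : Orthogonal.Nondeg (qDiag α β) := by
  intro x hx
  funext s
  rcases s with i | i
  · simpa [polar_qDiag, Pi.single_apply, Finset.sum_add_distrib] using hx (Pi.single (.inr i) 1)
  · simpa [polar_qDiag, Pi.single_apply, Finset.sum_add_distrib] using hx (Pi.single (.inl i) 1)

theorem qgauss_qDiag {n : ℕ} (α β : Fin n → F) :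
    qgauss (qDiag α β) = (Fintype.card F : ℤ) ^ n * chi (∑ i, α i * β i) := by
  classical
  let e : (Fin n → F × F) ≃ (Fin n ⊕ Fin n → F) :=
    ⟨fun p => Sum.elim (fun i => (p i).1) (fun i => (p i).2), fun v i => (v (.inl i), v (.inr i)),
      fun p => rfl, fun v => funext fun s => by rcases s with i | i <;> rfl⟩
  rw [← qgauss_equiv e, qgauss_sum, chi_sum, ← Fin.prod_const n (Fintype.card F : ℤ), ← Finset.prod_mul_distrib,
    Finset.prod_congr rfl fun i _ => (plane_sum' (α i) (β i)).symm]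
  simp only [← Fintype.sum_prod_type']
  rw [Fintype.prod_sum]
  refine Finset.sum_congr rfl fun p _ => ?_
  rw [qDiag_apply, chi_sum]
  rfl

theorem qgauss_plus (n : ℕ) : qgauss (Orthogonal.formPlus F n) = (Fintype.card F : ℤ) ^ n := by
  have h : ⇑(Orthogonal.formPlus F n) = ⇑(qDiag (0 : Fin n → F) 0) := funext fun v => by
    simp [qDiag_apply, Orthogonal.formPlus_coe, Cfsg.quadFormPlus]
  rw [h, qgauss_qDiag]
  simp [chi_zero]

/-- Split off the plane. -/
def minusEquiv (m : ℕ) : ((Fin m ⊕ Fin m) ⊕ Fin 2 → F) ≃ (Fin m ⊕ Fin m → F) × (F × F) :=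
  (Equiv.sumArrowEquivProdArrow _ _ _).trans (Equiv.prodCongr (Equiv.refl _) (finTwoArrowEquiv F))

theorem chi_aniso {a b : F}
    (hab : ∀ z₁ z₂ : F, z₁ ^ 2 + a * z₁ * z₂ + b * z₂ ^ 2 = 0 → z₁ = 0 ∧ z₂ = 0) :
    a ≠ 0 ∧ chi (b / a ^ 2) = -1 := by
  have ha : a ≠ 0 := fun h => by
    obtain ⟨r, hr⟩ := exists_sqrt b
    subst h
    exact one_ne_zero (hab r 1 (by linear_combination hr + b * CharTwo.two_eq_zero (R := F))).2
  refine ⟨ha, if_neg ?_⟩
  rintro ⟨r, hr⟩
  have h1 : r ^ 2 + r = b / a ^ 2 := hr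
  field_simp at h1
  exact one_ne_zero (hab (r * a) 1 (by linear_combination h1 + b * CharTwo.two_eq_zero (R := F))).2

theorem qgauss_minus (m : ℕ) {a b : F}
    (hab : ∀ z₁ z₂ : F, z₁ ^ 2 + a * z₁ * z₂ + b * z₂ ^ 2 = 0 → z₁ = 0 ∧ z₂ = 0) :
    qgauss (Orthogonal.formMinus F m a b) = -(Fintype.card F : ℤ) ^ (m + 1) := by
  classical
  obtain ⟨ha, hchi⟩ := chi_aniso hab
  have h : ⇑(Orthogonal.formMinus F m a b) = fun v => (fun w : (Fin m ⊕ Fin m → F) × (F × F) =>
      Orthogonal.formPlus F m w.1 + (w.2.1 ^ 2 + a * w.2.1 * w.2.2 + b * w.2.2 ^ 2)) (minusEquiv m v) := rfl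
  rw [h, qgauss_equiv (minusEquiv m) (fun w : (Fin m ⊕ Fin m → F) × (F × F) =>
      Orthogonal.formPlus F m w.1 + (w.2.1 ^ 2 + a * w.2.1 * w.2.2 + b * w.2.2 ^ 2)),
    qgauss_add _ (fun z : F × F => z.1 ^ 2 + a * z.1 * z.2 + b * z.2 ^ 2), qgauss_plus]
  have hp : qgauss (fun z : F × F => z.1 ^ 2 + a * z.1 * z.2 + b * z.2 ^ 2) = -(Fintype.card F : ℤ) := by
    have h2 := plane_sum' (1 : F) (b / a ^ 2)
    rw [one_mul, hchi, mul_neg, mul_one] at h2
    rw [qgauss_sum, Fintype.sum_prod_type, ← h2]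
    refine Finset.sum_congr rfl fun x _ => ?_
    rw [← Equiv.sum_comp (Equiv.mulLeft₀ a⁻¹ (inv_ne_zero ha)) fun y => chi (x ^ 2 + a * x * y + b * y ^ 2)]
    refine Finset.sum_congr rfl fun y _ => congrArg chi ?_
    show x ^ 2 + a * x * (a⁻¹ * y) + b * (a⁻¹ * y) ^ 2 = _
    field_simp
  rw [hp, pow_succ]
  ring

/-- Non-degenerate forms in even dimension are classified by their Gauss sums. -/
theorem equiv_of_qgauss {V W : Type*} [AddCommGroup V] [Module F V] [FiniteDimensional F V] [AddCommGroup W]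
    [Module F W] [FiniteDimensional F W] {P : QuadraticForm F V} {R : QuadraticForm F W}
    (hP : Orthogonal.Nondeg P) (hR : Orthogonal.Nondeg R) {m : ℕ} (hV : Module.finrank F V = 2 * (m + 1))
    (hW : Module.finrank F W = 2 * (m + 1)) (hg : qgauss P = qgauss R) :
    ∃ E : V ≃ₗ[F] W, ∀ x, R (E x) = P x := by
  have hq : (Fintype.card F : ℤ) ^ (m + 1) ≠ 0 := pow_ne_zero _ (by exact_mod_cast Fintype.card_ne_zero)
  rcases hP.classify_even hV with ⟨E₁, h1⟩ | ⟨ζ₁, E₁, hζ₁, h1⟩ <;>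
    rcases hR.classify_even hW with ⟨E₂, h2⟩ | ⟨ζ₂, E₂, hζ₂, h2⟩
  · exact ⟨E₁.symm.trans E₂, fun x => by
      rw [LinearEquiv.trans_apply, h2, ← h1, LinearEquiv.apply_symm_apply]⟩
  · exfalso
    rw [← qgauss_equiv E₁.toEquiv, ← qgauss_equiv E₂.toEquiv R,
      show (fun x => P (E₁.toEquiv x)) = _ from funext h1, show (fun x => R (E₂.toEquiv x)) = _ from funext h2,
      qgauss_plus, qgauss_minus m (Orthogonal.aniso_of_no_root hζ₂)] at hg
    exact hq (by linarith)
  · exfalso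
    rw [← qgauss_equiv E₁.toEquiv, ← qgauss_equiv E₂.toEquiv R,
      show (fun x => P (E₁.toEquiv x)) = _ from funext h1, show (fun x => R (E₂.toEquiv x)) = _ from funext h2,
      qgauss_plus, qgauss_minus m (Orthogonal.aniso_of_no_root hζ₁)] at hg
    exact hq (by linarith)
  · obtain ⟨r, hr⟩ : ∃ r : F, ζ₁ + ζ₂ = r ^ 2 + r := by
      have n1 : ζ₁ ∉ (asHom F).range := fun ⟨r, hr⟩ => hζ₁ r (by
        rw [← asHom_apply, hr, CharTwo.add_self_eq_zero])
      have n2 : ζ₂ ∉ (asHom F).range := fun ⟨r, hr⟩ => hζ₂ r (by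
        rw [← asHom_apply, hr, CharTwo.add_self_eq_zero])
      obtain ⟨r, hr⟩ := (AddSubgroup.add_mem_iff_of_index_two index_asHom).2 (iff_of_false n1 n2)
      exact ⟨r, hr.symm⟩
    let S : ((Fin m ⊕ Fin m) ⊕ Fin 2 → F) →ₗ[F] ((Fin m ⊕ Fin m) ⊕ Fin 2 → F) :=
      { toFun := fun v => fun s => if s = Sum.inr 0 then v s + r * v (Sum.inr 1) else v s
        map_add' := fun u v => funext fun s => by simp only [Pi.add_apply]; split_ifs <;> ring
        map_smul' := fun c v => funext fun s => by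
          simp only [Pi.smul_apply, smul_eq_mul, RingHom.id_apply]; split_ifs <;> ring }
    have hS : Function.Injective S := by
      intro u v h
      have h1' : u (Sum.inr 1) = v (Sum.inr 1) := by simpa [S] using congrFun h (Sum.inr 1)
      funext s
      by_cases hs : s = Sum.inr 0
      · subst hs; simpa [S, h1'] using congrFun h (Sum.inr 0)
      · simpa [S, hs] using congrFun h s
    refine ⟨E₁.symm.trans ((LinearEquiv.ofInjectiveEndo S hS).trans E₂), fun x => ?_⟩
    rw [LinearEquiv.trans_apply, LinearEquiv.trans_apply, h2]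
    conv_rhs => rw [← E₁.apply_symm_apply x, h1]
    generalize E₁.symm x = v
    show Orthogonal.formMinus F m 1 ζ₂ (S v) = _
    simp [Orthogonal.formMinus_coe, Cfsg.quadFormMinus, S]
    linear_combination (v (Sum.inr 0) * r * v (Sum.inr 1)) * CharTwo.two_eq_zero (R := F) -
      v (Sum.inr 1) ^ 2 * hr + v (Sum.inr 1) ^ 2 * ζ₂ * CharTwo.two_eq_zero (R := F)

end Cfsg.Agent.H7Class.Two
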