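import Cfsg.Agent.H7Class.TwoNS

/-!
# Families of reciprocal polynomials
-/

set_option autoImplicit false
set_option linter.unusedSectionVars false

namespace Cfsg.Agent.H7Class.Two

open Polynomial

variable {F : Type*} [Field F] [CharP F 2] [Finite F]

theorem pal_inj {k : ℕ} : Set.InjOn (fun (p : F[X]) (j : Fin k) => p.coeff ((j : ℕ) + 1))
    {p | Pal p ∧ p.natDegree = 2 * k} := fun _ hp _ hr h => Pal.ext hp.1 hr.1 hp.2 hr.2 (congrFun h)

theorem finite_pal (k : ℕ) : {p : F[X] | Pal p ∧ p.natDegree = 2 * k}.Finite :=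
  Set.Finite.of_finite_image (Set.toFinite _) pal_inj

/-- The reciprocal polynomials of degree `2k`. -/
noncomputable def palSet (F : Type*) [Field F] [Finite F] (k : ℕ) : Finset F[X] :=
  (Set.Finite.of_finite_image (f := fun (p : F[X]) (j : Fin k) => p.coeff ((j : ℕ) + 1))
    (s := {p | Pal p ∧ p.natDegree = 2 * k}) (Set.toFinite _)
    fun _ hp _ hr h => Pal.ext hp.1 hr.1 hp.2 hr.2 (congrFun h)).toFinset

open scoped Classical in
/-- Those without the root one. -/
noncomputable def palNR (F : Type*) [Field F] [Finite F] (k : ℕ) : Finset F[X] :=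
  (palSet F k).filter fun p => p.eval 1 ≠ 0

theorem mem_palSet {k : ℕ} {p : F[X]} : p ∈ palSet F k ↔ Pal p ∧ p.natDegree = 2 * k := by
  simp [palSet]

theorem mem_palNR {k : ℕ} {p : F[X]} : p ∈ palNR F k ↔ (Pal p ∧ p.natDegree = 2 * k) ∧ p.eval 1 ≠ 0 := by
  simp [palNR, mem_palSet]

theorem card_palSet (k : ℕ) : (palSet F k).card ≤ Nat.card F ^ k := by
  classical
  letI := Fintype.ofFinite F
  refine (Finset.card_le_card_of_injOn (fun (p : F[X]) (j : Fin k) => p.coeff ((j : ℕ) + 1))
    (t := Finset.univ) (fun _ _ => Finset.mem_univ _) ?_).trans (le_of_eq ?_)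
  · intro p hp r hr h
    exact pal_inj (mem_palSet.1 hp) (mem_palSet.1 hr) h
  · rw [Finset.card_univ, Fintype.card_fun, Fintype.card_fin, Nat.card_eq_fintype_card]

theorem card_palNR (k : ℕ) : (palNR F (k + 1)).card ≤ (Nat.card F - 1) * Nat.card F ^ k := by
  classical
  letI := Fintype.ofFinite F
  refine (Finset.card_le_card_of_injOn
    (fun (p : F[X]) => (p.coeff (k + 1), fun j : Fin k => p.coeff ((j : ℕ) + 1)))
    (t := (Finset.univ.erase (0 : F)) ×ˢ Finset.univ) (fun p hp => ?_) ?_).trans (le_of_eq ?_)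
  · obtain ⟨⟨hP, hd⟩, h1⟩ := mem_palNR.1 hp
    refine Finset.mem_product.2 ⟨Finset.mem_erase.2 ⟨?_, Finset.mem_univ _⟩, Finset.mem_univ _⟩
    show p.coeff (k + 1) ≠ 0
    rwa [← (eval_one_of_rev hP.2.1).2 (k + 1) hd]
  · intro p hp r hr h
    refine pal_inj (mem_palNR.1 hp).1 (mem_palNR.1 hr).1 (funext fun j => ?_)
    simp only [Prod.mk.injEq] at h
    refine Fin.lastCases ?_ (fun i => ?_) j
    · simpa using h.1
    · simpa using congrFun h.2 i
  · rw [Finset.card_product, Finset.card_erase_of_mem (Finset.mem_univ _), Finset.card_univ, Finset.card_univ,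
      Fintype.card_fun, Fintype.card_fin, Nat.card_eq_fintype_card]

open scoped Classical in
/-- Families of polynomials, by exponents `m + 1, …, 2, 1`, of total half degree `r`. -/
noncomputable def fams (F : Type*) [Field F] [Finite F] : ℕ → ℕ → Finset (List F[X])
  | 0, r => (palSet F r).image fun p => [p]
  | m + 1, r => (Finset.range (r + 1)).biUnion fun k =>
      if (m + 2) * k ≤ r then (palNR F k ×ˢ fams F m (r - (m + 2) * k)).image fun p => p.1 :: p.2 else ∅

/-- The factor of the exponents above one. -/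
def efac (m : ℕ) : ℚ := 2 - (1 / 2) ^ m

theorem card_fams : ∀ m r, ((fams F m r).card : ℚ) ≤ (Nat.card F : ℚ) ^ r * efac m := by
  classical
  intro m
  have hq2 : 2 ≤ Nat.card F := by
    letI := Fintype.ofFinite F
    rw [Nat.card_eq_fintype_card]; exact Fintype.one_lt_card
  set q : ℚ := (Nat.card F : ℚ) with hq
  have hq' : (2 : ℚ) ≤ q := by rw [hq]; exact_mod_cast hq2
  induction m with
  | zero =>
    intro r
    rw [efac, pow_zero, show (2 : ℚ) - 1 = 1 by norm_num, mul_one, hq]
    exact_mod_cast Finset.card_image_le.trans (card_palSet r)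
  | succ m ih =>
    intro r
    have hE : 0 ≤ efac m := by
      rw [efac]
      linarith [pow_le_one₀ (n := m) (show (0 : ℚ) ≤ 1 / 2 by norm_num) (by norm_num)]
    set x : ℚ := 1 / q with hx
    have hx0 : 0 ≤ x := by rw [hx]; positivity
    have hx1 : x ≤ 1 / 2 := one_div_le_one_div_of_le two_pos hq'
    have hqx : q * x = 1 := by rw [hx]; field_simp
    set j := m + 1 with hj
    have hbase : ∀ i, (1 - x) * x ^ (i + 1) ≤ (1 / 2 : ℚ) ^ (i + 2) := by
      intro i
      induction i with
      | zero => nlinarith [sq_nonneg (x - 1 / 2)]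
      | succ i ihi =>
        rw [pow_succ x (i + 1), pow_succ (1 / 2 : ℚ) (i + 2), ← mul_assoc]
        exact mul_le_mul ihi hx1 hx0 (by positivity)
    let g : ℕ → ℚ := fun k => if k = 0 then 1 else (1 / 2 : ℚ) ^ (j + 1) * ((1 / 2 : ℚ) ^ j) ^ (k - 1)
    have hg : ∀ k, 0 ≤ g k := fun k => by simp only [g]; split_ifs <;> positivity
    rw [fams]
    refine (Nat.cast_le.2 Finset.card_biUnion_le).trans ?_
    rw [Nat.cast_sum]
    refine (Finset.sum_le_sum (g := fun k => q ^ r * efac m * g k) fun k _ => ?_).trans ?_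
    · split_ifs with hk
      swap
      · rw [Finset.card_empty, Nat.cast_zero]
        exact mul_nonneg (mul_nonneg (by positivity) hE) (hg k)
      refine (Nat.cast_le.2 Finset.card_image_le).trans ?_
      rw [Finset.card_product, Nat.cast_mul]
      rcases Nat.eq_zero_or_pos k with rfl | hk0
      · simp only [g, if_pos rfl, mul_one]
        have h1 : ((palNR F 0).card : ℚ) ≤ 1 := by
          exact_mod_cast (Finset.card_le_card (Finset.filter_subset _ _)).trans ((card_palSet 0).trans (by simp))
        calc _ ≤ 1 * (q ^ (r - (m + 2) * 0) * efac m) :=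
              mul_le_mul h1 (ih _) (Nat.cast_nonneg _) zero_le_one
          _ = _ := by simp
      obtain ⟨k, rfl⟩ : ∃ i, k = i + 1 := ⟨k - 1, by omega⟩
      simp only [g, if_neg (Nat.succ_ne_zero k), Nat.add_sub_cancel]
      have h1 : ((palNR F (k + 1)).card : ℚ) ≤ (q - 1) * q ^ k := by
        refine (Nat.cast_le.2 (card_palNR k)).trans (le_of_eq ?_)
        rw [Nat.cast_mul, Nat.cast_sub (by omega), Nat.cast_pow, Nat.cast_one]
      calc _ ≤ (q - 1) * q ^ k * (q ^ (r - (m + 2) * (k + 1)) * efac m) :=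
            mul_le_mul h1 (ih _) (Nat.cast_nonneg _) (mul_nonneg (by linarith) (by positivity))
        _ = q ^ r * efac m * ((1 - x) * x ^ j * (x ^ j) ^ k) := by
            have hsplit : r = (r - (m + 2) * (k + 1)) + (j + j * k) + k + 1 - 0 := by
              have e : (m + 2) * (k + 1) = j + j * k + k + 1 := by rw [hj]; ring
              omega
            rw [show q ^ r = q ^ (r - (m + 2) * (k + 1)) * q ^ (j + j * k) * q ^ k * q by
              rw [← pow_add, ← pow_add, ← pow_succ]; congr 1]
            rw [← pow_mul, mul_assoc (1 - x), ← pow_add]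
            have e : q ^ (j + j * k) * x ^ (j + j * k) = 1 := by rw [← mul_pow, hqx, one_pow]
            linear_combination
              -(q ^ (r - (m + 2) * (k + 1)) * q ^ k * efac m) * ((q - q * x) * e - hqx)
        _ ≤ _ := by
            refine mul_le_mul_of_nonneg_left ?_ (mul_nonneg (by positivity) hE)
            refine mul_le_mul (hbase m) (pow_le_pow_left₀ (by positivity) (pow_le_pow_left₀ hx0 hx1 _) _)
              (by positivity) (by positivity)
    · rw [← Finset.mul_sum, mul_assoc]
      refine mul_le_mul_of_nonneg_left ?_ (by positivity)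
      rw [Finset.sum_range_succ']
      simp only [g, Nat.succ_ne_zero, if_false, if_true, Nat.add_sub_cancel, ← Finset.mul_sum]
      set u : ℚ := (1 / 2) ^ m with hu
      have hu0 : 0 < u := by positivity
      have hu1 : u ≤ 1 := pow_le_one₀ (by norm_num) (by norm_num)
      have ej : (1 / 2 : ℚ) ^ j = u / 2 := by rw [hj, pow_succ, ← hu]; ring
      rw [efac, efac, pow_succ (1 / 2 : ℚ) j, ej, ← hu]
      have hs : ∑ i ∈ Finset.range r, (u / 2) ^ i ≤ 1 / (1 - u / 2) := by
        rw [le_div_iff₀ (by linarith), geom_sum_mul_neg]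
        have : (0 : ℚ) ≤ (u / 2) ^ r := by positivity
        linarith
      calc (2 - u) * (u / 2 * (1 / 2) * ∑ i ∈ Finset.range r, (u / 2) ^ i + 1)
          ≤ (2 - u) * (u / 2 * (1 / 2) * (1 / (1 - u / 2)) + 1) := by
            refine mul_le_mul_of_nonneg_left ?_ (by linarith)
            linarith [mul_le_mul_of_nonneg_left hs (show (0 : ℚ) ≤ u / 2 * (1 / 2) by positivity)]
        _ = 2 - u / 2 := by
            have : 2 - u ≠ 0 := by linarith
            rw [show 1 / (1 - u / 2) = 2 / (2 - u) by field_simp]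
            field_simp
            ring

theorem card_fams_le (m r : ℕ) : ((fams F m r).card : ℚ) ≤ 2 * (Nat.card F : ℚ) ^ r := by
  refine (card_fams m r).trans ?_
  rw [mul_comm, efac]
  refine mul_le_mul_of_nonneg_right ?_ (by positivity)
  linarith [show (0 : ℚ) ≤ (1 / 2) ^ m by positivity]

/-! ### The family of a multiset of keys -/

/-- The product at an exponent. -/
noncomputable def expPoly (K : Multiset (Key F)) (e : ℕ) : F[X] := ((K.filter fun k => k.e = e).map Key.g).prod

/-- The weight at exponents from two to `m + 1`. -/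
noncomputable def highWt (K : Multiset (Key F)) (m : ℕ) : ℕ :=
  ((K.filter fun k => 2 ≤ k.e ∧ k.e ≤ m + 1).map fun k => k.e * k.g.natDegree).sum

/-- The family: the exponent one merged with `a` hyperbolic planes of trivial action. -/
noncomputable def famList (K : Multiset (Key F)) (a : ℕ) : ℕ → List F[X]
  | 0 => [expPoly K 1 * ((Polynomial.X - C 1) ^ 2) ^ a]
  | m + 1 => expPoly K (m + 2) :: famList K a m

theorem expPoly_spec {K : Multiset (Key F)} (hK : ∀ k ∈ K, NSKey k) (e : ℕ) :
    Pal (expPoly K e) ∧ (expPoly K e).eval 1 ≠ 0 ∧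
      e * (expPoly K e).natDegree = ((K.filter fun k => k.e = e).map fun k => k.e * k.g.natDegree).sum := by
  classical
  induction K using Multiset.induction with
  | empty => simp [expPoly, pal_one]
  | cons k K ih =>
    obtain ⟨hP, h1, hd⟩ := ih fun x hx => hK x (Multiset.mem_cons_of_mem hx)
    by_cases he : k.e = e
    · have hk := (hK k (Multiset.mem_cons_self _ _)).pal
      rw [expPoly, Multiset.filter_cons_of_pos (p := fun x : Key F => x.e = e) _ he, Multiset.map_cons, Multiset.prod_cons, Multiset.map_cons,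
        Multiset.sum_cons]
      refine ⟨hk.1.mul hP, ?_, ?_⟩
      · rw [eval_mul]; exact mul_ne_zero hk.2 h1
      · show e * (k.g * expPoly K e).natDegree = _
        rw [hk.1.1.natDegree_mul hP.1, mul_add, hd, he]
    · rw [expPoly, Multiset.filter_cons_of_neg (p := fun x : Key F => x.e = e) _ he]
      exact ⟨hP, h1, hd⟩

theorem highWt_succ (K : Multiset (Key F)) (m : ℕ) : highWt K (m + 1) =
    highWt K m + ((K.filter fun k => k.e = m + 2).map fun k => k.e * k.g.natDegree).sum := by
  classical
  induction K using Multiset.induction with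
  | empty => simp [highWt]
  | cons k K ih =>
    simp only [highWt] at ih ⊢
    rw [Multiset.filter_cons, Multiset.filter_cons, Multiset.filter_cons]
    split_ifs <;> simp only [Multiset.map_add, Multiset.sum_add, Multiset.map_singleton, Multiset.sum_singleton,
      Multiset.map_zero, Multiset.sum_zero] <;> omega

theorem famList_mem {K : Multiset (Key F)} (hK : ∀ k ∈ K, NSKey k) (a : ℕ) : ∀ m r,
    2 * r = (expPoly K 1).natDegree + 2 * a + highWt K m → famList K a m ∈ fams F m r := by
  classical
  have hS : Pal (((Polynomial.X - C 1 : F[X]) ^ 2) ^ a) := (pal_sq (one_mul 1)).pow a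
  intro m
  induction m with
  | zero =>
    intro r hr
    have : highWt K 0 = 0 := by
      rw [highWt, Multiset.filter_eq_nil.2 fun k _ => by omega, Multiset.map_zero, Multiset.sum_zero]
    refine Finset.mem_image.2 ⟨_, mem_palSet.2 ⟨(expPoly_spec hK 1).1.mul hS, ?_⟩, rfl⟩
    rw [(expPoly_spec hK 1).1.1.natDegree_mul hS.1, ← pow_mul, natDegree_pow, natDegree_X_sub_C]
    omega
  | succ m ih =>
    intro r hr
    obtain ⟨hP, h1, hd⟩ := expPoly_spec hK (m + 2)
    obtain ⟨k, hk⟩ := hP.2.2
    rw [highWt_succ, ← hd, hk, mul_add] at hr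
    have h1' : k ≤ (m + 2) * k := Nat.le_mul_of_pos_left _ (by omega)
    rw [fams]
    refine Finset.mem_biUnion.2 ⟨k, Finset.mem_range.2 (by omega), ?_⟩
    rw [if_pos (by omega)]
    exact Finset.mem_image.2 ⟨(expPoly K (m + 2), famList K a m),
      Finset.mem_product.2 ⟨mem_palNR.2 ⟨⟨hP, hk.trans (two_mul k).symm⟩, h1⟩, ih _ (by omega)⟩, rfl⟩

theorem famList_inj {K K' : Multiset (Key F)} {a a' : ℕ} : ∀ m, famList K a m = famList K' a' m →
    expPoly K 1 * ((Polynomial.X - C 1) ^ 2) ^ a = expPoly K' 1 * ((Polynomial.X - C 1) ^ 2) ^ a' ∧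
      ∀ e, 2 ≤ e → e ≤ m + 1 → expPoly K e = expPoly K' e := by
  intro m
  induction m with
  | zero =>
    intro h
    exact ⟨List.singleton_injective h, fun e h1 h2 => absurd h2 (by omega)⟩
  | succ m ih =>
    intro h
    rw [famList, famList, List.cons.injEq] at h
    obtain ⟨h1, h2⟩ := ih h.2
    refine ⟨h1, fun e he he' => ?_⟩
    rcases (show e = m + 2 ∨ e ≤ m + 1 by omega) with rfl | he''
    · exact h.1
    · exact h2 e he he''

/-- The family determines the keys and the number of planes. -/
theorem famList_injective {K K' : Multiset (Key F)} (hK : ∀ k ∈ K, NSKey k) (hK' : ∀ k ∈ K', NSKey k) {m a a' : ℕ}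
    (hm : ∀ k ∈ K, k.e ≤ m + 1) (hm' : ∀ k ∈ K', k.e ≤ m + 1) (h : famList K a m = famList K' a' m) :
    K = K' ∧ a = a' := by
  classical
  obtain ⟨h1, h2⟩ := famList_inj m h
  set S := ((Polynomial.X - C 1 : F[X]) ^ 2) with hS
  have hS0 : S ≠ 0 := pow_ne_zero _ (X_sub_C_ne_zero 1)
  have key : ∀ (p p' : F[X]) (i j : ℕ), p.eval 1 ≠ 0 → i ≤ j → p * S ^ i = p' * S ^ j → p = p' ∧ i = j := by
    intro p p' i j hp hij he
    obtain ⟨d, rfl⟩ := Nat.le.dest hij
    rw [pow_add, ← mul_assoc, mul_right_comm] at he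
    have hpd := mul_right_cancel₀ (pow_ne_zero _ hS0) he
    cases d with
    | zero => exact ⟨by simpa using hpd, rfl⟩
    | succ d => exact absurd (by rw [hpd]; simp [hS]) hp
  obtain ⟨e1, rfl⟩ : expPoly K 1 = expPoly K' 1 ∧ a = a' := by
    rcases le_total a a' with hle | hle
    · exact key _ _ _ _ (expPoly_spec hK 1).2.1 hle h1
    · obtain ⟨x, y⟩ := key _ _ _ _ (expPoly_spec hK' 1).2.1 hle h1.symm
      exact ⟨x.symm, y.symm⟩
  refine ⟨?_, rfl⟩
  have hA : ∀ e, (K.filter fun k => k.e = e).map Key.g = (K'.filter fun k => k.e = e).map Key.g := by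
    intro e
    by_cases he : 1 ≤ e ∧ e ≤ m + 1
    · refine atoms_unique_two _ _ (fun x hx => ?_) (fun x hx => ?_) ?_
      · obtain ⟨k, hk, rfl⟩ := Multiset.mem_map.1 hx
        exact ⟨k, hK k (Multiset.mem_of_mem_filter hk), rfl⟩
      · obtain ⟨k, hk, rfl⟩ := Multiset.mem_map.1 hx
        exact ⟨k, hK' k (Multiset.mem_of_mem_filter hk), rfl⟩
      · rcases (show e = 1 ∨ 2 ≤ e by omega) with rfl | he2
        · exact e1
        · exact h2 e he2 he.2
    · rw [Multiset.filter_eq_nil.2 fun k hk hke => he ?_, Multiset.filter_eq_nil.2 fun k hk hke => he ?_]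
      · have := (hK' k hk).1; have := hm' k hk; omega
      · have := (hK k hk).1; have := hm k hk; omega
  refine Multiset.ext.2 fun k => ?_
  have hcount : ∀ (K : Multiset (Key F)), (∀ x ∈ K, NSKey x) → k.flag = false →
      K.count k = ((K.filter fun x => x.e = k.e).map Key.g).count k.g := by
    intro K hK hf
    rw [Multiset.count_map, Multiset.filter_filter, Multiset.count_eq_card_filter_eq]
    refine congrArg Multiset.card (Multiset.filter_congr fun x hx => ⟨?_, fun hx' => ?_⟩)
    · rintro rfl; exact ⟨rfl, rfl⟩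
    · obtain ⟨g, e, b⟩ := x
      obtain ⟨g', e', b'⟩ := k
      have hb := (hK _ hx).2.1
      simp only at hb hf hx' ⊢
      obtain ⟨r1, r2⟩ := hx'
      subst r1 r2 hb hf
      rfl
  cases hf : k.flag
  · rw [hcount K hK hf, hcount K' hK' hf, hA]
  · rw [Multiset.count_eq_zero.2, Multiset.count_eq_zero.2] <;> intro hk
    · rw [(hK' k hk).2.1] at hf; exact Bool.false_ne_true hf
    · rw [(hK k hk).2.1] at hf; exact Bool.false_ne_true hf

end Cfsg.Agent.H7Class.Two
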