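import Cfsg.Agent.H7Class.TwoGen

/-!
# The pieces `V(2k)` and `W(m)` and their uniqueness
-/

set_option autoImplicit false
set_option linter.unusedSectionVars false
set_option linter.style.haveILetI false

namespace Cfsg.Agent.H7Class.Two

open Polynomial
open UStr (nPoly)

universe v

variable {F : Type*} [Field F] [CharP F 2] [Finite F] {δ : ℕ} {V W : Type v} [AddCommGroup V] [Module F V]
  [AddCommGroup W] [Module F W]

/-! ### The Artin–Schreier class -/

variable (F) in
/-- The image of `r ↦ r² + r`. -/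
def asHom : F →+ F where
  toFun r := r ^ 2 + r
  map_zero' := by simp
  map_add' a b := by simp only [CharTwo.add_sq]; ring

theorem asHom_apply (r : F) : asHom F r = r ^ 2 + r := rfl

theorem index_asHom : (asHom F).range.index = 2 := by
  classical
  have hk : ∀ r, r ∈ (asHom F).ker ↔ r = 0 ∨ r = 1 := by
    intro r
    rw [AddMonoidHom.mem_ker, asHom_apply, show r ^ 2 + r = r * (r + 1) by ring, mul_eq_zero,
      CharTwo.add_eq_zero]
  have hcard : Nat.card (asHom F).ker = 2 := by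
    rw [Nat.card_eq_two_iff]
    refine ⟨⟨0, (hk 0).2 (Or.inl rfl)⟩, ⟨1, (hk 1).2 (Or.inr rfl)⟩, by simp, Set.eq_univ_of_forall fun r => ?_⟩
    rcases (hk r.1).1 r.2 with h | h
    · exact Or.inl (Subtype.ext h)
    · exact Or.inr (Subtype.ext h)
  have h1 := AddSubgroup.index_ker (asHom F)
  have h2 := (asHom F).ker.index_mul_card
  have h3 := (asHom F).range.index_mul_card
  have : 0 < Nat.card F := Nat.card_pos
  rw [hcard, h1] at h2
  rw [← h2] at h3 this
  exact Nat.eq_of_mul_eq_mul_right (by omega) (h3.trans (mul_comm _ _))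

theorem exists_asHom : ∃ a : F, ∀ r, r ^ 2 + r ≠ a := by
  by_contra h
  push Not at h
  have : (asHom F).range = ⊤ := top_unique fun a _ => h a
  have h2 := index_asHom (F := F)
  rw [this, AddSubgroup.index_top] at h2
  omega

variable (F) in
/-- An element which is not `r² + r`. -/
noncomputable def asNon : F := exists_asHom (F := F).choose

theorem asNon_spec (r : F) : r ^ 2 + r ≠ asNon F := exists_asHom (F := F).choose_spec r

theorem asNon_ne_zero : asNon F ≠ 0 := fun h => asNon_spec (F := F) 0 (by rw [h]; ring)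

/-- The standard value of a class. -/
noncomputable def asVal (a : Bool) : F := if a then asNon F else 0

theorem exists_shift {a : F} {b : Bool} (hb : b = true → ∀ r, r ^ 2 + r ≠ a) (hb' : b = false → ∃ r, r ^ 2 + r = a) :
    ∃ r, a + (r ^ 2 + r) = asVal b := by
  cases b
  · obtain ⟨r, hr⟩ := hb' rfl
    exact ⟨r, by rw [hr, CharTwo.add_self_eq_zero]; rfl⟩
  · have h1 : a ∉ (asHom F).range := fun ⟨r, hr⟩ => hb rfl r hr
    have h2 : asNon F ∉ (asHom F).range := fun ⟨r, hr⟩ => asNon_spec r hr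
    obtain ⟨r, hr⟩ : a + asNon F ∈ (asHom F).range :=
      (AddSubgroup.add_mem_iff_of_index_two index_asHom).2 (by simp [h1, h2])
    exact ⟨r, by rw [← asHom_apply, hr, ← add_assoc, CharTwo.add_self_eq_zero, zero_add]; rfl⟩

theorem exists_sqrt (a : F) : ∃ c, c ^ 2 = a := by
  haveI := Fintype.ofFinite F
  obtain ⟨c, hc⟩ := FiniteField.isSquare_of_char_two (ringChar.eq F 2) a
  exact ⟨c, by rw [pow_two, hc]⟩

/-! ### Keys and pieces -/

/-- `V k a` is a cyclic piece of dimension `2k`, `W k e a` a pair of cycles of length `2k + 1 - e`. -/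
inductive UKey
  | V (k : ℕ) (a : Bool)
  | W (k e : ℕ) (a : Bool)
  deriving DecidableEq

/-- The dimension of a piece. -/
def UKey.dim : UKey → ℕ
  | .V k _ => 2 * k
  | .W k e _ => 2 * (2 * k + 1 - e)

/-- The admissible keys. -/
def UKey.Valid (δ : ℕ) : UKey → Prop
  | .V k a => 1 ≤ k ∧ (a = true → δ + 1 ≤ k)
  | .W k e a => e ≤ 1 ∧ e ≤ k ∧ (a = true → e = 0 ∧ δ ≤ k)

/-- The pieces. -/
def IsP : UKey → UStr F δ V → Prop
  | .V k a, X => UKey.Valid δ (.V k a) ∧ ∃ v, Gen1 X.toStr v (nPoly ^ (2 * k + 1 - 1)) ∧ X.lev (k - δ) v ≠ 0 ∧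
      (a = false → δ + 1 ≤ k → X.lev (k - δ - 1) v = 0) ∧
      (a = true → ∀ u, X.lev (k - δ) u ≠ 0 → X.lev (k - δ - 1) u ≠ 0)
  | .W k e a, X => UKey.Valid δ (.W k e a) ∧ ∃ v w,
      Gen2 X.toStr v w (nPoly ^ (2 * k + 1 - e)) (nPoly ^ (2 * k + 1 - e)) ∧ X.B (X.topOp k e v) w ≠ 0 ∧
      (e = 1 → X.lev (k - δ) v = 0 ∧ X.lev (k - δ) w = 0) ∧
      (a = false → δ ≤ k → X.lev (k - δ) v = 0) ∧
      (a = true → ∀ u, X.topOp k e u ≠ 0 → X.lev (k - δ) u ≠ 0)

theorem valid_of_isP {k : UKey} {X : UStr F δ V} (h : IsP k X) : k.Valid δ := by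
  cases k <;> exact h.1

theorem finrank_isP [FiniteDimensional F V] {k : UKey} {X : UStr F δ V} (h : IsP k X) :
    Module.finrank F V = k.dim := by
  cases k with
  | V k a =>
    obtain ⟨hv, v, G, -⟩ := h
    rw [finrank_gen1 G, natDegree_nPoly_pow, UKey.dim]
    omega
  | W k e a =>
    obtain ⟨hv, v, w, G, -⟩ := h
    rw [finrank_gen2 G, natDegree_nPoly_pow, UKey.dim]
    omega

/-! ### Normal generators -/

namespace UStr

variable {X : UStr F δ V} [FiniteDimensional F V]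

theorem Kill.B_top_self_V [Finite V] {k : ℕ} (hK : X.Kill k 1) (hδ : δ ≤ 1) (v : V) :
    X.B (X.topOp k 1 v) v = X.lev (k - δ) v := by
  rw [hK.topOp_self hδ, if_neg one_ne_zero]

/-- Changing a multiple of `N v`. -/
theorem Kill.lev_shift [Finite V] {k : ℕ} (hK : X.Kill k 1) (hδ : δ ≤ 1) (v : V) (r : F) (hk : δ + 1 ≤ k) :
    X.lev (k - δ) (v + r • X.N v) = X.lev (k - δ) v ∧
      X.lev (k - δ - 1) (v + r • X.N v) = X.lev (k - δ - 1) v + (r ^ 2 + r) * X.lev (k - δ) v := by
  have hN : ∀ i, X.lev i (X.N v) = X.lev (i + 1) v := fun i => by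
    have := X.lev_N i 1 v; rwa [pow_one] at this
  refine ⟨?_, ?_⟩
  · rw [X.lev_add, lev_smul, hN, hK.lev_eq_zero hδ (i := k - δ + 1) (by omega), show k - δ + δ = k by omega, map_smul,
      smul_eq_mul]
    have h0 : (X.s ^ k) v = 0 := by
      have := hK.N_s (a := 0) (n := k) (by omega) v
      simpa using this
    rw [h0, map_zero, LinearMap.zero_apply]
    ring
  · rw [X.lev_add, lev_smul, hN, show k - δ - 1 + 1 = k - δ by omega, show k - δ - 1 + δ = k - 1 by omega,
      map_smul, smul_eq_mul, ← hK.B_top_self_V hδ, hK.topOp_symm, topOp, pow_one, Module.End.mul_apply]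
    have : X.B ((X.s ^ (k - 1)) v) (X.N v) = X.B v (X.N ((X.s ^ (k - 1)) v)) := by
      rw [s_pow_adj, ← Module.End.mul_apply, ← (X.commute_N_s.pow_right (k - 1)).eq, Module.End.mul_apply]
    rw [this]
    ring

/-- The normal levels of `V k a`. -/
noncomputable def stdV (δ k : ℕ) (a : Bool) (i : ℕ) : F :=
  if i + δ = k then 1 else if i + δ + 1 = k then asVal a else 0

theorem exists_normV (hδ : δ ≤ 1) {k : ℕ} {a : Bool} (h : IsP (.V k a) X) :
    ∃ v, Gen1 X.toStr v (nPoly ^ (2 * k + 1 - 1)) ∧ ∀ i, X.lev i v = stdV δ k a i := by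
  haveI : Finite V := Module.finite_of_finite F
  obtain ⟨⟨hk1, hka⟩, v₀, G, h0, hf, ht⟩ := h
  have hdim : Module.finrank F V = 2 * k + 1 - 1 := by rw [finrank_gen1 G, natDegree_nPoly_pow]
  have hK : X.Kill k 1 := Kill.of_gen1 le_rfl hk1 G
  obtain ⟨c, hc⟩ := exists_sqrt (X.lev (k - δ) v₀)⁻¹
  set v₁ := c • v₀
  have h1 : X.lev (k - δ) v₁ = 1 := by rw [lev_smul, hc, inv_mul_cancel₀ h0]
  obtain ⟨v₂, h2, h2'⟩ : ∃ v₂, X.lev (k - δ) v₂ = 1 ∧ (δ + 1 ≤ k → X.lev (k - δ - 1) v₂ = asVal a) := by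
    by_cases hk : δ + 1 ≤ k
    · cases a with
      | false => exact ⟨v₁, h1, fun _ => by rw [lev_smul, hf rfl hk, mul_zero]; rfl⟩
      | true =>
        obtain ⟨r, hr⟩ := exists_shift (F := F) (a := X.lev (k - δ - 1) v₁) (b := true) (fun _ r hr => by
          have := hK.lev_shift hδ v₁ r hk
          rw [h1, mul_one, hr, CharTwo.add_self_eq_zero] at this
          exact ht rfl _ (by rw [this.1]; exact one_ne_zero) this.2) (by simp)
        have := hK.lev_shift hδ v₁ r hk
        exact ⟨_, this.1.trans h1, fun _ => by rw [this.2, h1, mul_one, hr]⟩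
    · exact ⟨v₁, h1, fun h => absurd h hk⟩
  have htop : X.B (X.topOp k 1 v₂) v₂ ≠ 0 := by rw [hK.B_top_self_V hδ, h2]; exact one_ne_zero
  obtain ⟨h, hl, hp⟩ := hK.adjust hδ (x := v₂) (y := v₂) (k - δ - 1)
    (fun i hi => ⟨by omega, fun h => absurd h (by omega)⟩) htop (fun _ => 0)
  refine ⟨v₂ + X.ev h v₂, gen1_of hK (fun h0 => htop ?_) hdim, fun i => ?_⟩
  · rw [← hp, h0, map_zero, LinearMap.zero_apply]
  rw [hl, stdV]
  split_ifs with h3 h4 h5 h4 h5
  · omega
  · omega
  · rfl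
  · rw [show i = k - δ by omega, h2]
  · rw [show i = k - δ - 1 by omega, h2' (by omega)]
  · exact hK.lev_eq_zero hδ (by omega) _

/-- The normal generators of `W k e false`. -/
theorem exists_normW (hδ : δ ≤ 1) {k e : ℕ} (h : IsP (.W k e false) X) :
    ∃ v w, Gen2 X.toStr v w (nPoly ^ (2 * k + 1 - e)) (nPoly ^ (2 * k + 1 - e)) ∧
      X.B (X.topOp k e v) w ≠ 0 ∧ (∀ i, X.lev i v = 0) ∧ ∀ i, X.lev i w = 0 := by
  haveI : Finite V := Module.finite_of_finite F
  obtain ⟨⟨he, hek, -⟩, v, w, G, hvw, h1, hf, -⟩ := h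
  have hdim : Module.finrank F V = 2 * (2 * k + 1 - e) := by
    rw [finrank_gen2 G, natDegree_nPoly_pow, two_mul (2 * k + 1 - e)]
  have hK : X.Kill k e := Kill.of_gen2 he hek G
  obtain ⟨h, hl, hp⟩ := hK.adjust hδ (x := v) (y := w) (k - δ)
    (fun i hi => ⟨by omega, fun h => (h1 (by omega)).2⟩) hvw (fun _ => 0)
  set v' := v + X.ev h w
  have hv' : ∀ i, X.lev i v' = 0 := fun i => by
    rw [hl]
    split_ifs with h3
    · rfl
    · by_cases h4 : i + δ = k
      · rw [show i = k - δ by omega, hf rfl (by omega)]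
      · exact hK.lev_eq_zero hδ (by omega) _
  have hwv : X.B (X.topOp k e w) v' ≠ 0 := by rw [hK.topOp_symm, X.B_comm, hp]; exact hvw
  obtain ⟨h', hl', hp'⟩ := hK.adjust hδ (x := w) (y := v') (k + 1 - δ - e)
    (fun i hi => ⟨by omega, fun _ => hv' _⟩) hwv (fun _ => 0)
  set w' := w + X.ev h' v'
  have hw' : ∀ i, X.lev i w' = 0 := fun i => by
    rw [hl']
    split_ifs with h3
    · rfl
    · by_cases h4 : i + δ = k
      · rw [show i = k - δ by omega, (h1 (by omega)).2]
      · exact hK.lev_eq_zero hδ (by omega) _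
  have hpair : X.B (X.topOp k e v') w' ≠ 0 := by rw [hK.topOp_symm, X.B_comm, hp']; exact hwv
  refine ⟨v', w', gen2_of hK ?_ ?_ hpair hdim, hpair, hv', hw'⟩
  · exact hK.top_self_zero hδ fun _ => hv' _
  · exact hK.top_self_zero hδ fun _ => hw' _

/-- A combination agrees on the top level with its leading part. -/
theorem Kill.lev_top_ev [Finite V] {k : ℕ} (hK : X.Kill k 0) (hδ : δ ≤ 1) (hk : δ ≤ k) (g : F[X]) (u : V) :
    X.lev (k - δ) (X.ev g u) = g.eval 1 ^ 2 * X.lev (k - δ) u := by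
  obtain ⟨d, hd⟩ : (nPoly : F[X]) ∣ g - C (g.eval 1) := by rw [nPoly_eq]; exact X_sub_C_dvd_sub_C_eval
  have e1 : g = C (g.eval 1) + nPoly * d := by linear_combination hd
  conv_lhs => rw [e1, X.ev_add, X.ev_C, X.ev_mul, ev_nPoly]
  have hN : ∀ i z, X.lev i (X.N z) = X.lev (i + 1) z := fun i z => by
    have := X.lev_N i 1 z; rwa [pow_one] at this
  rw [X.lev_add, lev_smul, hN, hK.lev_eq_zero hδ (i := k - δ + 1) (by omega), show k - δ + δ = k by omega, add_zero, map_smul,
    map_smul, LinearMap.smul_apply]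
  have : X.B ((X.s ^ k) u) (X.N (X.ev d u)) = 0 := by
    rw [s_pow_adj, ← Module.End.mul_apply, ← (X.commute_N_s.pow_right k).eq, Module.End.mul_apply,
      show X.N ((X.s ^ k) (X.ev d u)) = 0 from by simpa using hK.N_s (a := 1) (n := k) (by omega) (X.ev d u),
      map_zero]
  rw [this, smul_zero, add_zero]

/-- The normal generators of `W k 0 true`. -/
theorem exists_normW' (hδ : δ ≤ 1) {k e : ℕ} (h : IsP (.W k e true) X) :
    e = 0 ∧ δ ≤ k ∧ ∃ v w, Gen2 X.toStr v w (nPoly ^ (2 * k + 1 - e)) (nPoly ^ (2 * k + 1 - e)) ∧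
      X.B (X.topOp k e v) w = 1 ∧ (∀ i, X.lev i v = if i + δ = k then 1 else 0) ∧
      X.lev (k - δ) w = asNon F := by
  haveI : Finite V := Module.finite_of_finite F
  obtain ⟨⟨-, -, ha⟩, v₀, w₀, G, hvw, -, -, ht⟩ := h
  obtain ⟨rfl, hk⟩ := ha rfl
  refine ⟨rfl, hk, ?_⟩
  have hdim : Module.finrank F V = 2 * (2 * k + 1 - 0) := by
    rw [finrank_gen2 G, natDegree_nPoly_pow, two_mul (2 * k + 1 - 0)]
  have hK : X.Kill k 0 := Kill.of_gen2 (Nat.zero_le 1) (Nat.zero_le k) G
  have hself : ∀ u, X.B (X.topOp k 0 u) u = 0 := fun u => by rw [hK.topOp_self hδ, if_pos rfl]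
  obtain ⟨c, hc⟩ := exists_sqrt (X.lev (k - δ) v₀)⁻¹
  have hv0 : X.lev (k - δ) v₀ ≠ 0 := ht rfl v₀ fun h => hvw (by rw [h, map_zero, LinearMap.zero_apply])
  set v₁ := c • v₀ with hv1
  have h1 : X.lev (k - δ) v₁ = 1 := by rw [lev_smul, hc, inv_mul_cancel₀ hv0]
  have hc0 : c ≠ 0 := by rintro rfl; simp [hv1, lev_zero] at h1
  clear_value v₁
  obtain ⟨w₁, hp1⟩ : ∃ w₁, X.B (X.topOp k 0 v₁) w₁ = 1 := by
    refine ⟨(c * X.B (X.topOp k 0 v₀) w₀)⁻¹ • w₀, ?_⟩
    simp only [hv1, map_smul, LinearMap.smul_apply, smul_eq_mul]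
    field_simp
  have hsh : ∀ r : F, X.lev (k - δ) (w₁ + r • v₁) = X.lev (k - δ) w₁ + (r ^ 2 + r) ∧
      X.B (X.topOp k 0 v₁) (w₁ + r • v₁) = 1 := fun r => by
    refine ⟨?_, by rw [map_add, map_smul, hp1, hself, smul_zero, add_zero]⟩
    have e1 : X.B ((X.s ^ k) w₁) v₁ = 1 := by
      rw [X.B_comm, ← s_pow_adj]; simpa [topOp] using hp1
    rw [X.lev_add, lev_smul, h1, show k - δ + δ = k by omega, map_smul, e1, smul_eq_mul]
    ring
  obtain ⟨r, hr⟩ := exists_shift (F := F) (a := X.lev (k - δ) w₁) (b := true) (fun _ r hr => by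
    obtain ⟨e1, e2⟩ := hsh r
    rw [hr, CharTwo.add_self_eq_zero] at e1
    refine ht rfl _ (fun h0 => ?_) e1
    rw [hK.topOp_symm, h0, map_zero] at e2
    exact zero_ne_one e2) (by simp)
  set w₂ := w₁ + r • v₁
  obtain ⟨h, hl, hp⟩ := hK.adjust hδ (x := v₁) (y := w₂) (k - δ)
    (fun i hi => ⟨by omega, fun h => absurd h (by omega)⟩) (by rw [(hsh r).2]; exact one_ne_zero) (fun _ => 0)
  refine ⟨v₁ + X.ev h w₂, w₂, gen2_of hK (hself _) (hself _) (by rw [hp, (hsh r).2]; exact one_ne_zero) hdim,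
    by rw [hp, (hsh r).2], fun i => ?_, by rw [(hsh r).1, hr]; rfl⟩
  rw [hl]
  split_ifs with h3 h4 h4
  · omega
  · rfl
  · rw [show i = k - δ by omega, h1]
  · exact hK.lev_eq_zero hδ (by omega) _

end UStr

open UStr

/-- Pieces of equal keys are isomorphic. -/
theorem iso_of_isP (hδ : δ ≤ 1) [FiniteDimensional F V] [FiniteDimensional F W] {κ : UKey} {X : UStr F δ V}
    {Y : UStr F δ W} (hX : IsP κ X) (hY : IsP κ Y) : Nonempty (UIso Y X) := by
  haveI : Finite V := Module.finite_of_finite F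
  cases κ with
  | V k a =>
    obtain ⟨v, G, hv⟩ := exists_normV hδ hX
    obtain ⟨w, H, hw⟩ := exists_normV hδ hY
    exact iso_gen1 hδ G H fun i => by rw [hv, hw]
  | W k e a =>
    cases a with
    | false =>
      obtain ⟨v, w, G, hp, hv, hw⟩ := exists_normW hδ hX
      obtain ⟨v', w', H, hp', hv', hw'⟩ := exists_normW hδ hY
      haveI : Finite W := Module.finite_of_finite F
      have hK : X.Kill k e := Kill.of_gen2 hX.1.1 hX.1.2.1 G
      have hdim : Module.finrank F V = 2 * (2 * k + 1 - e) := finrank_isP hX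
      obtain ⟨φ, hφ, hφv⟩ := exists_equiv2 G H
      obtain ⟨h, hh⟩ := exists_rep hK hp ((Y.B.flip w').comp φ.toLinearMap)
      have hm : ∀ g, X.B (X.ev g v) (X.ev h w) = Y.B (Y.ev g v') w' := fun g => by
        rw [hh]
        show Y.B (φ _) w' = _
        congr 2
        have := hφv g 0
        rwa [X.ev_zero, Y.ev_zero, add_zero, add_zero] at this
      have hw0 := fun i => lev_ev_zero hδ hw i h
      have htop : X.B (X.topOp k e v) (X.ev h w) ≠ 0 := by
        rw [top_eq hK, hm, ← top_eq (Kill.of_gen2 hX.1.1 hX.1.2.1 H)]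
        exact hp'
      have G' := gen2_of hK (hK.top_self_zero hδ fun _ => hv _) (hK.top_self_zero hδ fun _ => hw0 _) htop hdim
      exact iso_gen2 hδ G' H (fun i => by rw [hv, hv']) (fun i => by rw [hw0, hw']) fun g => (hm g).symm
    | true =>
      obtain ⟨rfl, hk, v, w, G, hp, hv, hw⟩ := exists_normW' hδ hX
      obtain ⟨-, -, v', w', H, hp', hv', hw'⟩ := exists_normW' hδ hY
      haveI : Finite W := Module.finite_of_finite F
      have hK : X.Kill k 0 := Kill.of_gen2 (Nat.zero_le 1) (Nat.zero_le k) G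
      have hK' : Y.Kill k 0 := Kill.of_gen2 (Nat.zero_le 1) (Nat.zero_le k) H
      have hdim : Module.finrank F V = 2 * (2 * k + 1 - 0) := finrank_isP hX
      have hself : ∀ u, X.B (X.topOp k 0 u) u = 0 := fun u => by rw [hK.topOp_self hδ, if_pos rfl]
      obtain ⟨φ, hφ, hφv⟩ := exists_equiv2 G H
      obtain ⟨h, hh⟩ := exists_rep hK (by rw [hp]; exact one_ne_zero) ((Y.B.flip w').comp φ.toLinearMap)
      have hm : ∀ g, X.B (X.ev g v) (X.ev h w) = Y.B (Y.ev g v') w' := fun g => by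
        rw [hh]
        show Y.B (φ _) w' = _
        congr 2
        have := hφv g 0
        rwa [X.ev_zero, Y.ev_zero, add_zero, add_zero] at this
      set w₀ := X.ev h w
      have htop : X.B (X.topOp k 0 v) w₀ = 1 := by rw [top_eq hK, hm, ← top_eq hK', hp']
      have h1 : h.eval 1 = 1 := by
        have := htop
        rwa [hK.topOp_symm, top_ev hK, map_smul, ← hK.topOp_symm, hp, smul_eq_mul, mul_one] at this
      have hw0 : X.lev (k - δ) w₀ = asNon F := by rw [hK.lev_top_ev hδ hk, h1, hw]; ring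
      -- a vector orthogonal to the module of `v` congruent to `v`
      obtain ⟨l, hl⟩ := exists_rep hK (by rw [htop]; exact one_ne_zero) (X.B.flip v)
      set u := v + X.ev l w₀
      have hu : ∀ g, X.B (X.ev g v) u = 0 := fun g => by
        rw [map_add, hl]
        exact CharTwo.add_self_eq_zero _
      have hl1 : X.B (X.topOp k 0 w₀) u ≠ 0 := by
        rw [map_add, hK.topOp_symm, X.B_comm, htop, hK.topOp_symm, top_ev hK, map_smul, ← hK.topOp_symm, hself,
          smul_zero, add_zero]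
        exact one_ne_zero
      obtain ⟨c, hc, hc'⟩ := hK.adjust hδ (x := w₀) (y := u) (k - δ)
        (fun i hi => ⟨by omega, fun h => absurd h (by omega)⟩) hl1 (fun i => Y.lev i w')
      set w₁ := w₀ + X.ev c u
      have hm1 : ∀ g, X.B (X.ev g v) w₁ = Y.B (Y.ev g v') w' := fun g => by
        rw [map_add, hm, Str.adjPoly_right, ← X.ev_mul, hu, add_zero]
      have htop1 : X.B (X.topOp k 0 v) w₁ ≠ 0 := by rw [top_eq hK, hm1, ← top_eq hK', hp']; exact one_ne_zero
      have G' := gen2_of hK (hself _) (hself _) htop1 hdim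
      refine iso_gen2 hδ G' H (fun i => by rw [hv, hv']) (fun i => ?_) fun g => (hm1 g).symm
      rw [hc]
      split_ifs with h3
      · rfl
      · by_cases h4 : i + δ = k
        · rw [show i = k - δ by omega, hw0, hw']
        · rw [hK'.lev_eq_zero hδ (by omega), hK.lev_eq_zero hδ (by omega)]

end Cfsg.Agent.H7Class.Two
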