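import Cfsg.Agent.H7Class.TwoGauss
import Cfsg.Agent.H7Class.TwoNS

/-!
# Classes by unipotent part and rest
-/

set_option autoImplicit false
set_option linter.unusedSectionVars false
set_option linter.style.haveILetI false

namespace Cfsg.Agent.H7Class.Two

open Polynomial

universe v

variable {F : Type*} [Field F] [CharP F 2] [Finite F] {δ : ℕ} {V W : Type v} [AddCommGroup V] [Module F V]
  [AddCommGroup W] [Module F W]

theorem B_N_pow_ker (X : UStr F δ V) : ∀ (n : ℕ) (x z : V), (X.N ^ n) z = 0 → X.B ((X.N ^ n) x) z = 0 := by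
  intro n
  induction n with
  | zero =>
    intro x z hz
    rw [pow_zero, Module.End.one_apply] at hz
    rw [hz, map_zero]
  | succ n ih =>
    intro x z hz
    rw [pow_succ', Module.End.mul_apply, X.N_adj_comb]
    refine ih x _ ?_
    rw [← Module.End.mul_apply, ← pow_succ]
    apply X.T.injective
    rw [map_zero, ← X.t_apply, ← Module.End.mul_apply, ← (X.commute_N_t.pow_left (n + 1)).eq, Module.End.mul_apply,
      X.t_apply, LinearEquiv.apply_symm_apply, hz]

/-- The unipotent part and the rest. -/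
theorem exists_unip_split [FiniteDimensional F V] (X : UStr F δ V) :
    ∃ (V₁ V₂ : Type v) (_ : AddCommGroup V₁) (_ : AddCommGroup V₂) (_ : Module F V₁) (_ : Module F V₂)
      (X₁ : UStr F δ V₁) (X₂ : UStr F δ V₂),
      Unip X₁ ∧ FixFree X₂.toStr ∧ Nonempty (UIso X (X₁.prod X₂)) := by
  obtain ⟨m, hm⟩ := Filter.eventually_atTop.1 (LinearMap.eventually_isCompl_ker_pow_range_pow X.N)
  have hc := hm (m + 1) (Nat.le_succ m)
  set n := m + 1 with hn
  set Z := LinearMap.ker (X.N ^ n)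
  have hT : ∀ z ∈ Z, X.T z ∈ Z := fun z hz => by
    rw [LinearMap.mem_ker] at hz ⊢
    rw [← X.t_apply, ← Module.End.mul_apply, (X.commute_N_t.pow_left n).eq, Module.End.mul_apply, hz, map_zero]
  have hnd : ∀ u ∈ Z, (∀ z ∈ Z, X.B u z = 0) → u = 0 := by
    intro u hu h
    refine X.nd u fun x => ?_
    obtain ⟨z, hz, w, hw, rfl⟩ := Submodule.mem_sup.1 (hc.sup_eq_top.symm ▸ Submodule.mem_top (x := x))
    obtain ⟨y, rfl⟩ := hw
    rw [map_add, h z hz, X.B_comm u, B_N_pow_ker X n y u (LinearMap.mem_ker.1 hu), add_zero]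
  obtain ⟨W', Y, -, i, hi⟩ := exists_ucomplement X Z hT hnd
  refine ⟨Z, W', _, _, _, _, _, Y, ⟨n, fun u => Subtype.ext ?_⟩, fun w hw => ?_, ⟨i⟩⟩
  · rw [restrict_N_pow]; exact LinearMap.mem_ker.1 u.2
  · set x := i.e.symm (0, w)
    have h1 : X.T x = x := by
      apply i.e.injective
      rw [i.map_T, LinearEquiv.apply_symm_apply, UStr.prod, Str.prod_T, hw, map_zero]
    have hx : x ∈ Z := by
      rw [LinearMap.mem_ker, hn, pow_succ, Module.End.mul_apply, X.N_apply, h1, add_self_vec (F := F), map_zero]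
    have h2 : i.e x = ((⟨x, hx⟩ : Z), 0) := hi ⟨x, hx⟩
    rw [LinearEquiv.apply_symm_apply] at h2
    exact congrArg Prod.snd h2

/-- Without fixed vectors the quadratic map is determined by the form. -/
theorem uiso_of_iso [FiniteDimensional F V] {X : UStr F δ V} {Y : UStr F δ W} (hX : FixFree X.toStr)
    (i : Iso X.toStr Y.toStr) : Nonempty (UIso X Y) := by
  have hinj : Function.Injective X.N := (injective_iff_map_eq_zero _).2 fun u hu => hX u (by
    rw [X.N_apply] at hu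
    calc X.T u = X.T u + u + u := by rw [add_assoc, add_self_vec (F := F), add_zero]
      _ = u := by rw [hu, zero_add])
  have hsurj : ∀ m v, ∃ u, (X.N ^ m) u = v := by
    intro m
    induction m with
    | zero => exact fun v => ⟨v, rfl⟩
    | succ m ih =>
      intro v
      obtain ⟨w, rfl⟩ := LinearMap.injective_iff_surjective.1 hinj v
      obtain ⟨u, rfl⟩ := ih w
      exact ⟨u, by rw [pow_succ', Module.End.mul_apply]⟩
  refine ⟨⟨i, fun v => ?_⟩⟩
  obtain ⟨u, rfl⟩ := hsurj (1 - δ) v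
  have hN : ∀ (m : ℕ) (u : V), i.e ((X.N ^ m) u) = (Y.N ^ m) (i.e u) := by
    intro m
    induction m with
    | zero => exact fun u => rfl
    | succ m ih =>
      intro u
      rw [pow_succ, pow_succ, Module.End.mul_apply, Module.End.mul_apply, ih, X.N_apply, Y.N_apply, map_add, i.map_T]
  rw [hN]
  show Y.lev (1 - δ) (i.e u) = X.lev (1 - δ) u
  rw [Y.q_TN, X.q_TN, ← i.map_T, i.map_B]

/-- The invariants of a class. -/
def HasCode (X : UStr F δ V) (M : Multiset UKey) (K : Multiset (Key F)) : Prop :=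
  ∃ (V₁ V₂ : Type v) (_ : AddCommGroup V₁) (_ : AddCommGroup V₂) (_ : Module F V₁) (_ : Module F V₂)
    (X₁ : UStr F δ V₁) (X₂ : UStr F δ V₂) (L : List UKey) (L' : List (Key F)),
    UDecomp L X₁ ∧ FixFree X₂.toStr ∧ Decomp L' X₂.toStr ∧ (L : Multiset UKey) = M ∧ (L' : Multiset (Key F)) = K ∧
      Nonempty (UIso X (X₁.prod X₂))

theorem exists_code (hδ : δ ≤ 1) [FiniteDimensional F V] (X : UStr F δ V) :
    ∃ M K, HasCode X M K ∧ UNormal δ M := by
  obtain ⟨V₁, V₂, i₁, i₂, m₁, m₂, X₁, X₂, h1, h2, ⟨i⟩⟩ := exists_unip_split X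
  haveI := (finite_ufst i).1
  haveI := (finite_ufst i).2
  obtain ⟨L, hL, hN⟩ := exists_unormal hδ X₁ h1
  obtain ⟨L', hL'⟩ := exists_decomp' (Or.inl rfl) X₂.toStr
  exact ⟨_, _, ⟨V₁, V₂, i₁, i₂, m₁, m₂, X₁, X₂, L, L', hL, h2, hL', rfl, rfl, ⟨i⟩⟩, hN⟩

theorem code_weight [FiniteDimensional F V] {X : UStr F δ V} {M : Multiset UKey} {K : Multiset (Key F)}
    (h : HasCode X M K) :
    (M.map UKey.dim).sum + (K.map fun k => k.e * k.g.natDegree).sum = Module.finrank F V ∧ ∀ k ∈ K, NSKey k := by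
  obtain ⟨V₁, V₂, i₁, i₂, m₁, m₂, X₁, X₂, L, L', hL, h2, hL', rfl, rfl, ⟨i⟩⟩ := h
  haveI := (finite_ufst i).1
  haveI := (finite_ufst i).2
  refine ⟨?_, fun k hk => nsKey_decomp L' X₂.toStr h2 hL' k (Multiset.mem_coe.1 hk)⟩
  rw [Multiset.map_coe, Multiset.map_coe, Multiset.sum_coe, Multiset.sum_coe, ← finrank_udecomp L X₁ hL,
    ← finrank_decomp L' X₂.toStr hL', ← Module.finrank_prod, ← i.e.finrank_eq]

theorem code_unique (hδ : δ ≤ 1) [FiniteDimensional F V] [FiniteDimensional F W] {X : UStr F δ V} {Y : UStr F δ W}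
    {M : Multiset UKey} {K : Multiset (Key F)} (hX : HasCode X M K) (hY : HasCode Y M K) :
    Nonempty (UIso X Y) := by
  obtain ⟨V₁, V₂, i₁, i₂, m₁, m₂, X₁, X₂, L, L', hL, fX, hL', rfl, rfl, ⟨i⟩⟩ := hX
  obtain ⟨W₁, W₂, j₁, j₂, n₁, n₂, Y₁, Y₂, R, R', hR, fY, hR', hM, hK, ⟨j⟩⟩ := hY
  haveI := (finite_ufst i).1
  haveI := (finite_ufst i).2
  haveI := (finite_ufst j).1
  haveI := (finite_ufst j).2
  obtain ⟨a⟩ := udecomp_unique hδ L X₁ Y₁ hL (udecomp_perm (Multiset.coe_eq_coe.1 hM) Y₁ hR)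
  obtain ⟨b⟩ := decomp_unique_two L' X₂.toStr Y₂.toStr fX fY hL'
    (decomp_perm (Multiset.coe_eq_coe.1 hK) Y₂.toStr hR')
  obtain ⟨b'⟩ := uiso_of_iso fX b
  exact ⟨i.trans ((a.prod b').trans j.symm)⟩

/-- The parity of the non-trivial classes is determined by the rest, the dimension and the Gauss sum. -/
theorem code_parity [FiniteDimensional F V] [FiniteDimensional F W] {X : UStr F 0 V} {Y : UStr F 0 W}
    {M M' : Multiset UKey} {K : Multiset (Key F)} (hX : HasCode X M K) (hY : HasCode Y M' K)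
    (hg : gauss X = gauss Y) {m : ℕ} (hm : (M.map UKey.dim).sum = 2 * m) (hm' : (M'.map UKey.dim).sum = 2 * m) :
    (-1 : ℤ) ^ nTrue M.toList = (-1) ^ nTrue M'.toList := by
  obtain ⟨V₁, V₂, i₁, i₂, m₁, m₂, X₁, X₂, L, L', hL, fX, hL', rfl, rfl, ⟨i⟩⟩ := hX
  obtain ⟨W₁, W₂, j₁, j₂, n₁, n₂, Y₁, Y₂, R, R', hR, fY, hR', rfl, hK, ⟨j⟩⟩ := hY
  haveI := (finite_ufst i).1
  haveI := (finite_ufst i).2
  haveI := (finite_ufst j).1
  haveI := (finite_ufst j).2
  haveI : Finite V₁ := Module.finite_of_finite F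
  haveI : Finite V₂ := Module.finite_of_finite F
  haveI : Finite W₁ := Module.finite_of_finite F
  haveI : Finite W₂ := Module.finite_of_finite F
  obtain ⟨b⟩ := decomp_unique_two L' X₂.toStr Y₂.toStr fX fY hL'
    (decomp_perm (Multiset.coe_eq_coe.1 hK) Y₂.toStr hR')
  obtain ⟨b'⟩ := uiso_of_iso fX b
  rw [Multiset.map_coe, Multiset.sum_coe] at hm hm'
  rw [gauss_iso i, gauss_iso j, gauss_prod, gauss_prod, gauss_iso b',
    gauss_udecomp L X₁ m hL ((finrank_udecomp L X₁ hL).trans hm),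
    gauss_udecomp R Y₁ m hR ((finrank_udecomp R Y₁ hR).trans hm')] at hg
  have hp : ∀ L : List UKey, nTrue (L : Multiset UKey).toList = nTrue L := fun L =>
    (Multiset.coe_eq_coe.1 (Multiset.coe_toList _)).countP_eq _
  rw [hp, hp]
  exact mul_right_cancel₀ (pow_ne_zero _ (by exact_mod_cast (Nat.card_pos (α := F)).ne'))
    (mul_right_cancel₀ (gauss_ne_zero Y₂) hg)

end Cfsg.Agent.H7Class.Two
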