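import Cfsg.Agent.H7Class.TwoSplit
import Cfsg.Agent.H7Class.TwoEnc
import Cfsg.Agent.H7Class.TwoPals

/-!
# The upper bounds in characteristic two
-/

set_option autoImplicit false
set_option linter.unusedSectionVars false
set_option linter.style.haveILetI false

namespace Cfsg.Agent.H7Class.Two

open Polynomial Count

universe v

variable {F : Type*} [Field F] [CharP F 2] [Finite F] {δ n : ℕ}

/-- The index of a class: the polynomials, the flag at height zero and the configuration. -/
abbrev Index (F : Type*) [Field F] : Type _ := List F[X] × ℕ × List Itm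

/-- The index of the invariants. -/
noncomputable def index (n : ℕ) (M : Multiset UKey) (K : Multiset (Key F)) : Index F :=
  (famList K (M.count (.W 0 0 false)) n, M.count (.W 0 0 true), enc M n)

/-- The invariants arising in dimension `2n`. -/
def Admissible (δ n : ℕ) (M : Multiset UKey) (K : Multiset (Key F)) : Prop :=
  UNormal δ M ∧ (∀ k ∈ K, NSKey k) ∧
    (M.map UKey.dim).sum + (K.map fun k => k.e * k.g.natDegree).sum = 2 * n

namespace Admissible

variable {M M' : Multiset UKey} {K K' : Multiset (Key F)}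

theorem keys (h : Admissible δ n M K) :
    (∀ κ ∈ M, κ.Valid δ ∧ κ.InRange n) ∧ (∀ k ∈ K, k.e ≤ n + 1) ∧ Multiset.card M ≤ 2 * n := by
  obtain ⟨hM, hK, hsum⟩ := h
  refine ⟨fun κ hκ => ⟨hM.valid κ hκ, (hM.valid κ hκ).inRange ?_⟩, fun k hk => ?_, ?_⟩
  · have := Multiset.single_le_sum (fun _ _ => Nat.zero_le _) _ (Multiset.mem_map_of_mem UKey.dim hκ)
    omega
  · have h1 := Multiset.single_le_sum (fun _ _ => Nat.zero_le _) _
      (Multiset.mem_map_of_mem (fun k : Key F => k.e * k.g.natDegree) hk)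
    have h2 := Nat.le_mul_of_pos_right k.e (hK k hk).natDegree_pos
    have h3 : 2 ≤ k.g.natDegree := by
      obtain ⟨r, hr⟩ := (hK k hk).pal.1.2.2
      have := (hK k hk).natDegree_pos
      omega
    have h4 : k.e * 2 ≤ k.e * k.g.natDegree := Nat.mul_le_mul_left _ h3
    omega
  · have h1 : (M.map fun _ => 1).sum ≤ (M.map UKey.dim).sum := Multiset.sum_map_le_sum_map _ _ fun κ hκ => by
      have hv := hM.valid κ hκ
      cases κ with
      | V k a => simp only [UKey.dim]; have := hv.1; omega
      | W k e a => simp only [UKey.dim]; have := hv.1; have := hv.2.1; omega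
    simp at h1
    omega

/-- The dimensions. -/
theorem weight (h : Admissible δ n M K) :
    (M.map UKey.dim).sum = 2 * (M.count (.W 0 0 false) + M.count (.W 0 0 true) + lwt (enc M n)) ∧
      M.countP (fun κ => kflag κ = true) = M.count (.W 0 0 true) + lpar (enc M n) ∧
      M.count (.W 0 0 true) + lwt (enc M n) ≤ n ∧
      2 * (n - (M.count (.W 0 0 true) + lwt (enc M n))) =
        (expPoly K 1).natDegree + 2 * M.count (.W 0 0 false) + highWt K n := by
  classical
  obtain ⟨h1, h2⟩ := enc_total M h.keys.1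
  have hsum := h.2.2
  have hK : (K.map fun k => k.e * k.g.natDegree).sum = (expPoly K 1).natDegree + highWt K n := by
    conv_lhs => rw [← Multiset.filter_add_not (fun k : Key F => k.e = 1) K]
    rw [Multiset.map_add, Multiset.sum_add, ← (expPoly_spec h.2.1 1).2.2, one_mul, highWt]
    congr 3
    refine Multiset.filter_congr fun k hk => ?_
    have := (h.2.1 k hk).1
    have := h.keys.2.1 k hk
    omega
  refine ⟨h1, h2, by omega, by omega⟩

theorem index_inj (h : Admissible δ n M K) (h' : Admissible δ n M' K') (he : index n M K = index n M' K') :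
    M = M' ∧ K = K' := by
  simp only [index, Prod.mk.injEq] at he
  obtain ⟨hK, ha⟩ := famList_injective h.2.1 h'.2.1 h.keys.2.1 h'.keys.2.1 he.1
  exact ⟨enc_injective h.keys.1 h'.keys.1 ha he.2.1 he.2.2, hK⟩

theorem index_mem (hδ : δ ≤ 1) (h : Admissible δ n M K) :
    (index n M K).1 ∈ fams F n (n - ((index n M K).2.1 + lwt (index n M K).2.2)) ∧
      (index n M K).2.1 + lwt (index n M K).2.2 ≤ n ∧ (index n M K).2.1 ≤ 1 ∧
      (δ = 1 → (index n M K).2.1 = 0) ∧
      ∃ b e, (index n M K).2.2 ∈ confs (2 * n) (decide (δ = 0)) b n e ∧ ((index n M K).2.1 = 1 → b = false) := by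
  obtain ⟨-, -, hle, hdeg⟩ := h.weight
  refine ⟨famList_mem h.2.1 _ n _ hdeg, hle, h.1.onceW 0, fun hd => ?_, _, _,
    enc_mem hδ h.1 h.keys.2.2 n, fun h1 => ?_⟩
  · refine Multiset.count_eq_zero.2 fun hm => ?_
    have := ((h.1.valid _ hm).2.2 rfl).2
    omega
  · have hm : UKey.W 0 0 true ∈ M := Multiset.count_pos.1 (by rw [show M.count _ = 1 from h1]; omega)
    simp [itm, Multiset.count_eq_zero.2 (h.1.freeW 0 false hm).2, Multiset.count_eq_zero.2 (h.1.freeW 0 true hm).2]

end Admissible

variable {G : Type*} [Group G] [Finite G] {V : Type v} [AddCommGroup V] [Module F V] [FiniteDimensional F V]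

theorem exists_index_map (hδ : δ ≤ 1) (str : G → UStr F δ V) (hconj : ∀ g h, UIso (str g) (str h) → IsConj g h)
    (hdim : Module.finrank F V = 2 * n) :
    ∃ (Φ : ConjClasses G → Multiset UKey × Multiset (Key F)), Function.Injective Φ ∧
      ∀ c, Admissible δ n (Φ c).1 (Φ c).2 ∧ ∃ g, HasCode (str g) (Φ c).1 (Φ c).2 := by
  choose M K hMK hN using fun g => exists_code hδ (str g)
  choose r hr using @ConjClasses.exists_rep G _
  refine ⟨fun c => (M (r c), K (r c)), fun c c' h => ?_, fun c => ⟨⟨hN _, ?_, ?_⟩, r c, hMK _⟩⟩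
  · simp only [Prod.mk.injEq] at h
    obtain ⟨i⟩ := code_unique hδ (hMK (r c)) (h.1.symm ▸ h.2.symm ▸ hMK (r c'))
    rw [← hr c, ← hr c', ConjClasses.mk_eq_mk_iff_isConj]
    exact hconj _ _ i
  · exact (code_weight (hMK (r c))).2
  · exact (code_weight (hMK (r c))).1.trans hdim

theorem pow_sub_le {q : ℕ} (hq : 2 ≤ q) {n w : ℕ} (hw : w ≤ n) :
    (q : ℚ) ^ (n - w) ≤ (q : ℚ) ^ n * half w := by
  have hq' : (2 : ℚ) ≤ q := by exact_mod_cast hq
  obtain ⟨r, rfl⟩ := Nat.le.dest hw
  rw [Nat.add_sub_cancel_left, pow_add, half, one_div, inv_pow, mul_right_comm]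
  refine le_mul_of_one_le_left (by positivity) ?_
  rw [← div_eq_mul_inv, one_le_div₀ (by positivity)]
  exact pow_le_pow_left₀ two_pos.le hq' _

theorem two_le_card : 2 ≤ Nat.card F := by
  letI := Fintype.ofFinite F
  rw [Nat.card_eq_fintype_card]; exact Fintype.one_lt_card

open scoped Classical in
/-- The families completing a configuration, given the flag at height zero. -/
noncomputable def compl (F : Type*) [Field F] [Finite F] (n t0 w : ℕ) : Finset (List F[X]) :=
  if t0 + w ≤ n then fams F n (n - (t0 + w)) else ∅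

theorem card_compl (t0 w : ℕ) :
    ((compl F n t0 w).card : ℚ) ≤ 2 * ((Nat.card F : ℚ) ^ n * half (t0 + w)) := by
  unfold compl
  split_ifs with h
  · refine (card_fams_le _ _).trans (mul_le_mul_of_nonneg_left (pow_sub_le two_le_card h) two_pos.le)
  · rw [Finset.card_empty, Nat.cast_zero]
    have := half_nonneg (t0 + w)
    positivity

/-- The symplectic bound. -/
theorem classes_le_one (str : G → UStr F 1 V) (hconj : ∀ g h, UIso (str g) (str h) → IsConj g h)
    (hdim : Module.finrank F V = 2 * n) :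
    (Nat.card (ConjClasses G) : ℚ) ≤ (Nat.card F : ℚ) ^ n * (76 / 5) := by
  classical
  haveI : Fintype (ConjClasses G) := Fintype.ofFinite _
  obtain ⟨Φ, hΦ, hA⟩ := exists_index_map le_rfl str hconj hdim
  let Ψ : ConjClasses G → Index F := fun c => index n (Φ c).1 (Φ c).2
  have hΨ : Function.Injective Ψ := fun c c' h => by
    obtain ⟨h1, h2⟩ := (hA c).1.index_inj (hA c').1 h
    exact hΦ (Prod.ext h1 h2)
  let I : Bool × Bool → Finset (Index F) := fun be =>
    (confs (2 * n) false be.1 n be.2).biUnion fun l => (compl F n 0 (lwt l)).image fun Q => (Q, 0, l)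
  have hsub : Finset.univ.image Ψ ⊆ (Finset.univ : Finset (Bool × Bool)).biUnion I := by
    intro x hx
    obtain ⟨c, -, rfl⟩ := Finset.mem_image.1 hx
    obtain ⟨hf, hle, -, h0, b, e, hl, -⟩ := (hA c).1.index_mem le_rfl
    have ht : (Ψ c).2.1 = 0 := h0 rfl
    refine Finset.mem_biUnion.2 ⟨(b, e), Finset.mem_univ _, Finset.mem_biUnion.2 ⟨(Ψ c).2.2, hl, ?_⟩⟩
    rw [show (index n (Φ c).1 (Φ c).2).2.1 = 0 from ht] at hf hle
    refine Finset.mem_image.2 ⟨(Ψ c).1, ?_, Prod.ext rfl (Prod.ext ht.symm rfl)⟩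
    rw [compl, if_pos hle]; exact hf
  have h1 : (Nat.card (ConjClasses G) : ℚ) ≤ ∑ be : Bool × Bool, ((I be).card : ℚ) := by
    rw [Nat.card_eq_fintype_card, ← Finset.card_univ, ← Finset.card_image_of_injective _ hΨ]
    exact_mod_cast (Finset.card_le_card hsub).trans Finset.card_biUnion_le
  have h2 : ∀ be : Bool × Bool, ((I be).card : ℚ) ≤
      2 * (Nat.card F : ℚ) ^ n * (if be.2 then (val false be.1 n).2 else (val false be.1 n).1) := by
    intro be
    refine le_trans ?_ (mul_le_mul_of_nonneg_left (sum_confs_le (2 * n) false be.1 n be.2) (by positivity))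
    rw [Finset.mul_sum]
    refine (Nat.cast_le.2 Finset.card_biUnion_le).trans ?_
    rw [Nat.cast_sum]
    refine Finset.sum_le_sum fun l _ => (Nat.cast_le.2 Finset.card_image_le).trans ((card_compl 0 (lwt l)).trans ?_)
    rw [zero_add, mul_assoc]
  refine h1.trans ((Finset.sum_le_sum fun be _ => h2 be).trans ?_)
  simp only [Fintype.sum_prod_type, Fintype.sum_bool, Bool.false_eq_true, if_true, if_false]
  have := mul_le_mul_of_nonneg_left (val_sp n) (show (0 : ℚ) ≤ 2 * (Nat.card F : ℚ) ^ n by positivity)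
  linarith

/-- The sign attached to a truth value. -/
def sgn (a : Bool) : ℚ := if a then 1 else -1

theorem card_filter_sgn {α : Type*} (s : Finset α) (f : α → Bool) (a : Bool) :
    (2 : ℚ) * (s.filter fun x => f x = a).card = s.card + sgn a * ∑ x ∈ s, sgn (f x) := by
  rw [Finset.mul_sum, Finset.card_filter, Finset.card_eq_sum_ones s, Nat.cast_sum, Nat.cast_sum, Finset.mul_sum,
    ← Finset.sum_add_distrib]
  refine Finset.sum_congr rfl fun x _ => ?_
  cases f x <;> cases a <;> simp [sgn] <;> norm_num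

/-- The orthogonal bound. -/
theorem classes_le_zero (str : G → UStr F 0 V) (hconj : ∀ g h, UIso (str g) (str h) → IsConj g h)
    (hg : ∀ g h, gauss (str g) = gauss (str h)) (hdim : Module.finrank F V = 2 * n) :
    (Nat.card (ConjClasses G) : ℚ) ≤ (Nat.card F : ℚ) ^ n * 15 := by
  classical
  haveI : Fintype (ConjClasses G) := Fintype.ofFinite _
  obtain ⟨Φ, hΦ, hA⟩ := exists_index_map (Nat.zero_le 1) str hconj hdim
  let Ψ : ConjClasses G → Index F := fun c => index n (Φ c).1 (Φ c).2
  have hΨ : Function.Injective Ψ := fun c c' h => by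
    obtain ⟨h1, h2⟩ := (hA c).1.index_inj (hA c').1 h
    exact hΦ (Prod.ext h1 h2)
  let κ : ConjClasses G → List F[X] × ℕ × ℕ := fun c => ((Ψ c).1, (Ψ c).2.1, lwt (Ψ c).2.2)
  let evenC : ConjClasses G → Bool := fun c => decide (Even ((Ψ c).2.1 + lpar (Ψ c).2.2))
  let π : List F[X] × ℕ × ℕ → Bool := fun x => if h : ∃ c, κ c = x then evenC h.choose else false
  have hπ : ∀ c, π (κ c) = evenC c := by
    intro c
    have h : ∃ c', κ c' = κ c := ⟨c, rfl⟩
    simp only [π, dif_pos h]
    set c' := h.choose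
    have hc' : κ c' = κ c := h.choose_spec
    simp only [κ, Ψ, index, Prod.mk.injEq] at hc'
    obtain ⟨e1, e2, e3⟩ := hc'
    obtain ⟨A, g, hgc⟩ := hA c
    obtain ⟨A', g', hgc'⟩ := hA c'
    obtain ⟨eK, ea⟩ := famList_injective A'.2.1 A.2.1 A'.keys.2.1 A.keys.2.1 e1
    obtain ⟨w1, p1, -, -⟩ := A.weight
    obtain ⟨w2, p2, -, -⟩ := A'.weight
    rw [eK] at hgc'
    have h3 := code_parity hgc' hgc (hg g' g) (m := (Φ c).1.count (.W 0 0 false) + (Φ c).1.count (.W 0 0 true) +
      lwt (enc (Φ c).1 n)) (by rw [w2, ea, e2, e3]) w1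
    have hn : ∀ M : Multiset UKey, nTrue M.toList = M.countP (fun κ => kflag κ = true) := fun M => by
      rw [← nTrue_toList]
      refine congrArg (fun f => M.toList.countP f) (funext fun κ => ?_)
      cases κ <;> rfl
    rw [hn, hn, p1, p2] at h3
    refine decide_eq_decide.2 ?_
    show Even ((Φ c').1.count (.W 0 0 true) + lpar (enc (Φ c').1 n)) ↔
      Even ((Φ c).1.count (.W 0 0 true) + lpar (enc (Φ c).1 n))
    have hev : ∀ k : ℕ, Even k ↔ (-1 : ℤ) ^ k = 1 := fun k => (neg_one_pow_eq_one_iff_even (by norm_num)).symm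
    rw [hev, hev, h3]
  let tgt : ℕ → List Itm → Finset (List F[X]) := fun t0 l =>
    (compl F n t0 (lwt l)).filter fun Q => π (Q, t0, lwt l) = decide (Even (t0 + lpar l))
  let J : ℕ → Bool × Bool → Finset (Index F) := fun t0 be =>
    (confs (2 * n) true be.1 n be.2).biUnion fun l => (tgt t0 l).image fun Q => (Q, t0, l)
  have hsub : Finset.univ.image Ψ ⊆
      ((Finset.univ : Finset (Bool × Bool)).biUnion (J 0)) ∪ ({(false, false), (false, true)} : Finset _).biUnion (J 1) := by
    intro x hx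
    obtain ⟨c, -, rfl⟩ := Finset.mem_image.1 hx
    obtain ⟨hf, hle, ht, -, b, e, hl, hb⟩ := (hA c).1.index_mem (Nat.zero_le 1)
    have hmem : Ψ c ∈ J (Ψ c).2.1 (b, e) := by
      refine Finset.mem_biUnion.2 ⟨(Ψ c).2.2, hl, Finset.mem_image.2 ⟨(Ψ c).1, Finset.mem_filter.2 ⟨?_, ?_⟩, rfl⟩⟩
      · rw [compl, if_pos hle]; exact hf
      · exact hπ c
    rcases (show (Ψ c).2.1 = 0 ∨ (Ψ c).2.1 = 1 by have : (Ψ c).2.1 ≤ 1 := ht; omega) with h0 | h0
    · rw [h0] at hmem
      exact Finset.mem_union_left _ (Finset.mem_biUnion.2 ⟨(b, e), Finset.mem_univ _, hmem⟩)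
    · obtain rfl : b = false := hb h0
      rw [h0] at hmem
      exact Finset.mem_union_right _ (Finset.mem_biUnion.2 ⟨(false, e), by cases e <;> simp, hmem⟩)
  have hJ : ∀ t0 be, ((J t0 be).card : ℚ) ≤ ∑ l ∈ confs (2 * n) true be.1 n be.2, ((tgt t0 l).card : ℚ) := by
    intro t0 be
    refine (Nat.cast_le.2 Finset.card_biUnion_le).trans ?_
    rw [Nat.cast_sum]
    exact Finset.sum_le_sum fun l _ => Nat.cast_le.2 Finset.card_image_le
  have h1 : (Nat.card (ConjClasses G) : ℚ) ≤
      ∑ be : Bool × Bool, ((J 0 be).card : ℚ) + (((J 1 (false, false)).card : ℚ) + ((J 1 (false, true)).card : ℚ)) := by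
    rw [Nat.card_eq_fintype_card, ← Finset.card_univ, ← Finset.card_image_of_injective _ hΨ]
    have := ((Finset.card_le_card hsub).trans (Finset.card_union_le _ _)).trans
      (add_le_add Finset.card_biUnion_le Finset.card_biUnion_le)
    rw [Finset.sum_pair (by simp)] at this
    exact_mod_cast this
  -- the signed parts
  let T : ℕ → ℕ → ℚ := fun t0 w => ((compl F n t0 w).card : ℚ)
  let D : ℕ → ℕ → ℚ := fun t0 w => (-1 : ℚ) ^ t0 * ∑ Q ∈ compl F n t0 w, sgn (π (Q, t0, w))
  have htgt : ∀ t0 l, 2 * ((tgt t0 l).card : ℚ) = T t0 (lwt l) + (-1) ^ lpar l * D t0 (lwt l) := by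
    intro t0 l
    have e : sgn (decide (Even (t0 + lpar l))) = (-1 : ℚ) ^ (t0 + lpar l) := by
      rcases Nat.even_or_odd (t0 + lpar l) with h | h
      · rw [h.neg_one_pow, decide_eq_true h]; rfl
      · rw [h.neg_one_pow, decide_eq_false (Nat.not_even_iff_odd.2 h)]; rfl
    rw [card_filter_sgn, e, pow_add]
    ring
  set P : ℚ := (Nat.card F : ℚ) ^ n
  have hT : ∀ t0 w, T t0 w ≤ 2 * (P * half t0) * half w := fun t0 w => by
    refine (card_compl t0 w).trans (le_of_eq ?_)
    rw [half, half, half, pow_add]; ring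
  have hD : ∀ t0 w, D t0 w ≤ 2 * (P * half t0) * half w := fun t0 w => by
    refine le_trans ?_ (hT t0 w)
    refine (le_abs_self _).trans ?_
    rw [abs_mul, abs_pow, abs_neg, abs_one, one_pow, one_mul]
    refine (Finset.abs_sum_le_sum_abs _ _).trans (le_of_eq ?_)
    rw [Finset.sum_congr rfl fun Q _ => (show |sgn (π (Q, t0, w))| = 1 by cases π (Q, t0, w) <;> simp [sgn]),
      Finset.sum_const, nsmul_eq_mul, mul_one]
  have hsum : ∀ t0 b e, 2 * ((J t0 (b, e)).card : ℚ) ≤ 2 * (P * half t0) * (if e then (val true b n).2 else (val true b n).1)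
      + if e = false ∧ b = false then 2 * (P * half t0) * onlyVal n else 0 := by
    intro t0 b e
    refine (mul_le_mul_of_nonneg_left (hJ t0 (b, e)) two_pos.le).trans ?_
    simp only [Finset.mul_sum, htgt, Finset.sum_add_distrib]
    rw [signed_sum (2 * n) b n e (D t0)]
    have hc : 0 ≤ 2 * (P * half t0) := by have := half_nonneg t0; positivity
    refine add_le_add ?_ ?_
    · refine (Finset.sum_le_sum fun l _ => hT t0 (lwt l)).trans ?_
      rw [← Finset.mul_sum]
      exact mul_le_mul_of_nonneg_left (sum_confs_le _ _ _ _ _) hc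
    · split_ifs
      · refine (Finset.sum_le_sum fun l _ => hD t0 (lwt l)).trans ?_
        rw [← Finset.mul_sum]
        exact mul_le_mul_of_nonneg_left (sum_only_le _ _) hc
      · exact le_rfl
  rw [Fintype.sum_prod_type] at h1
  simp only [Fintype.sum_bool] at h1
  have a1 := hsum 0 true true
  have a2 := hsum 0 true false
  have a3 := hsum 0 false true
  have a4 := hsum 0 false false
  have a5 := hsum 1 false true
  have a6 := hsum 1 false false
  simp only [Bool.true_eq_false, and_true, and_false, false_and, and_self, if_true, if_false, Bool.false_eq_true,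
    add_zero, show half 0 = 1 from pow_zero _, show half 1 = 1 / 2 from pow_one _, mul_one] at a1 a2 a3 a4 a5 a6
  have := mul_le_mul_of_nonneg_left (val_ortho n) (show (0 : ℚ) ≤ P by positivity)
  linarith

end Cfsg.Agent.H7Class.Two
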