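import Cfsg.Agent.H7Class.Basic

/-!
# Uniqueness of the indecomposable structures
-/

set_option autoImplicit false

namespace Cfsg.Agent.H7Class

open Polynomial

variable {F : Type*} [Field F] {ε : F}
  {V W : Type*} [AddCommGroup V] [Module F V] [AddCommGroup W] [Module F W]

/-- `v` generates freely modulo `p`. -/
def Gen1 (X : Str F ε V) (v : V) (p : F[X]) : Prop :=
  (∀ u, ∃ h, X.ev h v = u) ∧ ∀ h, X.ev h v = 0 ↔ p ∣ h

/-- `v` and `w` generate freely modulo `p` and `p'`. -/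
def Gen2 (X : Str F ε V) (v w : V) (p p' : F[X]) : Prop :=
  (∀ u, ∃ h k, X.ev h v + X.ev k w = u) ∧ ∀ h k, X.ev h v + X.ev k w = 0 ↔ p ∣ h ∧ p' ∣ k

namespace Gen2

variable {X : Str F ε V} {v w : V} {p p' : F[X]}

theorem swap (G : Gen2 X v w p p') : Gen2 X w v p' p :=
  ⟨fun u => by obtain ⟨h, k, e⟩ := G.1 u; exact ⟨k, h, by rw [add_comm, e]⟩,
    fun h k => by rw [add_comm, G.2]; exact and_comm⟩

theorem left (G : Gen2 X v w p p') (h : F[X]) : X.ev h v = 0 ↔ p ∣ h := by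
  simpa [X.ev_zero] using G.2 h 0

theorem right (G : Gen2 X v w p p') (h : F[X]) : X.ev h w = 0 ↔ p' ∣ h := G.swap.left h

end Gen2

/-- The linear map of polynomials. -/
noncomputable def evalAt (X : Str F ε V) (v : V) : F[X] →ₗ[F] V :=
  (LinearMap.applyₗ v).comp (aeval (X.T : Module.End F V)).toLinearMap

theorem evalAt_apply (X : Str F ε V) (v : V) (h : F[X]) : evalAt X v h = X.ev h v := rfl

/-- The map determined by the images of generators. -/
theorem exists_equiv1 {X : Str F ε V} {Y : Str F ε W} {v : V} {w : W} {p : F[X]}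
    (G : Gen1 X v p) (H : Gen1 Y w p) :
    ∃ e : V ≃ₗ[F] W, (∀ u, e (X.T u) = Y.T (e u)) ∧ ∀ h, e (X.ev h v) = Y.ev h w := by
  have s1 : Function.Surjective (evalAt X v) := G.1
  have s2 : Function.Surjective (evalAt Y w) := H.1
  have hk : LinearMap.ker (evalAt X v) = LinearMap.ker (evalAt Y w) :=
    Submodule.ext fun h => (G.2 h).trans (H.2 h).symm
  let e := ((evalAt X v).quotKerEquivOfSurjective s1).symm ≪≫ₗ Submodule.quotEquivOfEq _ _ hk ≪≫ₗ
    (evalAt Y w).quotKerEquivOfSurjective s2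
  have he : ∀ h, e (X.ev h v) = Y.ev h w := by
    intro h
    have h1 : ((evalAt X v).quotKerEquivOfSurjective s1).symm (X.ev h v) = Submodule.Quotient.mk h := by
      rw [LinearEquiv.symm_apply_eq]
      rfl
    simp only [e, LinearEquiv.trans_apply, h1, Submodule.quotEquivOfEq_mk]
    rfl
  refine ⟨e, fun u => ?_, he⟩
  obtain ⟨h, rfl⟩ := G.1 u
  rw [← X.ev_X, ← X.ev_mul, he, he, ← Y.ev_X, Y.ev_mul]

/-- The map determined by the images of two generators. -/
theorem exists_equiv2 {X : Str F ε V} {Y : Str F ε W} {v v' : V} {w w' : W} {p p' : F[X]}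
    (G : Gen2 X v v' p p') (H : Gen2 Y w w' p p') :
    ∃ e : V ≃ₗ[F] W, (∀ u, e (X.T u) = Y.T (e u)) ∧
      ∀ h k, e (X.ev h v + X.ev k v') = Y.ev h w + Y.ev k w' := by
  let f := (evalAt X v).coprod (evalAt X v')
  let g := (evalAt Y w).coprod (evalAt Y w')
  have s1 : Function.Surjective f := fun u => by obtain ⟨h, k, e⟩ := G.1 u; exact ⟨(h, k), e⟩
  have s2 : Function.Surjective g := fun u => by obtain ⟨h, k, e⟩ := H.1 u; exact ⟨(h, k), e⟩
  have hk : LinearMap.ker f = LinearMap.ker g :=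
    Submodule.ext fun h => (G.2 h.1 h.2).trans (H.2 h.1 h.2).symm
  let e := (f.quotKerEquivOfSurjective s1).symm ≪≫ₗ Submodule.quotEquivOfEq _ _ hk ≪≫ₗ
    g.quotKerEquivOfSurjective s2
  have he : ∀ h k, e (X.ev h v + X.ev k v') = Y.ev h w + Y.ev k w' := by
    intro h k
    have h1 : (f.quotKerEquivOfSurjective s1).symm (X.ev h v + X.ev k v') = Submodule.Quotient.mk (h, k) := by
      rw [LinearEquiv.symm_apply_eq]
      rfl
    simp only [e, LinearEquiv.trans_apply, h1, Submodule.quotEquivOfEq_mk]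
    rfl
  refine ⟨e, fun u => ?_, he⟩
  obtain ⟨h, k, rfl⟩ := G.1 u
  rw [map_add, ← X.ev_X, ← X.ev_X, ← X.ev_mul, ← X.ev_mul, he, he, map_add, ← Y.ev_X, ← Y.ev_X, Y.ev_mul,
    Y.ev_mul]

namespace Str

/-- The pullback along an intertwining bijection. -/
noncomputable def pull (Y : Str F ε W) (T : V ≃ₗ[F] V) (e : V ≃ₗ[F] W) (he : ∀ v, e (T v) = Y.T (e v)) :
    Str F ε V where
  T := T
  B := Y.B.comp (e : V →ₗ[F] W) (e : V →ₗ[F] W)
  sym u v := Y.sym _ _
  inv u v := by simp [he, Y.inv]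
  nd u h := e.injective ((Y.nd _ fun v => by simpa using h (e.symm v)).trans (map_zero e).symm)

/-- The pullback is isomorphic. -/
noncomputable def pullIso (Y : Str F ε W) (T : V ≃ₗ[F] V) (e : V ≃ₗ[F] W) (he : ∀ v, e (T v) = Y.T (e v)) :
    Iso (Y.pull T e he) Y where
  e := e
  map_T := he
  map_B _ _ := rfl

theorem ev_eq_of_T_eq {X Y : Str F ε V} (hT : Y.T = X.T) (h : F[X]) : Y.ev h = X.ev h := by
  rw [ev, ev, hT]

theorem ev_comm_of_commute {X : Str F ε V} {a : Module.End F V} (ha : ∀ u, a (X.T u) = X.T (a u))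
    (h : F[X]) (u : V) : a (X.ev h u) = X.ev h (a u) := by
  induction h using Polynomial.induction_on generalizing u with
  | C c => simp [X.ev_C]
  | add p q hp hq => simp [X.ev_add, hp, hq]
  | monomial n c ih =>
    rw [pow_succ, ← mul_assoc, X.ev_mul (C c * _) _ u, ih, X.ev_mul (C c * _) _ (a u), X.ev_X, X.ev_X, ha]

theorem adjPoly_right [Finite V] (X : Str F ε V) (h : F[X]) (u v : V) :
    X.B u (X.ev h v) = X.B (X.ev (X.adjPoly h) u) v := by
  rw [X.sym, X.adj', ← X.sym]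

theorem exists_op [FiniteDimensional F V] (X Y : Str F ε V) (hT : Y.T = X.T) :
    ∃ a : Module.End F V, (∀ u v, Y.B u v = X.B (a u) v) ∧ (∀ u, a (X.T u) = X.T (a u)) ∧
      (∀ u v, X.B (a u) v = X.B u (a v)) ∧ Function.Injective a := by
  have hinj : Function.Injective X.B := fun u u' h => X.ext_left fun v => by rw [h]
  let Φ := LinearMap.linearEquivOfInjective X.B hinj Subspace.dual_finrank_eq.symm
  let a : Module.End F V := Φ.symm.toLinearMap.comp Y.B
  have h1 : ∀ u v, Y.B u v = X.B (a u) v := fun u v => by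
    show Y.B u v = Φ (Φ.symm (Y.B u)) v
    rw [Φ.apply_symm_apply]
  refine ⟨a, h1, fun u => X.ext_left fun v => ?_, fun u v => ?_, fun u u' h => Y.ext_left fun v => ?_⟩
  · rw [← h1, ← hT]
    conv_lhs => rw [show v = Y.T (Y.T.symm v) from (Y.T.apply_symm_apply v).symm, Y.inv, h1, ← X.inv, hT,
      LinearEquiv.apply_symm_apply]
    rw [hT]
  · rw [← h1, Y.sym, h1, ← X.sym]
  · rw [h1, h1, h]

variable [Finite F]

/-- The square root trick: two forms whose ratio is unipotent are congruent. -/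
theorem congr_of [FiniteDimensional F V] (h2 : (2 : F) ≠ 0) (X Y : Str F ε V) (hT : Y.T = X.T)
    (M : Module.End F V) (hM : Function.Injective M) (hMT : ∀ u, M (X.T u) = X.T (M u))
    (a b : Module.End F V) (ha : ∀ u v, Y.B u v = X.B (a u) v) (hb : ∀ u v, X.B (M u) (M v) = X.B (b u) v)
    (f : F[X]) (e : ℕ) (hf : ∀ u, X.ev (f ^ e) u = 0) (hr : ∀ u, ∃ w, a u - b u = X.ev f w) :
    Nonempty (Iso Y X) := by
  let Me : V ≃ₗ[F] V := LinearEquiv.ofInjectiveEndo M hM
  let X' : Str F ε V := X.pull X.T Me hMT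
  have hX' : ∀ u v, X'.B u v = X.B (b u) v := hb
  obtain ⟨a', ha1, ha2, ha3, -⟩ := exists_op X' Y hT
  have hba : ∀ u, b (a' u) = a u := fun u => X.ext_left fun v => by rw [← hX', ← ha1, ha]
  have hbinj : Function.Injective b := fun u u' h => X'.ext_left fun v => by rw [hX', hX', h]
  have hbsurj : Function.Surjective b := LinearMap.injective_iff_surjective.1 hbinj
  have hbT : ∀ u, b (X.T u) = X.T (b u) := by
    obtain ⟨b', hb1, hb2, -, -⟩ := exists_op X X' rfl
    have : b' = b := LinearMap.ext fun u => X.ext_left fun v => by rw [← hb1, hX']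
    rw [← this]; exact hb2
  set d : Module.End F V := a' - 1 with hd
  have hd1 : ∀ u, ∃ w, d u = X.ev f w := by
    intro u
    obtain ⟨w, hw⟩ := hr u
    obtain ⟨z, rfl⟩ := hbsurj w
    refine ⟨z, hbinj ?_⟩
    rw [Str.ev_comm_of_commute hbT, ← hw, hd, LinearMap.sub_apply, Module.End.one_apply, map_sub, hba]
  have hdT : ∀ u, d (X.T u) = X.T (d u) := fun u => by
    rw [hd, LinearMap.sub_apply, LinearMap.sub_apply, Module.End.one_apply, Module.End.one_apply, map_sub]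
    exact congrArg (· - _) (ha2 u)
  have hdk : ∀ k u, ∃ w, (d ^ k) u = X.ev (f ^ k) w := by
    intro k
    induction k with
    | zero => intro u; exact ⟨u, by simp [Str.ev]⟩
    | succ k ih =>
      intro u
      obtain ⟨w, hw⟩ := ih u
      obtain ⟨w', hw'⟩ := hd1 w
      refine ⟨w', ?_⟩
      rw [pow_succ', Module.End.mul_apply, hw, Str.ev_comm_of_commute hdT, hw', ← X.ev_mul, ← pow_succ]
  -- the characteristic
  obtain ⟨p, hp⟩ := CharP.exists F
  haveI : Fact p.Prime := ⟨CharP.char_is_prime F p⟩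
  have hpodd : Odd p := by
    rcases (Fact.out : p.Prime).eq_two_or_odd' with rfl | h
    · exact absurd (by simpa using CharP.cast_eq_zero F 2) h2
    · exact h
  obtain ⟨j, hj⟩ : Odd (p ^ e) := hpodd.pow
  have hpe : e ≤ p ^ e := (Nat.lt_pow_self (Fact.out : p.Prime).one_lt).le
  have hone : a' ^ (p ^ e) = 1 := by
    have h1 : ((Polynomial.X + 1 : F[X]) ^ (p ^ e)) = Polynomial.X ^ (p ^ e) + 1 := by
      rw [add_pow_char_pow, one_pow]
    have h3 := congrArg (aeval d) h1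
    rw [map_pow, map_add, map_add, map_pow, aeval_X, map_one, hd, sub_add_cancel] at h3
    rw [h3, ← hd]
    have h0 : d ^ (p ^ e) = 0 := LinearMap.ext fun u => by
      obtain ⟨w, hw⟩ := hdk (p ^ e) u
      rw [hw, X.ev_eq_zero_of_dvd (pow_dvd_pow f hpe) (hf w), LinearMap.zero_apply]
    rw [h0, zero_add]
  let y := a' ^ (j + 1)
  have hyy : y * y = a' := by
    rw [← pow_add, show j + 1 + (j + 1) = p ^ e + 1 by omega, pow_succ, hone, one_mul]
  have hys : ∀ u v, X'.B (y u) v = X'.B u (y v) := by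
    suffices ∀ k u v, X'.B ((a' ^ k) u) v = X'.B u ((a' ^ k) v) from this _
    intro k
    induction k with
    | zero => intro u v; rfl
    | succ k ih =>
      intro u v
      rw [pow_succ, Module.End.mul_apply, ih, ha3, ← Module.End.mul_apply, ← pow_succ', pow_succ]
  have hyT : ∀ u, y (X.T u) = X.T (y u) := by
    suffices ∀ k u, (a' ^ k) (X.T u) = X.T ((a' ^ k) u) from this _
    intro k
    induction k with
    | zero => intro u; rfl
    | succ k ih =>
      intro u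
      have e1 : a' (X.T u) = X.T (a' u) := ha2 u
      rw [pow_succ, Module.End.mul_apply, Module.End.mul_apply, e1, ih]
  have hB : ∀ u v, Y.B u v = X.B (M (y u)) (M (y v)) := fun u v => by
    show _ = X'.B (y u) (y v)
    rw [← hys, ← Module.End.mul_apply, hyy, ha1]
  have hinj : Function.Injective (M.comp y) := fun u u' h => Y.ext_left fun v => by
    rw [hB, hB, show M (y u) = M (y u') from h]
  exact ⟨⟨LinearEquiv.ofInjectiveEndo (M.comp y) hinj, fun v => by
    show M (y (Y.T v)) = X.T (M (y v))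
    rw [hT, hyT, hMT], fun u v => (hB u v).symm⟩⟩

end Str

/-- A norm of a finite field with an involution. -/
theorem exists_norm {K : Type*} [Field K] [Finite K] (bar : K →+* K) (hinv : ∀ x, bar (bar x) = x)
    (hne : ∃ x, bar x ≠ x) (h2 : (2 : K) ≠ 0) {c : K} (hc : bar c = c) :
    ∃ x, x * bar x = c := by
  classical
  obtain ⟨x, hx⟩ := hne
  set δ := x - bar x with hδ
  have hδ0 : δ ≠ 0 := sub_ne_zero.2 (Ne.symm hx)
  have hbδ : bar δ = -δ := by rw [hδ, map_sub, hinv, neg_sub]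
  let K0 : Subfield K := bar.eqLocusField (RingHom.id K)
  have hm : ∀ y, y ∈ K0 ↔ bar y = y := fun y => Iff.rfl
  have : Fintype K0 := Fintype.ofFinite _
  have hd : δ * δ ∈ K0 := by rw [hm, map_mul, hbδ]; ring
  have hd0 : (⟨δ * δ, hd⟩ : K0) ≠ 0 := fun h => mul_ne_zero hδ0 hδ0 (congrArg Subtype.val h)
  have hodd : Fintype.card K0 % 2 = 1 := by
    refine FiniteField.odd_card_of_char_ne_two fun h => h2 ?_
    have : CharP K0 2 := ringChar.of_eq h
    have h' := congrArg Subtype.val (CharP.cast_eq_zero K0 2)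
    exact h'
  obtain ⟨a, b, hab⟩ := FiniteField.exists_root_sum_quadratic
    (f := Polynomial.X ^ 2 - C (⟨c, hc⟩ : K0)) (g := C (-(⟨δ * δ, hd⟩ : K0)) * Polynomial.X ^ 2)
    (Polynomial.degree_X_pow_sub_C (by norm_num) _) (Polynomial.degree_C_mul_X_pow 2 (neg_ne_zero.2 hd0))
    hodd
  simp only [eval_sub, eval_pow, eval_X, eval_C, eval_mul] at hab
  have hab' := congrArg Subtype.val hab
  push_cast at hab'
  refine ⟨(a : K) + b * δ, ?_⟩
  rw [map_add, map_mul, (hm _).1 a.2, (hm _).1 b.2, hbδ]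
  linear_combination hab'

variable [Finite F] [FiniteDimensional F V]

/-- Self-dual primes of degree at least two: one class. -/
theorem iso_self (h2 : (2 : F) ≠ 0) {X : Str F ε V} {Y : Str F ε W} {v : V} {w : W} {f : F[X]} {e : ℕ}
    (hf : Irreducible f) (hd : 2 ≤ f.natDegree) (hs : star' f = f) (h0 : f.coeff 0 ≠ 0) (he : e ≠ 0)
    (G : Gen1 X v (f ^ e)) (H : Gen1 Y w (f ^ e)) : Nonempty (Iso Y X) := by
  classical
  haveI : Finite V := Module.finite_of_finite F
  obtain ⟨φ, hφ, hφv⟩ := exists_equiv1 G H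
  suffices Nonempty (Iso (Y.pull X.T φ hφ) X) by
    obtain ⟨i⟩ := this
    exact ⟨(Y.pullIso X.T φ hφ).symm.trans i⟩
  obtain ⟨a, ha, haT, has, hai⟩ := X.exists_op (Y.pull X.T φ hφ) rfl
  obtain ⟨k, hk⟩ := G.1 (a v)
  have hak : ∀ u, a u = X.ev k u := fun u => by
    obtain ⟨g, rfl⟩ := G.1 u
    rw [Str.ev_comm_of_commute haT, ← hk, X.ev_comm]
  haveI := Fact.mk hf
  haveI : Module.Finite F (AdjoinRoot f) := (AdjoinRoot.powerBasis hf.ne_zero).finite
  haveI : Finite (AdjoinRoot f) := Module.finite_of_finite F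
  set m := X.invExp
  set r := AdjoinRoot.root f
  have hfe : f ∣ f ^ e := dvd_pow_self f he
  have hr1 : r ^ m * r = 1 := by
    have h1 : f ^ e ∣ Polynomial.X ^ (m + 1) - 1 :=
      (G.2 _).1 (by rw [X.ev_sub, X.ev_order, X.ev_one, sub_self])
    have h3 := AdjoinRoot.mk_eq_zero.2 (hfe.trans h1)
    rw [map_sub, map_pow, map_one, AdjoinRoot.mk_X, sub_eq_zero] at h3
    rw [← pow_succ, h3]
  have hr0 : r ≠ 0 := fun h => by rw [h, mul_zero] at hr1; exact zero_ne_one hr1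
  have hri : r ^ m = r⁻¹ := eq_inv_of_mul_eq_one_left hr1
  have hroot : aeval (r ^ m) f = 0 := by
    letI := invertibleOfNonzero (inv_ne_zero hr0)
    have h1 := eval₂_reverse_eq_zero_iff (algebraMap F (AdjoinRoot f)) r⁻¹ f
    rw [invOf_eq_inv, inv_inv] at h1
    rw [hri]
    refine h1.1 ?_
    have h3 : f.reverse = C (f.coeff 0) * f := by
      conv_rhs => arg 2; rw [← hs, star']
      rw [← mul_assoc, ← C_mul, mul_inv_cancel₀ h0, C_1, one_mul]
    rw [h3, eval₂_mul]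
    show _ * aeval r f = 0
    rw [AdjoinRoot.aeval_eq, AdjoinRoot.mk_self, mul_zero]
  let bar : AdjoinRoot f →ₐ[F] AdjoinRoot f := AdjoinRoot.liftAlgHom f (Algebra.ofId F _) (r ^ m) hroot
  have hbr : bar r = r ^ m := AdjoinRoot.liftAlgHom_root ..
  have hbar : ∀ g, bar (AdjoinRoot.mk f g) = AdjoinRoot.mk f (X.adjPoly g) := fun g => by
    rw [← AdjoinRoot.aeval_eq, ← AdjoinRoot.aeval_eq, Str.adjPoly, aeval_comp, ← aeval_algHom_apply, hbr,
      map_pow, aeval_X]
  have hinv : ∀ x, bar (bar x) = x := by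
    have : bar.comp bar = AlgHom.id F _ := AdjoinRoot.algHom_ext (by
      show bar (bar r) = r
      rw [hbr, map_pow, hbr, hri, inv_pow, hri, inv_inv])
    exact fun x => DFunLike.congr_fun this x
  have hne : ∃ x, bar x ≠ x := by
    refine ⟨r, fun h => ?_⟩
    rw [hbr] at h
    rw [h] at hr1
    rcases mul_self_eq_one_iff.1 hr1 with h1 | h1
    · have := AdjoinRoot.mk_eq_zero.1 (show AdjoinRoot.mk f (Polynomial.X - 1) = 0 by
        rw [map_sub, map_one, AdjoinRoot.mk_X]; exact sub_eq_zero.2 h1)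
      rw [← C_1] at this
      have := Polynomial.natDegree_le_of_dvd this (X_sub_C_ne_zero 1)
      rw [natDegree_X_sub_C] at this
      omega
    · have := AdjoinRoot.mk_eq_zero.1 (show AdjoinRoot.mk f (Polynomial.X + 1) = 0 by
        rw [map_add, map_one, AdjoinRoot.mk_X]; exact eq_neg_iff_add_eq_zero.1 h1)
      rw [← C_1] at this
      have := Polynomial.natDegree_le_of_dvd this (X_add_C_ne_zero 1)
      rw [natDegree_X_add_C] at this
      omega
  have hk2 : f ^ e ∣ X.adjPoly k - k := by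
    refine (G.2 _).1 ?_
    rw [X.ev_sub, sub_eq_zero]
    refine X.ext_left fun u => ?_
    rw [← X.adjPoly_right, ← hak, ← has, ← hak]
  have hfix : bar (AdjoinRoot.mk f k) = AdjoinRoot.mk f k := by
    rw [hbar, ← sub_eq_zero, ← map_sub]
    exact AdjoinRoot.mk_eq_zero.2 (hfe.trans hk2)
  have h2K : (2 : AdjoinRoot f) ≠ 0 := fun h => h2 ((algebraMap F (AdjoinRoot f)).injective (by
    rw [map_zero, map_ofNat]; exact h))
  obtain ⟨x, hx⟩ := exists_norm bar.toRingHom hinv hne h2K hfix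
  obtain ⟨g, rfl⟩ := AdjoinRoot.mk_surjective x
  have hfk : ¬ f ∣ k := by
    intro h
    have : X.ev (f ^ (e - 1)) v = 0 := by
      refine hai ?_
      rw [map_zero, hak, ← X.ev_mul]
      refine (G.2 _).2 ?_
      obtain ⟨c, rfl⟩ := h
      exact ⟨c, by rw [mul_right_comm, ← pow_succ', Nat.sub_add_cancel (Nat.one_le_iff_ne_zero.2 he)]⟩
    have := Polynomial.natDegree_le_of_dvd ((G.2 _).1 this) (pow_ne_zero _ hf.ne_zero)
    rw [natDegree_pow, natDegree_pow] at this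
    have := Nat.le_of_mul_le_mul_right this (by omega)
    omega
  have hfg : ¬ f ∣ g := fun h => by
    rw [AdjoinRoot.mk_eq_zero.2 h, zero_mul] at hx
    exact hfk (AdjoinRoot.mk_eq_zero.1 hx.symm)
  refine X.congr_of h2 _ rfl (X.ev g) ?_ (fun u => by rw [← X.ev_X, X.ev_comm, X.ev_X]) a
    (X.ev (g * X.adjPoly g)) ha (fun u u' => ?_) f e (fun u => ?_) (fun u => ?_)
  · rw [← LinearMap.ker_eq_bot, eq_bot_iff]
    intro u hu
    obtain ⟨h, rfl⟩ := G.1 u
    rw [LinearMap.mem_ker, ← X.ev_mul, G.2] at hu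
    exact (G.2 _).2 (((hf.coprime_iff_not_dvd.2 hfg).pow_left).dvd_of_dvd_mul_left hu)
  · rw [X.adjPoly_right, mul_comm g, X.ev_mul]
  · obtain ⟨h, rfl⟩ := G.1 u
    rw [← X.ev_mul]
    exact (G.2 _).2 (dvd_mul_right _ _)
  · obtain ⟨c, hc⟩ := AdjoinRoot.mk_eq_zero.1 (show AdjoinRoot.mk f (k - g * X.adjPoly g) = 0 by
      rw [map_sub, map_mul, ← hbar, sub_eq_zero]; exact hx.symm)
    exact ⟨X.ev c u, by rw [hak, ← X.ev_sub, hc, X.ev_mul]⟩

omit [FiniteDimensional F V] in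
theorem ev_mul_linear {X : Str F ε V} {c : F} {s h : F[X]}
    (hs : ∀ u, X.ev ((Polynomial.X - C c) * s) u = 0) (u : V) :
    X.ev s (X.ev h u) = h.eval c • X.ev s u := by
  obtain ⟨d, hd⟩ : Polynomial.X - C c ∣ h - C (h.eval c) := X_sub_C_dvd_sub_C_eval
  have h1 : X.ev (h * s) u = X.ev (C (h.eval c) * s) u := by
    rw [← sub_eq_zero, ← X.ev_sub, ← sub_mul, hd, mul_right_comm, mul_comm _ d, X.ev_mul, hs, map_zero]
  rw [X.ev_comm, ← X.ev_mul, h1, X.ev_mul, X.ev_C]

/-- The primes `X ∓ 1`: the class is given by a square class. -/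
theorem iso_sgn (h2 : (2 : F) ≠ 0) {X : Str F ε V} {Y : Str F ε W} {v : V} {w : W} {c : F} {e : ℕ}
    (he : e ≠ 0) (G : Gen1 X v ((Polynomial.X - C c) ^ e)) (H : Gen1 Y w ((Polynomial.X - C c) ^ e))
    (hX : X.B (X.ev ((Polynomial.X - C c) ^ (e - 1)) v) v ≠ 0)
    (hY : Y.B (Y.ev ((Polynomial.X - C c) ^ (e - 1)) w) w ≠ 0)
    (hq : IsSquare (Y.B (Y.ev ((Polynomial.X - C c) ^ (e - 1)) w) w) ↔
      IsSquare (X.B (X.ev ((Polynomial.X - C c) ^ (e - 1)) v) v)) : Nonempty (Iso Y X) := by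
  classical
  haveI : Fintype F := Fintype.ofFinite F
  haveI : Finite V := Module.finite_of_finite F
  obtain ⟨φ, hφ, hφv⟩ := exists_equiv1 G H
  set Y' := Y.pull X.T φ hφ
  suffices Nonempty (Iso Y' X) by
    obtain ⟨i⟩ := this
    exact ⟨(Y.pullIso X.T φ hφ).symm.trans i⟩
  set f : F[X] := Polynomial.X - C c
  set s := f ^ (e - 1)
  have hfs : f * s = f ^ e := by rw [← pow_succ', Nat.sub_add_cancel (Nat.one_le_iff_ne_zero.2 he)]
  obtain ⟨a, ha, haT, has, hai⟩ := X.exists_op Y' rfl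
  obtain ⟨k, hk⟩ := G.1 (a v)
  have hkill : ∀ u, X.ev (f ^ e) u = 0 := fun u => by
    obtain ⟨h, rfl⟩ := G.1 u
    rw [← X.ev_mul]
    exact (G.2 _).2 (dvd_mul_right _ _)
  set β := X.B (X.ev s v) v
  have hY' : Y'.B (X.ev s v) v = Y.B (Y.ev s w) w := by
    show Y.B (φ (X.ev s v)) (φ v) = _
    have h1 := hφv 1
    rw [X.ev_one, Y.ev_one] at h1
    rw [hφv, h1]
  rw [← hY', ha, Str.ev_comm_of_commute haT, ← hk, ev_mul_linear (fun u => by rw [hfs]; exact hkill u),
    map_smul, LinearMap.smul_apply, smul_eq_mul] at hY hq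
  set κ := k.eval c
  have hκ : IsSquare κ := by
    have hκ0 : κ ≠ 0 := left_ne_zero_of_mul hY
    rw [← quadraticChar_one_iff_isSquare hY, map_mul, ← quadraticChar_one_iff_isSquare hX] at hq
    rw [← quadraticChar_one_iff_isSquare hκ0]
    rw [show X.B (X.ev s v) v = β from rfl] at hq
    rcases quadraticChar_dichotomy hX with h | h <;> rcases quadraticChar_dichotomy hκ0 with h' | h' <;>
      simp_all
  obtain ⟨γ, hγ⟩ := hκ
  have hγ0 : γ ≠ 0 := by rintro rfl; rw [mul_zero] at hγ; exact left_ne_zero_of_mul hY hγ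
  refine X.congr_of h2 _ rfl (γ • 1) (fun u u' h => ?_) (fun u => ?_) a (κ • 1) ha (fun u u' => ?_) f e
    hkill (fun u => ?_)
  · exact smul_right_injective V hγ0 h
  · simp
  · simp [hγ]; ring
  · obtain ⟨h, rfl⟩ := G.1 u
    obtain ⟨d, hd⟩ : f ∣ k - C κ := X_sub_C_dvd_sub_C_eval
    refine ⟨X.ev (h * d) v, ?_⟩
    rw [Str.ev_comm_of_commute haT, ← hk, ← X.ev_mul, ← X.ev_mul, LinearMap.smul_apply, Module.End.one_apply,
      ← X.ev_C, ← X.ev_mul, ← X.ev_sub]
    congr 2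
    linear_combination h * hd

/-- A pair of mutually dual primes: one class. -/
theorem iso_pair {X : Str F ε V} {Y : Str F ε W} {v v' : V} {w w' : W} {f g : F[X]} {e : ℕ}
    (hfg : IsCoprime f g) (G : Gen2 X v v' (f ^ e) (g ^ e)) (H : Gen2 Y w w' (f ^ e) (g ^ e))
    (hX : ∀ h k, X.B (X.ev h v) (X.ev k v) = 0) (hX' : ∀ h k, X.B (X.ev h v') (X.ev k v') = 0)
    (hY : ∀ h k, Y.B (Y.ev h w) (Y.ev k w) = 0) (hY' : ∀ h k, Y.B (Y.ev h w') (Y.ev k w') = 0) :
    Nonempty (Iso Y X) := by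
  obtain ⟨φ, hφ, hφv⟩ := exists_equiv2 G H
  set Y' := Y.pull X.T φ hφ
  suffices Nonempty (Iso Y' X) by
    obtain ⟨i⟩ := this
    exact ⟨(Y.pullIso X.T φ hφ).symm.trans i⟩
  obtain ⟨a, ha, haT, -, -⟩ := X.exists_op Y' rfl
  have hcop : IsCoprime (f ^ e) (g ^ e) := hfg.pow
  have hav : ∃ h, a v = X.ev h v := by
    obtain ⟨h, k, e1⟩ := G.1 (a v)
    refine ⟨h, ?_⟩
    have h1 : X.ev (f ^ e * h) v + X.ev (f ^ e * k) v' = 0 := by
      rw [X.ev_mul, X.ev_mul, ← map_add, e1, ← Str.ev_comm_of_commute haT, (G.left _).2 dvd_rfl, map_zero]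
    have h3 : X.ev k v' = 0 := (G.right _).2 (hcop.symm.dvd_of_dvd_mul_left ((G.2 _ _).1 h1).2)
    rw [← e1, h3, add_zero]
  obtain ⟨h, hh⟩ := hav
  obtain ⟨α, β, hab⟩ := hcop
  set m := h * (β * g ^ e) + α * f ^ e
  have hmv : X.ev m v = a v := by
    rw [hh, ← sub_eq_zero, ← X.ev_sub, G.left]
    exact ⟨α * (1 - h), by rw [show m = h * (β * g ^ e) + α * f ^ e from rfl]; linear_combination h * hab⟩
  have hmv' : X.ev m v' = v' := by
    rw [← sub_eq_zero]
    conv_lhs => arg 2; rw [← X.ev_one v']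
    rw [← X.ev_sub, G.right]
    exact ⟨β * (h - 1), by rw [show m = h * (β * g ^ e) + α * f ^ e from rfl]; linear_combination hab⟩
  have hB : ∀ u u', X.B (X.ev m u) (X.ev m u') = Y'.B u u' := by
    intro u u'
    obtain ⟨p, q, rfl⟩ := G.1 u
    obtain ⟨p', q', rfl⟩ := G.1 u'
    have e1 : ∀ p k, X.B (X.ev m (X.ev p v)) (X.ev m (X.ev k v')) = Y'.B (X.ev p v) (X.ev k v') := fun p k => by
      rw [X.ev_comm m, X.ev_comm m, hmv, hmv', ha, Str.ev_comm_of_commute haT]
    have e2 : ∀ p k, X.B (X.ev m (X.ev k v')) (X.ev m (X.ev p v)) = Y'.B (X.ev k v') (X.ev p v) := fun p k => by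
      rw [X.sym, e1, ← Y'.sym]
    have e3 : ∀ p k, X.B (X.ev m (X.ev p v)) (X.ev m (X.ev k v)) = Y'.B (X.ev p v) (X.ev k v) := fun p k => by
      rw [← X.ev_mul, ← X.ev_mul, hX]
      have h1 := hφv p 0
      have h3 := hφv k 0
      simp only [X.ev_zero, Y.ev_zero, add_zero] at h1 h3
      show 0 = Y.B (φ (X.ev p v)) (φ (X.ev k v))
      rw [h1, h3, hY]
    have e4 : ∀ p k, X.B (X.ev m (X.ev p v')) (X.ev m (X.ev k v')) = Y'.B (X.ev p v') (X.ev k v') := fun p k => by
      rw [← X.ev_mul, ← X.ev_mul, hX']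
      have h1 := hφv 0 p
      have h3 := hφv 0 k
      simp only [X.ev_zero, Y.ev_zero, zero_add] at h1 h3
      show 0 = Y.B (φ (X.ev p v')) (φ (X.ev k v'))
      rw [h1, h3, hY']
    simp only [map_add, LinearMap.add_apply, e1, e2, e3, e4]
  have hinj : Function.Injective (X.ev m) := fun u u' h => Y'.ext_left fun z => by rw [← hB, ← hB, h]
  exact ⟨⟨LinearEquiv.ofInjectiveEndo (X.ev m) hinj, fun z => by
    show X.ev m (X.T z) = X.T (X.ev m z)
    rw [← X.ev_X, X.ev_comm, X.ev_X], hB⟩⟩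

/-- Two generators at `X ∓ 1` with alternating socle form: one class. -/
theorem iso_hyp (h2 : (2 : F) ≠ 0) {X : Str F ε V} {Y : Str F ε W} {v v' : V} {w w' : W} {c : F} {e : ℕ}
    (he : e ≠ 0) (G : Gen2 X v v' ((Polynomial.X - C c) ^ e) ((Polynomial.X - C c) ^ e))
    (H : Gen2 Y w w' ((Polynomial.X - C c) ^ e) ((Polynomial.X - C c) ^ e))
    (hX : ∀ u, X.B (X.ev ((Polynomial.X - C c) ^ (e - 1)) u) u = 0)
    (hY : ∀ u, Y.B (Y.ev ((Polynomial.X - C c) ^ (e - 1)) u) u = 0)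
    (hβ : X.B (X.ev ((Polynomial.X - C c) ^ (e - 1)) v) v' ≠ 0)
    (hβ' : Y.B (Y.ev ((Polynomial.X - C c) ^ (e - 1)) w) w' ≠ 0) : Nonempty (Iso Y X) := by
  classical
  obtain ⟨φ, hφ, hφv⟩ := exists_equiv2 G H
  set Y' := Y.pull X.T φ hφ
  suffices Nonempty (Iso Y' X) by
    obtain ⟨i⟩ := this
    exact ⟨(Y.pullIso X.T φ hφ).symm.trans i⟩
  set f : F[X] := Polynomial.X - C c
  set s := f ^ (e - 1)
  set β := X.B (X.ev s v) v'
  have hfs : f * s = f ^ e := by rw [← pow_succ', Nat.sub_add_cancel (Nat.one_le_iff_ne_zero.2 he)]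
  have hkill : ∀ u, X.ev (f ^ e) u = 0 := fun u => by
    obtain ⟨h, k, rfl⟩ := G.1 u
    rw [map_add, ← X.ev_mul, ← X.ev_mul]
    exact (G.2 _ _).2 ⟨dvd_mul_right _ _, dvd_mul_right _ _⟩
  have hsv : X.B (X.ev s v') v = -β := by
    have := hX (v + v')
    simp only [map_add, LinearMap.add_apply, hX, zero_add, add_zero] at this
    exact eq_neg_of_add_eq_zero_right ((add_comm _ _).trans this)
  -- the operator of a form is scalar modulo `f`
  have key : ∀ (Z : Str F ε V), Z.T = X.T → (∀ u, Z.B (X.ev s u) u = 0) → ∀ a : Module.End F V,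
      (∀ u u', Z.B u u' = X.B (a u) u') → (∀ u, a (X.T u) = X.T (a u)) →
      ∀ u, ∃ z, a u - (Z.B (X.ev s v) v' / β) • u = X.ev f z := by
    intro Z hZT hZ a ha haT u
    obtain ⟨p, q, hpq⟩ := G.1 (a v)
    obtain ⟨r, t, hrt⟩ := G.1 (a v')
    have hlin : ∀ (h : F[X]) u, X.ev s (X.ev h u) = h.eval c • X.ev s u := fun h u =>
      ev_mul_linear (fun u => by rw [hfs]; exact hkill u) u
    have e1 : Z.B (X.ev s v) v = q.eval c * -β := by
      rw [ha, Str.ev_comm_of_commute haT, ← hpq, map_add, hlin, hlin, map_add, map_smul, map_smul]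
      simp [hX, hsv]
    have e2 : Z.B (X.ev s v') v' = r.eval c * β := by
      rw [ha, Str.ev_comm_of_commute haT, ← hrt, map_add, hlin, hlin, map_add, map_smul, map_smul]
      simp [hX, β]
    have e3 : Z.B (X.ev s v) v' = p.eval c * β := by
      rw [ha, Str.ev_comm_of_commute haT, ← hpq, map_add, hlin, hlin, map_add, map_smul, map_smul]
      simp [hX, β]
    have e4 : Z.B (X.ev s v') v = t.eval c * -β := by
      rw [ha, Str.ev_comm_of_commute haT, ← hrt, map_add, hlin, hlin, map_add, map_smul, map_smul]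
      simp [hX, hsv]
    have e5 : Z.B (X.ev s v) v' + Z.B (X.ev s v') v = 0 := by
      have := hZ (v + v')
      simp only [map_add, LinearMap.add_apply, hZ, zero_add, add_zero] at this
      rw [add_comm]; exact this
    have hq0 : q.eval c = 0 := by
      rw [hZ] at e1
      exact (mul_eq_zero.1 e1.symm).resolve_right (neg_ne_zero.2 hβ)
    have hr0 : r.eval c = 0 := by
      rw [hZ] at e2
      exact (mul_eq_zero.1 e2.symm).resolve_right hβ
    set κ := Z.B (X.ev s v) v' / β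
    have hp : p.eval c = κ := by rw [eq_div_iff hβ, e3]
    have ht : t.eval c = κ := by
      rw [e3, e4] at e5
      have : (p.eval c - t.eval c) * β = 0 := by linear_combination e5
      rw [← hp]
      exact (sub_eq_zero.1 ((mul_eq_zero.1 this).resolve_right hβ)).symm
    obtain ⟨p₁, hp₁⟩ : f ∣ p - C κ := hp ▸ X_sub_C_dvd_sub_C_eval
    obtain ⟨t₁, ht₁⟩ : f ∣ t - C κ := ht ▸ X_sub_C_dvd_sub_C_eval
    obtain ⟨q₁, hq₁⟩ : f ∣ q := dvd_iff_isRoot.2 hq0
    obtain ⟨r₁, hr₁⟩ : f ∣ r := dvd_iff_isRoot.2 hr0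
    obtain ⟨A, B, rfl⟩ := G.1 u
    refine ⟨X.ev (A * p₁ + B * r₁) v + X.ev (A * q₁ + B * t₁) v', ?_⟩
    rw [map_add a, Str.ev_comm_of_commute haT, Str.ev_comm_of_commute haT, ← hpq, ← hrt, map_add, map_add,
      map_add, smul_add, ← X.ev_C κ, ← X.ev_C κ, ← X.ev_mul, ← X.ev_mul, ← X.ev_mul, ← X.ev_mul, ← X.ev_mul,
      ← X.ev_mul, ← X.ev_mul, ← X.ev_mul, mul_add f, mul_add f, X.ev_add, X.ev_add]
    have ep : f * (A * p₁) = A * p - C κ * A := by linear_combination -A * hp₁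
    have et : f * (B * t₁) = B * t - C κ * B := by linear_combination -B * ht₁
    have eq : f * (A * q₁) = A * q := by linear_combination -A * hq₁
    have er : f * (B * r₁) = B * r := by linear_combination -B * hr₁
    rw [ep, et, eq, er, X.ev_sub, X.ev_sub]
    abel
  have hY'alt : ∀ u, Y'.B (X.ev s u) u = 0 := fun u => by
    have h1 : φ (X.ev s u) = Y.ev s (φ u) := by
      obtain ⟨h, k, rfl⟩ := G.1 u
      rw [map_add, ← X.ev_mul, ← X.ev_mul, hφv, hφv, map_add, Y.ev_mul, Y.ev_mul]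
    show Y.B (φ (X.ev s u)) (φ u) = 0
    rw [h1, hY]
  obtain ⟨a, ha, haT, -, hai⟩ := X.exists_op Y' rfl
  set κ := Y'.B (X.ev s v) v' / β
  have hκ0 : κ ≠ 0 := by
    refine div_ne_zero ?_ hβ
    show Y.B (φ (X.ev s v)) (φ v') ≠ 0
    have h1 := hφv s 0
    have h3 := hφv 0 1
    simp only [X.ev_zero, Y.ev_zero, add_zero, zero_add, X.ev_one, Y.ev_one] at h1 h3
    rw [h1, h3]; exact hβ'
  -- rescale one generator
  have G' : Gen2 X (κ • v) v' (f ^ e) (f ^ e) := by
    have hu : IsUnit (C κ : F[X]) := isUnit_C.2 (isUnit_iff_ne_zero.2 hκ0)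
    refine ⟨fun u => ?_, fun h k => ?_⟩
    · obtain ⟨h, k, rfl⟩ := G.1 u
      exact ⟨h * C κ⁻¹, k, by rw [X.ev_mul, X.ev_C, inv_smul_smul₀ hκ0]⟩
    · rw [← X.ev_C κ, ← X.ev_mul, G.2, hu.dvd_mul_right]
  obtain ⟨M, hM, hMv⟩ := exists_equiv2 G G'
  set X' := X.pull X.T M hM
  obtain ⟨b, hb, hbT, -, -⟩ := X.exists_op X' rfl
  have hMev : ∀ (h : F[X]) u, M (X.ev h u) = X.ev h (M u) := fun h u =>
    Str.ev_comm_of_commute (a := (M : Module.End F V)) hM h u
  have hX'alt : ∀ u, X'.B (X.ev s u) u = 0 := fun u => by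
    show X.B (M (X.ev s u)) (M u) = 0
    rw [hMev, hX]
  have hX'β : X'.B (X.ev s v) v' = κ * β := by
    show X.B (M (X.ev s v)) (M v') = _
    have h1 := hMv 1 0
    have h3 := hMv 0 1
    simp only [X.ev_zero, X.ev_one, add_zero, zero_add] at h1 h3
    rw [hMev, h1, h3, map_smul, map_smul, LinearMap.smul_apply, smul_eq_mul]
  refine X.congr_of h2 Y' rfl (M : Module.End F V) M.injective hM a b ha hb f e hkill (fun u => ?_)
  obtain ⟨z, hz⟩ := key Y' rfl hY'alt a ha haT u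
  obtain ⟨z', hz'⟩ := key X' rfl hX'alt b hb hbT u
  rw [hX'β, mul_div_assoc, div_self hβ, mul_one] at hz'
  exact ⟨z - z', by rw [map_sub, ← hz, ← hz']; abel⟩

end Cfsg.Agent.H7Class
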