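import Cfsg.Agent.H7Class.Bound
import Cfsg.Agent.H7Class.Flip

/-!
# Upper bounds for the class numbers of isometry groups
-/

set_option autoImplicit false

namespace Cfsg.Agent.H7Class

open Polynomial

universe v

variable {F : Type*} [Field F] [Fintype F] {ε : F} {n : ℕ} {V : Type v} [AddCommGroup V] [Module F V]
  [FiniteDimensional F V] {G : Type*} [Group G]

omit [Fintype F] [FiniteDimensional F V] in
theorem normal_of_decomp [FiniteDimensional F V] {X : Str F ε V} {L : List (Key F)} (hL : Decomp L X)
    (hdim : Module.finrank F V = n) (hgood : ∀ k : Key F, k.flag = true → ¬ List.Sublist [k, k] L) :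
    Normal ε n (L : Multiset (Key F)) where
  valid k hk := valid_decomp L X hL k (Multiset.mem_coe.1 hk)
  once k hk M' h := by
    classical
    refine hgood k hk (List.replicate_sublist_iff.2 ?_ : List.Sublist (List.replicate 2 k) L)
    have h1 := congrArg (Multiset.count k) h
    rw [Multiset.coe_count, Multiset.count_cons_self, Multiset.count_cons_self] at h1
    omega
  weight := by
    rw [Multiset.map_coe, Multiset.sum_coe, ← finrank_decomp L X hL, hdim]

/-- Classes are given by normal multisets of keys. -/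
theorem exists_key_map (h2 : (2 : F) ≠ 0) (hε : ε = 1 ∨ ε = -1) (str : G → Str F ε V)
    (hconj : ∀ g h, Iso (str g) (str h) → IsConj g h) (hdim : Module.finrank F V = n) :
    ∃ Φ : ConjClasses G → Multiset (Key F), Function.Injective Φ ∧
      ∀ c, Normal ε n (Φ c) ∧ ∃ g L, Decomp L (str g) ∧ (L : Multiset (Key F)) = Φ c := by
  choose L hL hgood using fun g => exists_normal h2 hε (str g)
  choose r hr using @ConjClasses.exists_rep G _
  refine ⟨fun c => (L (r c) : Multiset (Key F)), fun c c' h => ?_, fun c =>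
    ⟨normal_of_decomp (hL _) hdim (hgood _), r c, L (r c), hL _, rfl⟩⟩
  have h1 := decomp_perm (Multiset.coe_eq_coe.1 h) _ (hL (r c))
  obtain ⟨i⟩ := decomp_unique h2 _ _ _ h1 (hL (r c'))
  rw [← hr c, ← hr c', ConjClasses.mk_eq_mk_iff_isConj]
  exact hconj _ _ i

/-- The alternating case. -/
theorem classes_le_alt (h2 : (2 : F) ≠ 0) (hq : 3 ≤ Fintype.card F) (hn : 1 ≤ n) [Finite G]
    (str : G → Str F (-1 : F) V) (hconj : ∀ g h, Iso (str g) (str h) → IsConj g h)
    (hdim : Module.finrank F V = 2 * n) :
    (Nat.card (ConjClasses G) : ℚ) ≤ (Fintype.card F : ℚ) ^ n * (54 / 5) := by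
  classical
  haveI : Fintype (ConjClasses G) := Fintype.ofFinite _
  obtain ⟨Φ, hΦ, hN⟩ := exists_key_map h2 (Or.inr rfl) str hconj hdim
  have h := card_le_sp h2 hq hn (Finset.univ.image Φ) fun M hM => by
    obtain ⟨c, -, rfl⟩ := Finset.mem_image.1 hM
    exact (hN c).1
  rwa [Finset.card_image_of_injective _ hΦ, Finset.card_univ, ← Nat.card_eq_fintype_card] at h

/-! ### The flip -/

/-- The key of the opposite class. -/
def Key.flip (k : Key F) : Key F := ⟨k.g, k.e, !k.flag⟩

omit [Fintype F] in
theorem Key.flip_flip (k : Key F) : k.flip.flip = k := by simp [Key.flip]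

/-- The polynomial and the exponent. -/
def proj (M : Multiset (Key F)) : Multiset (F[X] × ℕ) := M.map fun k => (k.g, k.e)

/-- The distinguished slot. -/
def HasSlot (ε : F) (M : Multiset (F[X] × ℕ)) : Prop := ∃ p ∈ M, Key.IsSlot ε ⟨p.1, p.2, false⟩

open scoped Classical in
/-- The key chosen for flipping. -/
noncomputable def pick (ε : F) (M : Multiset (Key F)) : Key F :=
  if h : HasSlot ε (proj M) then
    (if (⟨h.choose.1, h.choose.2, true⟩ : Key F) ∈ M then ⟨h.choose.1, h.choose.2, true⟩
      else ⟨h.choose.1, h.choose.2, false⟩)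
  else ⟨0, 0, false⟩

open scoped Classical in
/-- Changing the class of the chosen slot. -/
noncomputable def flipM (ε : F) (M : Multiset (Key F)) : Multiset (Key F) :=
  (pick ε M).flip ::ₘ M.erase (pick ε M)

omit [Fintype F] in
theorem pick_spec {M : Multiset (Key F)} (h : HasSlot ε (proj M)) : pick ε M ∈ M ∧ (pick ε M).IsSlot ε := by
  classical
  obtain ⟨hp, hs⟩ := h.choose_spec
  rw [pick, dif_pos h]
  split_ifs with ht
  · exact ⟨ht, hs⟩
  · refine ⟨?_, hs⟩
    obtain ⟨⟨g, e, b⟩, hk, he⟩ := Multiset.mem_map.1 hp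
    rw [← he] at ht ⊢
    cases b
    · exact hk
    · exact absurd hk ht

omit [Fintype F] in
theorem flipM_eq {M : Multiset (Key F)} (h : HasSlot ε (proj M)) :
    ∃ R, M = pick ε M ::ₘ R ∧ flipM ε M = (pick ε M).flip ::ₘ R := by
  classical
  exact ⟨M.erase (pick ε M), (Multiset.cons_erase (pick_spec h).1).symm, rfl⟩

omit [Fintype F] in
theorem proj_flipM {M : Multiset (Key F)} (h : HasSlot ε (proj M)) : proj (flipM ε M) = proj M := by
  obtain ⟨R, h1, h3⟩ := flipM_eq h
  rw [h3]
  conv_rhs => rw [h1]
  simp [proj, Key.flip]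

omit [Fintype F] in
theorem normal_flipM {M : Multiset (Key F)} (hM : Normal ε n M) (h : HasSlot ε (proj M)) :
    Normal ε n (flipM ε M) := by
  classical
  obtain ⟨R, h1, h3⟩ := flipM_eq h
  refine ⟨fun k hk => ?_, fun k hk M' he => ?_, ?_⟩
  · rw [h3, Multiset.mem_cons] at hk
    rcases hk with rfl | hk
    · obtain ⟨he, c, hg, hc, hs⟩ := (pick_spec h).2
      exact ⟨he, Or.inr (Or.inr (Or.inr ⟨c, hg, hc, hs⟩))⟩
    · exact hM.valid k (h1 ▸ Multiset.mem_cons_of_mem hk)
  · have hc := hM.count_flag hk
    have he' := congrArg (Multiset.count k) he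
    rw [h3, Multiset.count_cons, Multiset.count_cons_self, Multiset.count_cons_self] at he'
    rw [h1, Multiset.count_cons] at hc
    by_cases hkp : k = (pick ε M).flip
    · -- the chosen key has the class `false`
      have hf : (pick ε M).flag = false := by
        have := hk; rw [hkp] at this
        simpa [Key.flip] using this
      have hn : k ∉ M := by
        intro hmem
        have hT : (⟨(pick ε M).g, (pick ε M).e, true⟩ : Key F) ∈ M := by
          rw [hkp, Key.flip, hf] at hmem; exact hmem
        rw [pick, dif_pos h] at hT hf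
        split_ifs at hT hf with ht
        exact ht hT
      rw [h1, Multiset.mem_cons, not_or] at hn
      rw [if_pos hkp, Multiset.count_eq_zero.2 hn.2] at he'
      omega
    · rw [if_neg hkp] at he'
      omega
  · rw [← hM.weight]
    have e : ∀ M : Multiset (Key F), (M.map fun k => k.e * k.g.natDegree) =
        (proj M).map fun p => p.2 * p.1.natDegree := fun M => by rw [proj, Multiset.map_map]; rfl
    rw [e, e, proj_flipM h]

omit [Fintype F] in
theorem flipM_flipM {M : Multiset (Key F)} (hM : Normal ε n M) (h : HasSlot ε (proj M)) :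
    flipM ε (flipM ε M) = M := by
  classical
  have h' : HasSlot ε (proj (flipM ε M)) := by rw [proj_flipM h]; exact h
  obtain ⟨R, h1, h3⟩ := flipM_eq h
  have hp : pick ε (flipM ε M) = (pick ε M).flip := by
    have hch : h'.choose = h.choose := by
      congr 1
      rw [proj_flipM h]
    conv_lhs => rw [pick, dif_pos h', hch]
    conv_rhs => rw [pick, dif_pos h]
    rw [h3]
    by_cases ht : (⟨h.choose.1, h.choose.2, true⟩ : Key F) ∈ M
    · have hpick : pick ε M = ⟨h.choose.1, h.choose.2, true⟩ := by rw [pick, dif_pos h, if_pos ht]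
      rw [if_pos ht, if_neg]
      · rfl
      · rw [hpick, Multiset.mem_cons]
        rintro (h4 | h4)
        · exact absurd (congrArg Key.flag h4) (by simp [Key.flip])
        · have := hM.count_flag (k := ⟨h.choose.1, h.choose.2, true⟩) rfl
          generalize hg : (⟨h.choose.1, h.choose.2, true⟩ : Key F) = kT at this h4 hpick
          rw [h1, hpick, Multiset.count_cons_self] at this
          have := Multiset.count_pos.2 h4
          omega
    · have hpick : pick ε M = ⟨h.choose.1, h.choose.2, false⟩ := by rw [pick, dif_pos h, if_neg ht]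
      rw [if_neg ht, if_pos]
      · rfl
      · rw [hpick]
        exact Multiset.mem_cons_self _ _
  rw [flipM, hp, Key.flip_flip, h3, Multiset.erase_cons_head, ← h1]

/-- The symmetric case. -/
theorem classes_le_sym (h2 : (2 : F) ≠ 0) (hq : 3 ≤ Fintype.card F) (hn : 1 ≤ n) [Finite G]
    (str : G → Str F (1 : F) V) (hB : ∀ g h, (str g).B = (str h).B)
    (hconj : ∀ g h, Iso (str g) (str h) → IsConj g h)
    (hdim : Module.finrank F V = 2 * n) :
    (Nat.card (ConjClasses G) : ℚ) ≤ (Fintype.card F : ℚ) ^ n * (1821 / 200) := by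
  classical
  haveI : Fintype (ConjClasses G) := Fintype.ofFinite _
  obtain ⟨Φ, hΦ, hN⟩ := exists_key_map h2 (Or.inl rfl) str hconj hdim
  set A := Finset.univ.image Φ with hA
  have hAN : ∀ M ∈ A, Normal (1 : F) (2 * n) M ∧ ∃ g L, Decomp L (str g) ∧ (L : Multiset (Key F)) = M := fun M hM => by
    obtain ⟨c, -, rfl⟩ := Finset.mem_image.1 hM
    exact hN c
  set As := A.filter fun M => HasSlot (1 : F) (proj M)
  have hflip : ∀ M ∈ As, flipM (1 : F) M ∉ A := by
    intro M hM hM'
    obtain ⟨hMA, hs⟩ := Finset.mem_filter.1 hM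
    obtain ⟨-, g, L, hL, rfl⟩ := hAN M hMA
    obtain ⟨-, g', L', hL', e'⟩ := hAN _ hM'
    obtain ⟨R, h1, h3⟩ := flipM_eq hs
    obtain ⟨R, rfl⟩ : ∃ R' : List (Key F), (R' : Multiset (Key F)) = R := Quot.exists_rep R
    rw [Multiset.cons_coe, Multiset.coe_eq_coe] at h1
    rw [← e', Multiset.cons_coe, Multiset.coe_eq_coe] at h3
    exact not_isometric_of_flip h2 (pick_spec hs).2 (decomp_perm h1 _ hL) (decomp_perm h3 _ hL')
      ⟨LinearEquiv.refl F V, fun u v => by rw [hB g' g]; rfl⟩
  have hinj : Set.InjOn (flipM (1 : F)) As := fun M hM M' hM' h => by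
    rw [Finset.mem_coe, Finset.mem_filter] at hM hM'
    rw [← flipM_flipM (hAN M hM.1).1 hM.2, h, flipM_flipM (hAN M' hM'.1).1 hM'.2]
  have hdisj : Disjoint A (As.image (flipM (1 : F))) := Finset.disjoint_right.2 fun M hM => by
    obtain ⟨M', hM', rfl⟩ := Finset.mem_image.1 hM
    exact hflip M' hM'
  have hall := card_le_ortho h2 hq hn (A ∪ As.image (flipM (1 : F))) fun M hM => by
    rcases Finset.mem_union.1 hM with hM | hM
    · exact (hAN M hM).1
    · obtain ⟨M', hM', rfl⟩ := Finset.mem_image.1 hM
      rw [Finset.mem_filter] at hM'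
      exact normal_flipM (hAN M' hM'.1).1 hM'.2
  rw [Finset.card_union_of_disjoint hdisj, Finset.card_image_of_injOn hinj, Nat.cast_add] at hall
  have hnone := card_le_noSlot h2 hq hn (A.filter fun M => ¬ HasSlot (1 : F) (proj M))
    (fun M hM => (hAN M (Finset.mem_filter.1 hM).1).1) fun M hM k hk hs =>
      (Finset.mem_filter.1 hM).2 ⟨(k.g, k.e), Multiset.mem_map_of_mem _ hk, hs⟩
  have hsplit := Finset.card_filter_add_card_filter_not (s := A) (fun M => HasSlot (1 : F) (proj M))
  have hcard : Nat.card (ConjClasses G) = A.card := by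
    rw [hA, Finset.card_image_of_injective _ hΦ, Finset.card_univ, Nat.card_eq_fintype_card]
  rw [hcard]
  rw [← hsplit, Nat.cast_add] at hall ⊢
  linarith

end Cfsg.Agent.H7Class
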